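import Cfsg.Agent.H85.L3Spec
import Cfsg.Agent.S2690

/-! L33: the model of `N(A)`. -/

set_option autoImplicit false
set_option linter.unusedSectionVars false

namespace H85.L33

open Subgroup Cfsg H98 H1.Gold H85.FZ H85.S3 Matrix
open scoped MatrixGroups

universe u

theorem center3 : center SL(3, F3) = ⊥ := by
  refine eq_bot_iff.2 fun g hg => ?_
  obtain ⟨r, h1, h2⟩ := Matrix.SpecialLinearGroup.mem_center_iff.1 hg
  have : r = 1 := (by decide : ∀ r : F3, r ^ 3 = 1 → r = 1) r (by simpa using h1)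
  exact Subtype.ext (by rw [← h2, this]; simp)

/-- `SL₃(3) = PSL₃(3)`. -/
noncomputable def e3 : SL(3, F3) ≃* ProjectiveSpecialLinearGroup (Fin 3) F3 :=
  MulEquiv.ofBijective (QuotientGroup.mk' _) ⟨(MonoidHom.ker_eq_bot_iff _).1
    ((QuotientGroup.ker_mk' _).trans center3), QuotientGroup.mk'_surjective _⟩

theorem aut3 (β : MulAut SL(3, F3)) : ∃ h : SL(3, F3), (∀ g, β g = h * g * h⁻¹) ∨
    ∀ g, β g = h * (g⁻¹).transpose * h⁻¹ := by
  obtain ⟨δ, φ, γ, σ, ⟨g, h1⟩, h2, h3, e⟩ := Cfsg.Agent.S2690.result (F := F3) (p := 3) (f := 1)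
    (by simp) le_rfl (n := 3) (by norm_num) (by norm_num) (MulAut.congr e3 β)
  have hφ : ∀ s : SL(3, F3), φ (e3 s) = e3 s := fun s => h2 s s (by
    ext i j; exact (congrFun (congrArg DFunLike.coe (Subsingleton.elim (RingHom.id F3)
      (σ : F3 →+* F3))) _))
  have d : (g : Matrix (Fin 3) (Fin 3) F3).det ^ 4 = 1 :=
    (by decide : ∀ r : F3, r ≠ 0 → r ^ 4 = 1) _ ((isUnit_iff_isUnit_det _).1 g.isUnit).ne_zero
  let h : SL(3, F3) := ⟨(g : Matrix (Fin 3) (Fin 3) F3).det • g.1, by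
    rw [det_smul, Fintype.card_fin, ← pow_succ, d]⟩
  have hδ : ∀ s : SL(3, F3), δ (e3 s) = e3 (h * s * h⁻¹) := fun s => h1 s _ (by
    have : (h * s * h⁻¹).1 * g.1 = g.1 * s.1 := by
      have k : (h * s * h⁻¹).1 * h.1 = h.1 * s.1 :=
        congrArg Subtype.val (inv_mul_cancel_right (h * s) h)
      simp only [h, Matrix.mul_smul, Matrix.smul_mul] at k
      exact smul_right_injective _ ((isUnit_iff_isUnit_det _).1 g.isUnit).ne_zero k
    rw [← this, Matrix.mul_assoc, Units.mul_inv, Matrix.mul_one])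
  have k : ∀ s, e3 (β s) = δ (φ (γ (e3 s))) := fun s => by
    have := DFunLike.congr_fun e (e3 s)
    simpa using this
  refine ⟨h, h3.imp (fun r s => e3.injective ?_) fun r s => e3.injective ?_⟩
  · rw [k, r, MulAut.one_apply, hφ, hδ]
  · rw [k, show γ (e3 s) = e3 (s⁻¹).transpose from r s _ rfl, hφ, hδ]

theorem jobK0 : JobK0.{u} := fun G _ _ A ⟨e⟩ => by
  let ε := e3.trans e.symm
  refine ⟨A.subtype.comp ε.toMonoidHom, A.subtype_injective.comp ε.injective, by
    rw [MonoidHom.range_comp, MonoidHom.range_eq_top.2 ε.surjective, ← MonoidHom.range_eq_map,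
      range_subtype], fun n hn => ?_⟩
  obtain ⟨h, k⟩ := aut3 (MulAut.congr ε.symm (A.normalizerMonoidHom ⟨n, hn⟩))
  have r : ∀ g, n * (ε g : G) * n⁻¹ = ε (MulAut.congr ε.symm (A.normalizerMonoidHom ⟨n, hn⟩) g) :=
    fun g => by simp
  exact ⟨h, k.imp (fun k g => (r g).trans (by rw [k]; rfl)) fun k g => (r g).trans (by rw [k]; rfl)⟩

end H85.L33
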