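import Cfsg.Agent.H85.S3Spec
import Cfsg.Agent.H49.D8Kit2
import Cfsg.Agent.H92.Syl

/-! S3: lemmas on `SD` (elements, involutions, `dec`, four-groups) and on `Fr` (`cj`, `dec`, `zen`),
and the lemma `lz` on `2`-groups. -/

set_option autoImplicit false
set_option linter.unusedSectionVars false

namespace H85.S3

open Subgroup Cfsg H98 H1.Gold H85.FZ H49.D8

universe u

variable {G : Type u} [Group G] [Finite G] {v s z j d e g x y c t : G} {N A K T P J U : Subgroup G}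

/-- letters `z 0, v 1, s 2, j 3` -/
def tbS : Tb := .of 4 [(2, 1, [1, 0]), (3, 1, [2]), (3, 2, [1])] [(3, [0])]

namespace SD

variable (D : SD v s z j)
include D

theorem cj (g : G) : SD (g * v * g⁻¹) (g * s * g⁻¹) (g * z * g⁻¹) (g * j * g⁻¹) :=
  ⟨D.toDH.cj g, by rw [← D.jv]; group, by rw [← D.js]; group, by rw [← D.jj]; group⟩

theorem swap : SD s v z j := ⟨D.toDH.swap, D.js, D.jv, D.jj⟩

theorem jz : j * z = z * j := by rw [← D.jj]; group

theorem pres : Pres tbS (val [z, v, s, j]) := by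
  refine ⟨fun i hi k hk => ?_, fun i hi => ?_⟩ <;> change i < 4 at hi
  · interval_cases i <;> interval_cases k <;> simp only [tbS] <;> wsimp
    exacts [D.vz.symm, D.sz.symm, D.vs, D.jz.symm, by rw [← D.js]; group, by rw [← D.jv]; group]
  · interval_cases i <;> simp only [tbS] <;> wsimp
    exacts [D.zz, D.vv, D.ss, D.jj]

theorem D_le : cl [v, s] ≤ cl [v, s, j] := cl_mono (by simp)

theorem j_mem : j ∈ cl [v, s, j] := mem_cl (by simp)

theorem z_mem : z ∈ cl [v, s, j] := D.D_le D.toDH.z_mem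

theorem cl4 : cl [z, v, s, j] = cl [v, s, j] :=
  le_antisymm (cl_le.2 (by simp [D.z_mem, mem_cl])) (cl_mono (by simp))

theorem j_sw : j * v * j⁻¹ ∉ cl [v, z] := D.jv ▸ D.toDH.s_not

theorem j_not : j ∉ cl [v, s] := fun k => D.j_sw (D.toDH.nv_of_mem k)

theorem ind : Ind (val [z, v, s, j]) 4 :=
  Ind.snoc (l := [z, v, s]) D.toDH.ind (D.toDH.cl3 ▸ D.j_not)

theorem card : Nat.card (cl [v, s, j]) = 16 := by
  have := D.pres.card rfl (k := 4) le_rfl D.ind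
  rwa [H_val, show List.take 4 [z, v, s, j] = [z, v, s, j] from rfl, D.cl4] at this

theorem two : IsPGroup 2 (cl [v, s, j]) := IsPGroup.of_card (n := 4) D.card

theorem word (hd : d ∈ cl [v, s, j]) : ∃ w ∈ subs 4, d = W (val [z, v, s, j]) w :=
  D.pres.mem_cl rfl 4 le_rfl (D.cl4 ▸ hd)

theorem mem (hd : d ∈ cl [v, s, j]) : d ∈ cl [v, s] ∨ j⁻¹ * d ∈ cl [v, s] := by
  have := D.pres.mem_succ rfl (k := 3) (by decide) (g := d) (by
    rwa [H_val, show List.take 4 [z, v, s, j] = [z, v, s, j] from rfl, D.cl4])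
  rwa [H_val, show List.take 3 [z, v, s, j] = [z, v, s] from rfl, D.toDH.cl3] at this

theorem cz (hd : d ∈ cl [v, s, j]) : d * z = z * d :=
  mc1.1 ((cl_le (K := cen1 z)).2 (by simp [mc1, D.vz, D.sz, D.jz]) hd)

theorem j_nor : j ∈ nor (cl [v, s]) := nor_cl (by simp [D.jv, D.js, m1, m2])

theorem le_norD : cl [v, s, j] ≤ nor (cl [v, s]) :=
  cl_le.2 (by simp [D.j_nor, le_normalizer (m1 v s), le_normalizer (m2 v s)])

/-- An element of `S` outside `D` interchanges `V` and `V'`. -/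
theorem of_nv (hd : d ∈ cl [v, s, j]) (k : d * v * d⁻¹ ∈ cl [v, z]) : d ∈ cl [v, s] :=
  (D.mem hd).resolve_right fun m => D.j_sw (by
    have := (D.toDH.nv_mul D.j_nor (le_normalizer m)).1 (by rwa [mul_inv_cancel_left])
    exact this.2 (D.toDH.nv_of_mem m))

/-- The involutions of `S` lie in `D`. -/
theorem inv (hd : d ∈ cl [v, s, j]) (h2 : d * d = 1) : d ∈ cl [v, s] := by
  obtain ⟨w, hw, rfl⟩ := D.word hd
  rw [← W_append] at h2
  rcases (by decide +kernel : ∀ w ∈ subs 4, tbS.eqv (w ++ w) [] = false ∨ w.all (· < 3) = true) w hw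
    with k | k
  · exact absurd h2 (D.pres.ne D.ind k)
  · exact D.toDH.cl3 ▸ W_mem_cl [z, v, s, j] 3 k

/-- An element of `S` outside `D` has square `z` or a square of order `4`; it inverts or centralizes
`v s`. -/
theorem out (hd : d ∈ cl [v, s, j]) (k : d ∉ cl [v, s]) :
    (d * d = z ∧ d * (v * s) = v * s * z * d) ∨ (d * d * (d * d) = z ∧ d * (v * s) = v * s * d) := by
  obtain ⟨w, hw, rfl⟩ := D.word hd
  rcases (by decide +kernel : ∀ w ∈ subs 4, w.all (· < 3) = true ∨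
    (tbS.same (w ++ w) [0] = true ∧ tbS.same (w ++ [1, 2]) ([1, 2, 0] ++ w) = true) ∨
    (tbS.same (w ++ w ++ (w ++ w)) [0] = true ∧ tbS.same (w ++ [1, 2]) ([1, 2] ++ w) = true)) w hw
    with a | a | a
  · exact absurd (D.toDH.cl3 ▸ W_mem_cl [z, v, s, j] 3 a) k
  · exact Or.inl ⟨by simpa using D.pres.W_eq a.1, by simpa [mul_assoc] using D.pres.W_eq a.2⟩
  · exact Or.inr ⟨by simpa [mul_assoc] using D.pres.W_eq a.1,
      by simpa [mul_assoc] using D.pres.W_eq a.2⟩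

theorem jv4 : j * v * (j * v) * (j * v * (j * v)) = z := by
  simpa [mul_assoc] using D.pres.W_eq (w := [3, 1, 3, 1, 3, 1, 3, 1]) (w' := [0]) (by decide +kernel)

theorem sq_mem (hd : d ∈ cl [v, s, j]) : d * d ∈ cl [v * s] := by
  obtain ⟨w, hw, rfl⟩ := D.word hd
  have m : v * s ∈ cl [v * s] := mem_cl (by simp)
  rw [← W_append]
  rcases (by decide +kernel : ∀ w ∈ subs 4, tbS.same (w ++ w) [] = true ∨
    tbS.same (w ++ w) [1, 2] = true ∨ tbS.same (w ++ w) [1, 2, 1, 2] = true ∨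
    tbS.same (w ++ w) [1, 2, 1, 2, 1, 2] = true) w hw with a | a | a | a <;> rw [D.pres.W_eq a]
  · exact one_mem _
  · simpa using m
  · simpa [mul_assoc] using mul_mem m m
  · simpa [mul_assoc] using mul_mem m (mul_mem m m)

theorem cenv (hd : d ∈ cl [v, s, j]) (k : v * d = d * v) : d ∈ cl [v, z] :=
  D.toDH.cenv (D.of_nv hd (by rw [← k, mul_inv_cancel_right]; exact m1 _ _)) k

theorem cenD (hd : d ∈ cl [v, s, j]) (k : d ∈ cen (cl [v, s])) : d = 1 ∨ d = z :=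
  D.toDH.cenD (D.toDH.V_le (D.cenv hd (mcen.1 k v (m1 _ _)))) k

theorem norD (hg : g ∈ nor (cl [v, s, j])) : g ∈ nor (cl [v, s]) := by
  have k : ∀ y ∈ cl [v, s, j], y * y = 1 → g * y * g⁻¹ ∈ cl [v, s] := fun y hy e =>
    D.inv ((mem_normalizer_iff.1 hg y).1 hy) (by
      rw [show g * y * g⁻¹ * (g * y * g⁻¹) = g * (y * y) * g⁻¹ by group, e]; group)
  exact nor_cl (by simp [k v (D.D_le (m1 _ _)) D.vv, k s (D.D_le (m2 _ _)) D.ss])

theorem fixz (hg : g ∈ nor (cl [v, s, j])) : g * z = z * g := D.toDH.fixz (D.norD hg)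

/-- An element of `N(D)` acts on `D` as an element of `S`. -/
theorem dec (hg : g ∈ nor (cl [v, s])) : ∃ d ∈ cl [v, s, j], g * d⁻¹ ∈ cen (cl [v, s]) := by
  by_cases k : g * v * g⁻¹ ∈ cl [v, z]
  · obtain ⟨d, h1, h2⟩ := D.toDH.dec hg k
    exact ⟨d, D.D_le h1, h2⟩
  · obtain ⟨d, h1, h2⟩ := D.toDH.dec (mul_mem hg D.j_nor)
      ((D.toDH.nv_mul hg D.j_nor).2 (iff_of_false k D.j_sw))
    exact ⟨d * j⁻¹, mul_mem (D.D_le h1) (inv_mem D.j_mem), by
      rwa [show g * (d * j⁻¹)⁻¹ = g * j * d⁻¹ by group]⟩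

/-- An elementary subgroup of `S` lies in `V` or in `V'`. -/
theorem le_or (hU : U ≤ cl [v, s, j]) (h2 : ∀ e ∈ U, e * e = 1) : U ≤ cl [v, z] ∨ U ≤ cl [s, z] := by
  by_contra k
  obtain ⟨⟨a, ha, a1⟩, b, hb, b1⟩ := (not_or.1 k).imp SetLike.not_le_iff_exists.1
    SetLike.not_le_iff_exists.1
  have a2 := (D.toDH.inv (D.inv (hU ha) (h2 a ha)) (h2 a ha)).resolve_left a1
  have b2 := (D.toDH.inv (D.inv (hU hb) (h2 b hb)) (h2 b hb)).resolve_right b1
  have zV : ∀ y : G, z ∈ cl [y, z] := fun y => m2 _ _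
  have a3 : a = s ∨ a = s * z := by
    rcases D.toDH.swap.memV.1 a2 with rfl | rfl | h
    exacts [absurd (one_mem _) a1, absurd (zV _) a1, h]
  have b3 : b = v ∨ b = v * z := by
    rcases D.toDH.memV.1 b2 with rfl | rfl | h
    exacts [absurd (one_mem _) b1, absurd (zV _) b1, h]
  have := (D.toDH.of_mem b3 a3).1
  exact this.z1 (this.vsvs.symm.trans (h2 _ (mul_mem hb ha)))

theorem eq_or (hU : U ≤ cl [v, s, j]) (h2 : ∀ e ∈ U, e * e = 1) (h4 : 4 ≤ Nat.card U) :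
    U = cl [v, z] ∨ U = cl [s, z] :=
  (D.le_or hU h2).imp (fun k => eq_of_le_of_card_ge k (D.toDH.cardV ▸ h4))
    fun k => eq_of_le_of_card_ge k (D.toDH.swap.cardV ▸ h4)

/-- `S` has no normal four-group. -/
theorem not_nor (hU : U ≤ cl [v, s, j]) (h2 : ∀ e ∈ U, e * e = 1) (h4 : 4 ≤ Nat.card U) :
    j ∉ nor U := fun k => by
  rcases D.eq_or hU h2 h4 with rfl | rfl
  exacts [D.j_sw ((mem_normalizer_iff.1 k v).1 (m1 _ _)),
    D.swap.j_sw ((mem_normalizer_iff.1 k s).1 (m1 _ _))]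

/-- A four-group of `S` is self-centralizing. -/
theorem four (hU : U ≤ cl [v, s, j]) (h2 : ∀ e ∈ U, e * e = 1) (h4 : 4 ≤ Nat.card U) :
    cl [v, s, j] ⊓ cen U ≤ U := fun d hd => by
  rcases D.eq_or hU h2 h4 with rfl | rfl
  · exact D.cenv hd.1 (mcen.1 hd.2 v (m1 _ _))
  · exact D.swap.cenv (cl_mono (l := [v, s, j]) (by simp) hd.1) (mcen.1 hd.2 s (m1 _ _))

end SD

namespace Fr

variable (f : Fr N A K T v s z j)
include f

theorem S_le : cl [v, s, j] ≤ T := f.S ▸ inf_le_left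

theorem S_leA : cl [v, s, j] ≤ A := f.S ▸ inf_le_right

theorem nS (nA : N ≤ nor A) : T ≤ nor (cl [v, s, j]) :=
  f.S ▸ le_normalizer_inf le_normalizer (f.syl.le.trans nA)

theorem sylA (AN : A ≤ N) (nA : N ≤ nor A) : IsSyl 2 (cl [v, s, j]) A :=
  f.S ▸ f.syl.inf_of_le_normalizer AN (f.syl.le.trans nA)

theorem cj (g : G) : Fr (cj g N) (cj g A) (cj g K) (cj g T) (g * v * g⁻¹) (g * s * g⁻¹)
    (g * z * g⁻¹) (g * j * g⁻¹) := by
  have m : ∀ {c : G}, c ∈ H98.cj g T ⊓ cen (cl [g * v * g⁻¹, g * s * g⁻¹]) →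
      ∃ c' ∈ T ⊓ cen (cl [v, s]), c = g * c' * g⁻¹ := fun {c} hc => by
    rw [show cl [g * v * g⁻¹, g * s * g⁻¹] = H98.cj g (cl [v, s]) from (cj_cl g [v, s]).symm, cen,
      ← cj_centralizer, ← cj_inf, mem_cj] at hc
    exact ⟨_, hc, by group⟩
  have q : ∀ a b : G, g * a * g⁻¹ * (g * b * g⁻¹) = g * (a * b) * g⁻¹ := fun a b => by group
  refine ⟨f.toSD.cj g, f.syl.cj g, by rw [← cj_inf, f.S]; exact cj_cl g _, ?_,
    fun c hc c' hc' => ?_, fun c hc n => ?_⟩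
  · obtain ⟨σ, h1, h2⟩ := f.tri
    exact ⟨_, conj_mem_cj h1, h2.cj g⟩
  · obtain ⟨c, h1, rfl⟩ := m hc
    obtain ⟨c', h2, rfl⟩ := m hc'
    rw [q, In.cj, In.cj, In.cj]
    exact f.idx c h1 c' h2
  · obtain ⟨c, h0, rfl⟩ := m hc
    obtain ⟨a, b, w, hw, σ, h1, h2, h3⟩ := f.out c h0 fun k => n ((In.cj g).2 k)
    refine ⟨by rw [q]; exact conj_mem_cj a, by rw [q c z, ← b]; group, g * w * g⁻¹, ?_,
      _, conj_mem_cj h1, h2.cj g, by rw [q, q, h3]⟩
    rcases hw with rfl | rfl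
    exacts [Or.inl rfl, Or.inr (q _ _).symm]

/-- `T = (T ⊓ C(D)) S`. -/
theorem dec (nA : N ≤ nor A) (hx : x ∈ T) :
    ∃ c ∈ T ⊓ cen (cl [v, s]), ∃ d ∈ cl [v, s, j], x = c * d := by
  obtain ⟨d, hd, hc⟩ := f.toSD.dec (f.toSD.norD (f.nS nA hx))
  exact ⟨_, ⟨T.mul_mem hx (T.inv_mem (f.S_le hd)), hc⟩, d, hd, by group⟩

variable (h : Sc N A K)
include h

theorem one (h1 : x ∈ T) (h2 : x ∈ A) (h3 : x ∈ K) : x = 1 :=
  eq_one_of_odd_two h.odd f.syl.isPGroup ⟨h2, h3⟩ h1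

theorem zK : z ∉ K := fun k =>
  f.z1 (f.one h (f.S_le f.toSD.z_mem) (f.S_leA f.toSD.z_mem) k)

/-- `T ⊓ K` centralizes `S`. -/
theorem KS (h1 : x ∈ T) (h2 : x ∈ K) (hd : d ∈ cl [v, s, j]) : d * x = x * d := by
  have := f.one h (x := d * x * d⁻¹ * x⁻¹)
    (mul_mem (mul_mem (mul_mem (f.S_le hd) h1) (inv_mem (f.S_le hd))) (inv_mem h1))
    (by rw [show d * x * d⁻¹ * x⁻¹ = d * (x * d⁻¹ * x⁻¹) by group]
        exact mul_mem (f.S_leA hd) ((mem_normalizer_iff.1 (h.nA (f.syl.le h1)) _).1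
          (inv_mem (f.S_leA hd))))
    (mul_mem ((mem_normalizer_iff.1 (h.nK (h.AN (f.S_leA hd))) x).1 h2) (inv_mem h2))
  rw [mul_inv_eq_one, mul_inv_eq_iff_eq_mul] at this
  exact this

/-- An element of `T` that centralizes `S` lies in `K ⟨z⟩`. -/
theorem in_of_cen (h1 : x ∈ T) (h2 : ∀ d ∈ cl [v, s, j], d * x = x * d) : In K z x := by
  by_contra k
  have := (f.out x ⟨h1, mcen.2 fun d hd => h2 d (f.toSD.D_le hd)⟩ k).2.1
  rw [h2 j f.toSD.j_mem, mul_inv_cancel_right, left_eq_mul] at this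
  exact f.z1 this

end Fr

/-- The involution of a cyclic `2`-subgroup of `K`. -/
theorem Ct.uniq (h : Ct t A K) (hT : IsPGroup 2 T) (tT : t ∈ T) (h1 : x ∈ T) (h2 : x ∈ K)
    (xx : x * x = 1) : x = 1 ∨ x = t := by
  have := h.cyc (T ⊓ K) inf_le_right (hT.to_le inf_le_left)
  have := Fintype.ofFinite ↥(T ⊓ K)
  by_contra k
  push Not at k
  have o : orderOf x = 2 := orderOf_eq_prime ((pow_two x).trans xx) k.1
  have := IsCyclic.card_orderOf_eq_totient (α := ↥(T ⊓ K)) (d := 2) (by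
    rw [← Nat.card_eq_fintype_card, ← h.o, ← orderOf_mk t (mem_inf.2 ⟨tT, h.tK⟩)]
    exact orderOf_dvd_natCard _)
  obtain ⟨a, ha⟩ := Finset.card_eq_one.1 this
  have m : ∀ y : ↥(T ⊓ K), orderOf (y : G) = 2 → y = a := fun y hy =>
    Finset.mem_singleton.1 (ha ▸ by simpa using hy)
  exact k.2 (congrArg Subtype.val ((m ⟨x, h1, h2⟩ o).trans (m ⟨t, tT, h.tK⟩ h.o).symm))

theorem Fr.tT (f : Fr (cen1 t) A K T v s z j) (h : Ct t A K) : t ∈ T :=
  f.syl.le_of_le_normalizer (Q := zpowers t)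
    (IsPGroup.of_card (n := 1) (by rw [Nat.card_zpowers, h.o, pow_one])) (zpowers_le.2 (mc1.2 rfl))
    (fun g hg => mem_normalizer_of_cj_le (map_le_iff_le_comap.2 (zpowers_le.2 (by
      have := mc1.1 (f.syl.le hg)
      simp [mem_comap, this])))) (mem_zpowers t)

/-- `Ω₁ Z(T) ≤ ⟨t, z⟩`. -/
theorem Fr.zen (f : Fr (cen1 t) A K T v s z j) (h : Ct t A K) (h1 : x ∈ T) (xx : x * x = 1)
    (h2 : ∀ d ∈ cl [v, s, j], d * x = x * d) : x = 1 ∨ x = t ∨ x = z ∨ x = t * z := by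
  have zT := f.S_le f.toSD.z_mem
  rcases f.in_of_cen h.toSc h1 h2 with k | k
  · exact (h.uniq f.syl.isPGroup (f.tT h) h1 k xx).imp_right Or.inl
  · have e : x = x * z * z := by rw [mul_assoc, f.zz, mul_one]
    rcases h.uniq f.syl.isPGroup (f.tT h) (mul_mem h1 zT) k (by
      rw [mul_assoc, ← mul_assoc z, h2 z f.toSD.z_mem, mul_assoc, f.zz, mul_one, xx]) with a | a
    · rw [a, one_mul] at e; simp [e]
    · rw [a] at e; simp [e]

/-- A `2`-group in which `t` is self-centralizing modulo `J`. -/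
theorem lz (hP : IsPGroup 2 P) (hJ : J ≤ P) (nJ : P ≤ nor J) (ht : t ∈ P) (tt : t * t ∈ J)
    (k : ∀ y ∈ P, y * t * y⁻¹ * t⁻¹ ∈ J → y ∈ J ⊔ zpowers t) : P = J ⊔ zpowers t := by
  have l : J ⊔ zpowers t ≤ P := sup_le hJ (zpowers_le.2 ht)
  by_contra n
  obtain ⟨y, h1, h2, h3⟩ := H92.exists_mem_normalizer_not_mem hP (lt_of_le_of_ne l (Ne.symm n))
  have m : ∀ a ∈ J ⊔ zpowers t, a ∈ J ∨ a * t⁻¹ ∈ J := fun a ha => by
    have c : ∀ b ∈ J, t * b * t⁻¹ ∈ J := fun b => (mem_normalizer_iff.1 (nJ ht) b).1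
    rw [← closure_eq J, zpowers_eq_closure, ← Subgroup.closure_union] at ha
    refine closure_induction'' (fun a ha => ?_) (fun a ha => ?_) (Or.inl (one_mem _))
      (fun a b _ _ ha hb => ?_) ha
    · rcases ha with ha | rfl
      exacts [Or.inl ha, Or.inr (by simp)]
    · rcases ha with ha | rfl
      exacts [Or.inl (inv_mem ha), Or.inr (by simpa using inv_mem tt)]
    · rcases ha with ha | ha <;> rcases hb with hb | hb
      · exact Or.inl (mul_mem ha hb)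
      · exact Or.inr (by simpa [mul_assoc] using mul_mem ha hb)
      · exact Or.inr (by simpa [mul_assoc] using mul_mem ha (c b hb))
      · exact Or.inl (by simpa [mul_assoc] using mul_mem (mul_mem ha (c _ hb)) tt)
  refine h3 (k y h1 ?_)
  rcases m _ ((mem_normalizer_iff.1 h2 t).1 (mem_sup_right (mem_zpowers t))) with a | a
  · exact mul_mem a (inv_mem ((mem_normalizer_iff.1 (nJ h1) t).2 a))
  · exact a

/-- The bound from a Sylow subgroup. -/
theorem bd_of_syl (hP : IsSyl 2 P ⊤) (k : Nat.card P ≤ 1024) : Bd G := fun d => by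
  have e := hP.card_eq
  rw [card_top] at e
  have := (Nat.prime_two.pow_dvd_iff_le_factorization Nat.card_pos.ne').1 d
  have := Nat.pow_le_pow_right (n := 2) (by decide) this
  omega

/-- A `2`-subgroup that contains its normalizer in every larger `2`-subgroup is Sylow. -/
theorem syl_of_nor (hP : IsPGroup 2 P)
    (k : ∀ Q : Subgroup G, IsPGroup 2 Q → P ≤ Q → ∀ n ∈ Q, n ∈ nor P → n ∈ P) : IsSyl 2 P ⊤ :=
  ⟨le_top, hP, fun Q hQ l _ => by
    by_contra n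
    obtain ⟨y, h1, h2, h3⟩ := H92.exists_mem_normalizer_not_mem hQ (lt_of_le_of_ne l (Ne.symm n))
    exact h3 (k Q hQ l y h1 h2)⟩

end H85.S3
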