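import Cfsg.Agent.H85.DZAn
import Cfsg.Agent.H85.S3Kit
import Cfsg.Agent.H49.NWKit

/-! DY (`blueprints/S3.md`): the tower `H85.DZ` when `T ⟨d⟩` is Sylow in `C(t)`, without a sign
character of `C(t)`; the outcome is the bound on `|X|₂`. -/

set_option autoImplicit false
set_option linter.unusedSectionVars false

namespace H85.DY
open H85.DZ

open Subgroup Cfsg H14 H98 H1.Gold H31.S2 H85.FZ H49.D8

universe u

variable {G : Type u} [Group G]

/-- `T` is Sylow in `C(t)`, or there is a `d` that normalizes `P`. -/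
def Nd (t v s u a : G) (P : Subgroup G) : Prop :=
  IsSyl 2 (cl [a, u, v, t, s]) (cen1 t) ∨ ∃ d ∈ nor P, Dd t v s u a d

structure Loc (t v s u a σ ρ : G) : Prop extends Lc t v s u a σ ρ where
  top : IsSyl 2 (cl [a, u, v, t, s]) (cen1 t) ∨ ∃ d, Dd t v s u a d
  nsyl : ¬ IsSyl 2 (cl [a, u, v, t, s]) (cen1 t)

structure Base (t v s u a σ ρ : G) : Prop extends Loc t v s u a σ ρ where
  nu : ¬ IsConj t u
  na : ¬ IsConj t a

structure Nar (t v s u a σ ρ : G) : Prop extends Base t v s u a σ ρ where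
  narA : ∀ g ∈ nor (cl [a, u, v, t]), g * t * g⁻¹ ≠ t * u ∧ g * t * g⁻¹ ≠ t * a
  narB : ∀ g ∈ nor (cl [u, a, s, t]), g * t * g⁻¹ ≠ t * u ∧ g * t * g⁻¹ ≠ t * a

structure Wid (t v s u a σ ρ : G) : Prop extends Base t v s u a σ ρ where
  exu : ∃ g ∈ N0 t v s u a, g * t * g⁻¹ = t * u
  exa : ∃ g ∈ N0 t v s u a, g * t * g⁻¹ = t * a

/-- `D ∩ Z(T) = {t, t a}`. -/
structure Zp (t v s u a σ ρ : G) : Prop extends Base t v s u a σ ρ where
  ntz : ¬ IsConj t (t * (u * a))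
  ntu : ¬ IsConj t (t * u)
  exa : ∃ g ∈ N0 t v s u a, g * t * g⁻¹ = t * a

structure N1 (t v s u a σ ρ y : G) : Prop extends Nar t v s u a σ ρ where
  pres : Pres tbN (val [a, u, v, t, s, y])
  nd : Nd t v s u a (cl [a, u, v, t, s, y])

structure W1 (t v s u a σ ρ p q : G) (α β γa γu : Bool) : Prop extends Base t v s u a σ ρ where
  pres : Pres (tbW α β γa γu) (val [a, u, v, t, s, p, q])
  σp : σ * p * σ⁻¹ = p * W (val [a, u]) (ow β [1, 0])
  ρq : ρ * q * ρ⁻¹ = q * W (val [a, u]) (ow α [1, 0])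
  nd : Nd t v s u a (cl [a, u, v, t, s, p, q])

structure WD (t v s u a σ ρ p q : G) (α β γa γu : Bool) (i j : ℕ) (k l : Bool) : Prop
    extends W1 t v s u a σ ρ p q α β γa γu where
  sA : SdW t v s u a σ p q i k
  sB : SdW t s v a u ρ q p j l

def Out2 (X : Subgroup G) (_ : G) : Prop := S3.Bd X

/-! ### Jobs -/

/-- DZ-Z: fusion in `Z(T)`. -/
def JobZ : Prop :=
  ∀ (G : Type u) [Group G] [Finite G] (t v s u a σ ρ : G), Loc t v s u a σ ρ →
    (∃ n ∈ nor (cl [a, u, v, t, s]), n * t * n⁻¹ ≠ t) → ∃ u a,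
      (Nar t v s u a σ ρ ∧ ∃ y ∈ N0 t v s u a, y * t * y⁻¹ = t * (u * a) ∧ y * u = u * y) ∨
      Wid t v s u a σ ρ ∨ Zp t v s u a σ ρ ∨ Zp t s v a u ρ σ

/-- DZ-Zp: `S₈`, `S₉`. -/
def JobZp : Prop :=
  ∀ (G : Type u) [Group G] [Finite G] (t v s u a σ ρ : G), Zp t v s u a σ ρ → False

/-- DZ-N: the narrow data. -/
def JobN : Prop :=
  ∀ (G : Type u) [Group G] [Finite G] (t v s u a σ ρ : G), Nar t v s u a σ ρ →
    (∃ y ∈ N0 t v s u a, y * t * y⁻¹ = t * (u * a) ∧ y * u = u * y) →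
    ∃ σ ρ y Z k Z' k', N1 t v s u a σ ρ y ∧ SdN t v s u a σ y Z k ∧ SdN t s v a u ρ y Z' k'

/-- DZ-W: the wide data. -/
def JobW : Prop :=
  ∀ (G : Type u) [Group G] [Finite G] (t v s u a σ ρ : G), Wid t v s u a σ ρ → ∃ σ ρ p q k l,
    WD t v s u a σ ρ p q false false false false 0 0 k l ∨
    WD t v s u a σ ρ p q false false true true 1 1 k l ∨
    WD t v s u a σ ρ p q false true false true 2 3 k l ∨
    WD t s v a u ρ σ q p false true false true 2 3 k l ∨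
    WD t v s u a σ ρ p q true true true true 3 3 k l

/-- Narrow, types (E, E). -/
def JobNE : Prop :=
  ∀ (G : Type u) [Group G] [Finite G] (X : Subgroup G) (t v s u a σ ρ y : G) (k k' : Bool), AS X t →
    N1 t v s u a σ ρ y → SdN t v s u a σ y false k → SdN t s v a u ρ y false k' → Out2 X t

/-- Narrow, type Z. -/
def JobNZ : Prop :=
  ∀ (G : Type u) [Group G] [Finite G] (X : Subgroup G) (t v s u a σ ρ y : G) (k Z' k' : Bool),
    AS X t → N1 t v s u a σ ρ y → SdN t v s u a σ y true k → SdN t s v a u ρ y Z' k' → Out2 X t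

def JobWA : Prop :=
  ∀ (G : Type u) [Group G] [Finite G] (X : Subgroup G) (t v s u a σ ρ p q : G) (k l : Bool), AS X t →
    WD t v s u a σ ρ p q false false false false 0 0 k l → Out2 X t

def JobWB : Prop :=
  ∀ (G : Type u) [Group G] [Finite G] (X : Subgroup G) (t v s u a σ ρ p q : G) (k l : Bool), AS X t →
    WD t v s u a σ ρ p q false false true true 1 1 k l → Out2 X t

def JobWC : Prop :=
  ∀ (G : Type u) [Group G] [Finite G] (X : Subgroup G) (t v s u a σ ρ p q : G) (k l : Bool), AS X t →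
    WD t v s u a σ ρ p q false true false true 2 3 k l → Out2 X t

def JobWD : Prop :=
  ∀ (G : Type u) [Group G] [Finite G] (X : Subgroup G) (t v s u a σ ρ p q : G) (k l : Bool), AS X t →
    WD t v s u a σ ρ p q true true true true 3 3 k l → Out2 X t

/-! ### Symmetry -/

variable {t v s u a σ ρ p q y d : G} {P : Subgroup G}

theorem Dd.swap (h : Dd t v s u a d) : Dd t s v a u d :=
  ⟨h.dt, h.ds, h.dv, h.du, h.da, h.dd, by
    rw [le_antisymm (cl_mono (l := [u, a, s, t, v, d]) (l' := [a, u, v, t, s, d]) (by simp))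
      (cl_mono (by simp))]; exact h.syl⟩

theorem Nd.swap (h : Nd t v s u a P) : Nd t s v a u P :=
  h.imp (by rw [cl_swap]; exact id) fun ⟨d, h1, h2⟩ => ⟨d, h1, h2.swap⟩

theorem Loc.swap (h : Loc t v s u a σ ρ) : Loc t s v a u ρ σ :=
  ⟨lc_swap h.toLc, h.top.imp (by rw [cl_swap]; exact id) fun ⟨d, h⟩ => ⟨d, h.swap⟩,
    by rw [cl_swap]; exact h.nsyl⟩

theorem Base.swap (h : Base t v s u a σ ρ) : Base t s v a u ρ σ := ⟨h.toLoc.swap, h.na, h.nu⟩

theorem Nar.swap (h : Nar t v s u a σ ρ) : Nar t s v a u ρ σ :=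
  ⟨h.toBase.swap, fun g hg => (h.narB g hg).symm, fun g hg => (h.narA g hg).symm⟩

theorem Wid.swap (h : Wid t v s u a σ ρ) : Wid t s v a u ρ σ :=
  ⟨h.toBase.swap, by rw [N0_swap]; exact h.exa, by rw [N0_swap]; exact h.exu⟩

theorem N1.swap (h : N1 t v s u a σ ρ y) : N1 t s v a u ρ σ y :=
  ⟨h.toNar.swap, h.pres.derive' tbN [(0, [1]), (1, [0]), (2, [4]), (4, [2])]
    (fun i hi => by change i < 6 at hi; interval_cases i <;> wsimp) rfl (by decide +kernel), by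
    rw [le_antisymm (cl_mono (l := [u, a, s, t, v, y]) (l' := [a, u, v, t, s, y]) (by simp))
      (cl_mono (by simp))]; exact h.nd.swap⟩

theorem W1.swap {α β γa γu : Bool} (h : W1 t v s u a σ ρ p q α β γa γu) :
    W1 t s v a u ρ σ q p β α γu γa := by
  have e : ∀ b, W (val [u, a]) (ow b [1, 0]) = W (val [a, u]) (ow b [1, 0]) := fun b => by
    cases b
    · rfl
    · simp [ow, h.au]
  refine ⟨h.toBase.swap, h.pres.derive' _ [(0, [1]), (1, [0]), (2, [4]), (4, [2]), (5, [6]), (6, [5])]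
    (fun i hi => by change i < 7 at hi; interval_cases i <;> wsimp) ?_ ?_, by rw [e, h.ρq],
    by rw [e, h.σp], ?_⟩
  · clear e h; revert α β γa γu; decide +kernel
  · clear e h; revert α β γa γu; decide +kernel
  · rw [le_antisymm (cl_mono (l := [u, a, s, t, v, q, p]) (l' := [a, u, v, t, s, p, q]) (by simp))
      (cl_mono (by simp))]
    exact h.nd.swap

open H62.FZ

variable [Finite G] {g x n : G} {Q R E M S X : Subgroup G}

theorem Dd.act (k : Dd t v s u a d) (l : List G) :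
    Act (val (a :: u :: v :: t :: s :: l)) d (List.range 5) fd := fun r hr => by
  have hr := List.mem_range.1 hr
  interval_cases r <;> simp only [fd] <;> wsimp
  exacts [k.da, k.du, k.dv, k.dt, k.ds]

theorem Dd.norT (k : Dd t v s u a d) : d ∈ nor (cl [a, u, v, t, s]) := by
  have := (k.act []).nor (by decide)
  rwa [H_val] at this

theorem Dd.pres (k : Dd t v s u a d) (h : Tr t v s u a) :
    ∃ b, Pres (tbD b) (val [a, u, v, t, s, d]) ∧ d * d = bif b then t else 1 := by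
  have P : Pres tbT (val [a, u, v, t, s, d]) :=
    pres_congr (fun i hi => by change i < 5 at hi; interval_cases i <;> rfl) h.pres rfl
  have A := act_inv P (k.act [d]) rfl rfl
  rcases k.dd with e | e
  · exact ⟨false, pres_top P A e, e⟩
  · exact ⟨true, pres_top P A (by simpa [ow, tbT, Tb.of] using e), e⟩

theorem Dd.not_norA (k : Dd t v s u a d) (h : Tr t v s u a) : d ∉ nor (cl [a, u, v, t]) := fun e =>
  h.s_notMem (k.dv ▸ conj_mem_of_mem_normalizer e (mem_cl (by simp)))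

theorem Dd.ind (k : Dd t v s u a d) (h : Tr t v s u a) : Ind (val [a, u, v, t, s, d]) 6 :=
  h.ind.snoc (l := [a, u, v, t, s]) fun e => k.not_norA h (h.le_norA e)

theorem Dd.card (k : Dd t v s u a d) (h : Tr t v s u a) : Nat.card (cl [a, u, v, t, s, d]) = 64 := by
  obtain ⟨b, P, -⟩ := k.pres h
  have := P.card (by cases b <;> rfl) (k := 6) le_rfl (k.ind h)
  rwa [H_val] at this

/-- Involutions outside `T` do not lie in an `E₁₆`. -/
theorem Dd.e16 (k : Dd t v s u a d) (h : Tr t v s u a) (hE : E ≤ cl [a, u, v, t, s, d])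
    (h2 : ∀ e ∈ E, e * e = 1) (hc : Nat.card E = 16) : E ≤ cl [a, u, v, t, s] := by
  classical
  obtain ⟨b, P, -⟩ := k.pres h
  have wf : (tbD b).wf = true := by cases b <;> rfl
  intro e he
  obtain ⟨w, hw, e1⟩ := P.mem_cl wf 6 le_rfl (hE he)
  rcases (by decide +kernel : ∀ b, ∀ w ∈ subs 6, w.all (· < 5) = true ∨ ((tbD b).eqv (w ++ w) [] = true →
      ((subs 6).filter fun w' => (tbD b).eqv (w' ++ w') [] && (tbD b).eqv (w ++ w') (w' ++ w)).length
        < 16)) b w hw with k1 | k1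
  · exact e1 ▸ cl_mono (by simp) (W_mem_cl [a, u, v, t, s, d] 5 k1)
  exfalso
  have k1 := k1 (P.eqv (k.ind h) (by rw [W_append, ← e1, h2 e he, W_nil]))
  have : (E : Set G) ⊆ ↑(((subs 6).filter fun w' => (tbD b).eqv (w' ++ w') [] &&
      (tbD b).eqv (w ++ w') (w' ++ w)).map (W (val [a, u, v, t, s, d]))).toFinset := fun y hy => by
    obtain ⟨w', hw', e2⟩ := P.mem_cl wf 6 le_rfl (hE hy)
    refine List.mem_toFinset.2 (List.mem_map.2 ⟨w', List.mem_filter.2 ⟨hw', ?_⟩, e2.symm⟩)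
    rw [P.eqv (k.ind h) (by rw [W_append, ← e2, h2 y hy, W_nil]), P.eqv (k.ind h) (by
      rw [W_append, W_append, ← e1, ← e2, ← inv_eq_of_mul_eq_one_right (h2 _ (mul_mem he hy)),
        mul_inv_rev, inv_eq_of_mul_eq_one_right (h2 _ he), inv_eq_of_mul_eq_one_right (h2 _ hy)])]
    rfl
  have := Set.ncard_le_ncard this
  rw [Set.ncard_coe_finset, ← Nat.card_coe_set_eq, SetLike.coe_sort_coe, hc] at this
  have := this.trans (List.toFinset_card_le _)
  rw [List.length_map] at this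
  omega

namespace Loc

variable (h : Loc t v s u a σ ρ)
include h

theorem exists_cj (hx : IsConj t x) (hQ : IsPGroup 2 Q) (hc : Q ≤ cen1 x) : ∃ g, g * t * g⁻¹ = x ∧
    (cj g⁻¹ Q ≤ cl [a, u, v, t, s] ∨ ∃ d, Dd t v s u a d ∧ cj g⁻¹ Q ≤ cl [a, u, v, t, s, d]) := by
  obtain ⟨c, rfl⟩ := isConj_iff.1 hx
  have k : ∀ S, IsSyl 2 S (cen1 t) → ∃ g, g * t * g⁻¹ = c * t * c⁻¹ ∧ cj g⁻¹ Q ≤ S := fun S hS => by
    obtain ⟨d, d1, d2⟩ := hS.exists_cj_le (isPGroup_cj c⁻¹ hQ) (by rwa [cj_le_iff, inv_inv, cj_cen1])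
    refine ⟨c * d⁻¹, ?_, by rwa [mul_inv_rev, inv_inv, ← cj_cj]⟩
    rw [mul_assoc c, mem_cen1.1 (inv_mem d1)]; group
  rcases h.top with e | ⟨d, e⟩
  · exact (k _ e).imp fun g e => ⟨e.1, Or.inl e.2⟩
  · exact (k _ e.syl).imp fun g e' => ⟨e'.1, Or.inr ⟨d, e, e'.2⟩⟩

theorem card_le (hx : IsConj t x) (hQ : IsPGroup 2 Q) (hc : Q ≤ cen1 x) : Nat.card Q ≤ 64 := by
  obtain ⟨g, -, e | ⟨d, k, e⟩⟩ := h.exists_cj hx hQ hc <;> rw [← card_cj g⁻¹]
  · exact (card_le_of_le e).trans (by rw [h.card]; decide)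
  · exact (card_le_of_le e).trans (k.card h.toTr).le

theorem e16 (hx : IsConj t x) (h2 : ∀ e ∈ E, e * e = 1) (hc : Nat.card E = 16) (hE : x ∈ cen E) :
    ∃ g, g * t * g⁻¹ = x ∧ (E = cj g (cl [a, u, v, t]) ∨ E = cj g (cl [u, a, s, t])) := by
  obtain ⟨g, e1, e⟩ := h.exists_cj hx (IsPGroup.of_card (n := 4) hc) (le_cen1_iff.2 hE)
  have h3 : ∀ y ∈ cj g⁻¹ E, y * y = 1 := fun y hy => by
    simpa [mul_assoc] using congrArg (fun r => g⁻¹ * r * g) (h2 _ (mem_cj.1 hy))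
  refine ⟨g, e1, (h.le_or (e.elim id fun ⟨d, k, e⟩ => k.e16 h.toTr e h3 (by rw [card_cj, hc])) h3).imp
    (fun e => ?_) fun e => ?_⟩
  · rw [← eq_of_le_of_card_ge e (by rw [card_cj, hc, h.cardA]), cj_cj, mul_inv_cancel, cj_one]
  · rw [← eq_of_le_of_card_ge e (by rw [card_cj, hc, h.toTr.swap.cardA]), cj_cj, mul_inv_cancel,
      cj_one]

/-- (SC) -/
theorem sc (hx : IsConj t x) (h2 : ∀ e ∈ E, e * e = 1) (hc : Nat.card E = 16) (hE : x ∈ cen E)
    (hQ : IsPGroup 2 Q) (le : Q ≤ cen E) : Q ≤ E := by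
  obtain ⟨g, -, rfl | rfl⟩ := h.e16 hx h2 hc hE <;> rw [← cj_le_cj_iff (g := g⁻¹)] at le ⊢ <;>
    rw [cj_centralizer] at le <;> rw [cj_cj, inv_mul_cancel, cj_one] at le ⊢
  exacts [ca2 h.toLc (isPGroup_cj _ hQ) le, ca2 (lc_swap h.toLc) (isPGroup_cj _ hQ) le]

/-- (N32) -/
theorem n32 (hx : IsConj t x) (h2 : ∀ e ∈ E, e * e = 1) (hc : Nat.card E = 16) (hE : x ∈ cen E)
    (hQ : IsPGroup 2 Q) (le : Q ≤ cen1 x ⊓ nor E) :
    ∃ g, g * t * g⁻¹ = x ∧ cj g⁻¹ Q ≤ cl [a, u, v, t, s] := by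
  have k : ∀ g A, IsSyl 2 (cl [a, u, v, t, s]) (cen1 t ⊓ nor A) → Q ≤ cen1 (g * t * g⁻¹) ⊓ nor (cj g A) →
      ∃ c, c * t * c⁻¹ = g * t * g⁻¹ ∧ cj c⁻¹ Q ≤ cl [a, u, v, t, s] := fun g A hS le => by
    obtain ⟨d, d1, d2⟩ := hS.exists_cj_le (isPGroup_cj g⁻¹ hQ) (by
      rwa [cj_le_iff, inv_inv, cj_inf, cj_cen1, cj_normalizer])
    refine ⟨g * d⁻¹, ?_, by rwa [mul_inv_rev, inv_inv, ← cj_cj]⟩
    rw [mul_assoc g, mem_cen1.1 (inv_mem d1.1)]; group
  obtain ⟨g, rfl, rfl | rfl⟩ := h.e16 hx h2 hc hE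
  exacts [k g _ h.A.syl le, k g _ (cl_swap a u v t s ▸ h.B.syl) le]

theorem burn (hx : IsConj t x) (hc : cl [a, u, v, t, s] ≤ cen1 x) :
    ∃ n ∈ nor (cl [a, u, v, t, s]), n * t * n⁻¹ = x := by
  obtain ⟨g, e1, e2⟩ := h.n32 hx (fun _ => h.A_sq) h.cardA
    (le_cen1_iff.1 ((cl_mono (by simp)).trans hc)) h.isPGroup (le_inf hc h.le_norA)
  exact ⟨g, by simpa using inv_mem (mem_normalizer_of_cj_le e2), e1⟩

theorem nz : ¬ IsConj t (u * a) := fun c => by
  obtain ⟨n, hn, e⟩ := h.burn c (le_cen1_iff.2 (by simpa using h.toTr.zw_mem (w := [1, 0]) (by decide)))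
  rw [← h.toTr.gz hn] at e
  exact h.pres.ne h.ind (w := [3]) (w' := [1, 0]) rfl (by simpa using e)

theorem ne_one : ¬ IsConj t 1 := fun c =>
  h.pres.ne h.ind (w := [3]) (w' := []) rfl (by simpa using isConj_one_left.1 c)

end Loc

/-- `t` is not a square if `d ^ 2 = 1`. -/
theorem Dd.not_sq (k : Dd t v s u a d) (h : Tr t v s u a) (dd : d * d = 1) (x : G)
    (hx : IsConj t (x * x)) : False := by
  obtain ⟨c, e⟩ := isConj_iff.1 hx.symm
  rw [← conj_mul] at e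
  generalize c * x * c⁻¹ = y at e
  obtain ⟨d', d1, d2⟩ := k.syl.exists_cj_le (isPGroup_zpowers (x := y) (k := 2) (by
    rw [show 2 ^ 2 = 2 * 2 by rfl, pow_mul, pow_two y, e, pow_two, h.tt]))
    (zpowers_le.2 (mem_cen1.2 (by rw [← e, mul_assoc])))
  obtain ⟨b, P, e1⟩ := k.pres h
  cases b
  · obtain ⟨w, hw, e2⟩ := P.mem_cl rfl 6 le_rfl (d2 (conj_mem_cj (mem_zpowers y)))
    refine P.ne (k.ind h) ((by decide +kernel : ∀ w ∈ subs 6,
      (tbD false).eqv (w ++ w) [3] = false) w hw) ?_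
    rw [W_append, ← e2, conj_mul, e, mem_cen1.1 d1]; simp
  · exact h.pres.ne h.ind (w := [3]) (w' := []) rfl (by simpa using e1.symm.trans dd)

/-- `A₀` contains no conjugate of `t`. -/
theorem Base.notD (h : Base t v s u a σ ρ) (hx : x ∈ cl [a, u, v]) : ¬ IsConj t x := fun c => by
  obtain ⟨w, hw, rfl⟩ := h.pres.mem_cl rfl 3 (by decide) hx
  have k : ∀ w ∈ subs 3, w.all (· ∈ [0, 1, 2, 3]) = true ∧ ∃ f ∈ [[], sg, sgi],
      ∃ w' ∈ subs 2, tbT.same (app f w) w' = true := by decide +kernel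
  obtain ⟨k1, f, hf, w', hw', e⟩ := k w hw
  have c' : IsConj t (W (val [a, u, v, t, s]) w') := by
    rw [← h.pres.W_eq e]
    simp only [List.mem_cons, List.not_mem_nil, or_false] at hf
    rcases hf with rfl | rfl | rfl
    · simpa [app] using c
    · exact c.trans (isConj_iff.2 ⟨_, (hact h.A [s]).w k1⟩)
    · exact c.trans (isConj_iff.2 ⟨_, (hacti h.A h.toTr [s]).w k1⟩)
  simp only [subs, List.map_cons, List.map_nil, List.cons_append, List.nil_append, List.mem_cons,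
    List.not_mem_nil, or_false] at hw'
  rcases hw' with rfl | rfl | rfl | rfl
  · exact h.ne_one (by simpa using c')
  · exact h.na (by simpa using c')
  · exact h.nu (by simpa using c')
  · exact h.nz (by simpa using c')

theorem N1.ind (h : N1 t v s u a σ ρ y) : Ind (val [a, u, v, t, s, y]) 6 :=
  h.toTr.ind.snoc (l := [a, u, v, t, s]) fun e => by
    have := h.pres.cj 5 (by decide) 3 (by decide)
    simp only [tbN] at this
    wsimp at this
    rw [← mem_cen1.1 (h.A.syl.le e).1, mul_right_inj] at this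
    exact h.toTr.pres.ne h.toTr.ind (w := [3]) (w' := [3, 1, 0]) rfl (by simpa using this)

theorem W1.ind {α β γa γu : Bool} (h : W1 t v s u a σ ρ p q α β γa γu) :
    Ind (val [a, u, v, t, s, p, q]) 7 := by
  have I : Ind (val [a, u, v, t, s, p]) 6 := h.toTr.ind.snoc (l := [a, u, v, t, s]) fun e => by
    have := h.pres.cj 5 (show 5 < 7 by decide) 3 (by decide)
    simp only [tbW] at this
    wsimp at this
    rw [← mem_cen1.1 (h.A.syl.le e).1, mul_right_inj] at this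
    exact h.toTr.pres.ne h.toTr.ind (w := [3]) (w' := [3, 1]) rfl (by simpa using this)
  refine I.snoc (l := [a, u, v, t, s, p]) fun e => ?_
  obtain ⟨w, hw, e⟩ := h.pres.mem_cl ((by decide +kernel : ∀ α β γa γu, (tbW α β γa γu).wf = true)
    _ _ _ _) 6 (show 6 ≤ 7 by decide) e
  have k : ∀ α β γa γu, ∀ w ∈ subs 6, (tbW α β γa γu).same ([3] ++ w) (w ++ [3]) = true ∨
      (tbW α β γa γu).same ([3] ++ w) (w ++ [3, 1]) = true := by decide +kernel
  have := h.pres.cj 6 (show 6 < 7 by decide) 3 (by decide)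
  simp only [tbW] at this
  wsimp at this
  rcases k α β γa γu w hw with k | k <;> have k := h.pres.W_eq k <;> rw [W_append, W_append, ← e] at k
  · exact h.toTr.pres.ne h.toTr.ind (w := [3]) (w' := [3, 0]) rfl (by simpa [this] using k.symm)
  · exact h.toTr.pres.ne h.toTr.ind (w := [3, 1]) (w' := [3, 0]) rfl (by simpa [this] using k.symm)

theorem dd_norT (k : Dd t v s u a d) (h : Tr t v s u a) (hn : n ∈ nor (cl [a, u, v, t, s, d])) :
    n ∈ nor (cl [a, u, v, t, s]) := by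
  have key : ∀ E ≤ cl [a, u, v, t, s, d], (∀ e ∈ E, e * e = 1) → Nat.card E = 16 →
      E ≤ cj n⁻¹ (cl [a, u, v, t, s]) := fun E h1 h2 h3 =>
    cj_le_iff.1 (k.e16 h (cj_le_of_le h1 hn) (fun y hy => by
      simpa [mul_assoc] using congrArg (fun r => n * r * n⁻¹) (h2 _ (mem_cj.1 hy)))
      (by rw [card_cj, h3]))
  have a1 := key _ (cl_mono (by simp)) (fun _ => h.A_sq) h.cardA
  have a2 := key _ (cl_mono (by simp)) (fun _ => h.swap.A_sq) h.swap.cardA
  refine mem_normalizer_of_cj_le (cj_le_iff.2 (cl_le.2 ?_))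
  simp only [List.mem_cons, List.not_mem_nil, or_false, forall_eq_or_imp, forall_eq]
  exact ⟨a1 (mem_cl (by simp)), a1 (mem_cl (by simp)), a1 (mem_cl (by simp)), a1 (mem_cl (by simp)),
    a2 (mem_cl (by simp))⟩

open H49.NW in
/-- No elementary group of order `32` centralizes a conjugate of `t`. -/
theorem e32 (h : H85.DY.Loc t v s u a σ ρ) (hx : IsConj t x) (h2 : ∀ e ∈ E, e * e = 1)
    (hc : 32 ≤ Nat.card E) (hE : x ∈ cen E) : False := by
  obtain ⟨n, hn⟩ := (two_of_sq h2).exists_card_eq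
  obtain ⟨Q, hQ⟩ := Sylow.exists_subgroup_card_pow_prime (G := E) 2 (n := 4) (by
    rw [hn] at hc ⊢
    exact pow_dvd_pow 2 (by by_contra k; interval_cases n <;> simp at k hc))
  have le : Q.map E.subtype ≤ E := map_subtype_le Q
  have c : Nat.card (Q.map E.subtype) = 16 := by rw [card_subtype, hQ]; rfl
  have := card_le_of_le (h.sc hx (fun e he => h2 e (le he)) c (centralizer_le le hE) (two_of_sq h2)
    ((ab_of_sq h2).trans (centralizer_le le)))
  omega

open H85.En in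
/-- `C_S(y)` is Sylow in `C(y)` for `y ∈ D` if it has the order `64`. -/
theorem sylD {T : Tb} {L : List ℕ} {x : ℕ → G} {y : ℕ} (M : Md T L x)
    (h : DY.Loc t v s u a σ ρ) (hy : y < 2 ^ T.n) (c : IsConj t (En.E x T.n y))
    (k : (czl L T.n y).length = 64) : IsSyl 2 (H x T.n ⊓ cen1 (En.E x T.n y)) (cen1 (En.E x T.n y)) := by
  obtain ⟨S, s1, s2⟩ := exists_isSyl_le (M.two.to_le (inf_le_left (b := cen1 (En.E x T.n y)))) inf_le_right
  refine s1.of_card_ge (M.two.to_le inf_le_left) inf_le_right ((h.card_le c s1.isPGroup s1.le).trans ?_)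
  rw [M.card_cz hy, k]

theorem out1 (hS : IsSyl 2 S ⊤) (k : Nat.card S ≤ 1024) : Out2 X t := (S3.bd_of_syl hS k).sub X

theorem out2 (hX : AS X t) (hS : IsSyl 2 S ⊤) (tS : t ∈ S) (tX : t ∉ X) (k : Nat.card S ≤ 2048) :
    Out2 X t := by
  refine S3.bd_of_syl (as_syl hX hS).subgroupOf_top ?_
  rw [Nat.card_congr (subgroupOfEquivOfLe inf_le_right).toEquiv]
  obtain ⟨m, hm⟩ := card_dvd_of_le (inf_le_left : S ⊓ X ≤ S)
  have : m ≠ 1 := fun e => tX (by
    rw [e, mul_one] at hm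
    exact ((eq_of_le_of_card_ge inf_le_left hm.le).ge tS).2)
  have : m ≠ 0 := fun e => by rw [e, mul_zero] at hm; exact Nat.card_pos.ne' hm
  have : Nat.card ↥(S ⊓ X) * 2 ≤ Nat.card ↥(S ⊓ X) * m := Nat.mul_le_mul_left _ (by omega)
  omega

omit [Finite G] in
theorem tower2_of (jZ : JobZ.{u}) (jP : JobZp.{u}) (jN : JobN.{u}) (jW : JobW.{u})
    (j3 : JobNE.{u}) (j4 : JobNZ.{u}) (ja : JobWA.{u}) (jb : JobWB.{u}) (jc : JobWC.{u})
    (jd : JobWD.{u}) : S3.Tower.{u} := by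
  intro G _ _ X t v s u a σ ρ d hX h hd ⟨n, n1, n2⟩
  obtain ⟨u, a, ⟨h, e⟩ | h | h | h⟩ := jZ G t v s u a σ ρ ⟨h, Or.inr ⟨d, hd⟩, fun k => by
    have := hd.card h.toTr
    rw [k.eq_of_le hd.syl.isPGroup (cl_mono (by simp)) hd.syl.le, h.card] at this
    omega⟩ ⟨n, dd_norT hd h.toTr n1, n2⟩
  · obtain ⟨σ, ρ, y, Z, k, Z', k', h, h1, h2⟩ := jN G t v s u a σ ρ h e
    cases Z
    · cases Z'
      exacts [j3 G X _ _ _ _ _ _ _ _ _ _ hX h h1 h2, j4 G X _ _ _ _ _ _ _ _ _ _ _ hX h.swap h2 h1]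
    · exact j4 G X _ _ _ _ _ _ _ _ _ _ _ hX h h1 h2
  · obtain ⟨σ, ρ, p, q, k, l, h | h | h | h | h⟩ := jW G t v s u a σ ρ h
    exacts [ja G X _ _ _ _ _ _ _ _ _ _ _ hX h, jb G X _ _ _ _ _ _ _ _ _ _ _ hX h,
      jc G X _ _ _ _ _ _ _ _ _ _ _ hX h, jc G X _ _ _ _ _ _ _ _ _ _ _ hX h,
      jd G X _ _ _ _ _ _ _ _ _ _ _ hX h]
  · exact (jP G _ _ _ _ _ _ _ h).elim
  · exact (jP G _ _ _ _ _ _ _ h).elim

end H85.DY
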