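import Cfsg.Agent.H49.NWSpec
import Cfsg.Agent.H85.DYSpec

/-! DY: interface of the branches NE and WA (port of `H49/NWSpec`). -/

set_option autoImplicit false
set_option linter.unusedSectionVars false

namespace H85.DY.NW
open H49.NW

open Subgroup Cfsg H14 H98 H1.Gold H31.S2 H85.FZ H49.D8 H85.DZ

universe u

variable {G : Type u} [Group G]

structure NQ (t v s u a σ ρ y Y X : G) (m : List ℕ) : Prop extends H85.DY.Nar t v s u a σ ρ where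
  hm : m ∈ subs 2
  pres : Pres (tbQ m) (val [a, u, y, v, Y, s, X, t])
  ind : Ind (val [a, u, y, v, Y, s, X, t]) 8
  aσ : Act (val [a, u, y, v, Y, s, X, t]) σ [0, 1, 2, 3, 4, 7] sQ
  aρ : Act (val [a, u, y, v, Y, s, X, t]) ρ [0, 1, 2, 5, 6, 7] rQ

structure WQ (t v s u a σ ρ p q Y X : G) (l : Bool) (m : List ℕ) : Prop
    extends H85.DY.Base t v s u a σ ρ where
  hm : m ∈ subs 2
  pres : Pres (tbV l m) (val [a, u, p, q, v, Y, s, X, t])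
  ind : Ind (val [a, u, p, q, v, Y, s, X, t]) 9
  aσ : Act (val [a, u, p, q, v, Y, s, X, t]) σ [0, 1, 2, 3, 4, 5, 8] sV
  aρ : Act (val [a, u, p, q, v, Y, s, X, t]) ρ [0, 1, 2, 3, 6, 7, 8] (rV l)

/-- `U = Z ∘ (D₁ × D₂)`, `P₂ = U ⟨t⟩`; `x` are the letters of `tbR`. -/
structure Wr (t v s u a σ ρ : G) (x : ℕ → G) (Z : Subgroup G) : Prop
    extends H85.DY.Base t v s u a σ ρ where
  pres : Pres tbR x
  ind : Ind x 7
  et : x 6 = t
  ev : x 2 * x 3 = v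
  es : x 4 * x 5 = s
  ez : x 0 * x 1 = u * a
  Z2 : ∀ e ∈ Z, e * e = 1
  Zc : Z ≤ cen (H x 6)
  ΦZ : H x 2 ≤ Z
  aZ : a ∈ Z
  ZD : Z ⊓ H x 6 ≤ H x 2
  aD : a ∉ H x 6
  tZ : t ∈ nor Z
  Zt : Z ⊓ cen1 t ≤ cl [a, u]
  EAt : (Z ⊔ cl [x 2, x 3]) ⊓ cen1 t = cl [a, u, v]
  syA : IsSyl 2 (Z ⊔ H x 6 ⊔ zpowers t) (nor (Z ⊔ cl [x 2, x 3]))
  σA : σ ∈ nor (Z ⊔ cl [x 2, x 3])
  ρB : ρ ∈ nor (Z ⊔ cl [x 4, x 5])
  noD : ∀ g ∈ Z ⊔ H x 6, ¬ IsConj t g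
  cls : ∀ g, t * g ∈ Z ⊔ H x 6 → g * g = 1 → ∃ w ∈ Z ⊔ H x 6,
    g = w * t * w⁻¹ ∨ (g = w * (t * a) * w⁻¹ ∧ a * (t * g) ∈ H x 6)
  fz : ∀ i < 4, IsConj (x (i % 2)) (x (i + 2))
  fus : ∀ i < 4, ∀ e ∈ Z, ∃ e' ∈ Z, IsConj (x (i + 2) * e) e' ∧
    (e' = x 0 ∨ e' = x 1 → e = 1 ∨ e = x (i % 2))

/-- The narrow wreath case. -/
structure WrN (t v s u a σ ρ : G) (x : ℕ → G) (Z : Subgroup G) : Prop extends Wr t v s u a σ ρ x Z where
  narA : ∀ g ∈ nor (cl [a, u, v, t]), g * t * g⁻¹ ≠ t * u ∧ g * t * g⁻¹ ≠ t * a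
  narB : ∀ g ∈ nor (cl [u, a, s, t]), g * t * g⁻¹ ≠ t * u ∧ g * t * g⁻¹ ≠ t * a
  hZ : ∀ e ∈ Z, e ∈ H x 2 ∨ a * e ∈ H x 2

/-- The wide wreath case, `b = a₁`. -/
structure WrW (t v s u a σ ρ b : G) (x : ℕ → G) (Z : Subgroup G) : Prop
    extends Wr t v s u a σ ρ x Z where
  bZ : b ∈ Z
  tb : t * b * t⁻¹ = b * a
  σb : σ * (b * x 0) * σ⁻¹ = b * x 0
  hZ : ∀ e ∈ Z, e ∈ H x 2 ∨ a * e ∈ H x 2 ∨ b * e ∈ H x 2 ∨ b * a * e ∈ H x 2
  ρZ : ∀ e ∈ Z, ρ * e * ρ⁻¹ ∈ Z → e = 1 ∨ e = a ∨ e = b ∨ e = b * a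
  cU : Nat.card ↥(Z ⊔ H x 6) = 256

/-! ### Jobs -/

def JobN1 : Prop :=
  ∀ (G : Type u) [Group G] [Finite G] (t v s u a σ ρ y : G) (k k' : Bool),
    H85.DY.N1 t v s u a σ ρ y → SdN t v s u a σ y false k → SdN t s v a u ρ y false k' →
    ∃ ρ y Y X m, NQ t v s u a σ ρ y Y X m

def JobN2 : Prop :=
  ∀ (G : Type u) [Group G] [Finite G] (t v s u a σ ρ y Y X : G) (m : List ℕ),
    NQ t v s u a σ ρ y Y X m → m = []

def JobN3 : Prop :=
  ∀ (G : Type u) [Group G] [Finite G] (t v s u a σ ρ y Y X : G),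
    NQ t v s u a σ ρ y Y X [] → ∃ x Z, WrN t v s u a σ ρ x Z

def JobN4 : Prop :=
  ∀ (G : Type u) [Group G] [Finite G] (X : Subgroup G) (t v s u a σ ρ : G) (x : ℕ → G)
    (Z : Subgroup G), AS X t → WrN t v s u a σ ρ x Z → Out2 X t

def JobW1 : Prop :=
  ∀ (G : Type u) [Group G] [Finite G] (t v s u a σ ρ p q : G) (k l : Bool),
    H85.DY.WD t v s u a σ ρ p q false false false false 0 0 k l →
    ∃ ρ p Y X l m, WQ t v s u a σ ρ p q Y X l m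

def JobW2 : Prop :=
  ∀ (G : Type u) [Group G] [Finite G] (t v s u a σ ρ p q Y X : G) (l : Bool) (m : List ℕ),
    WQ t v s u a σ ρ p q Y X l m → (l = false ∧ m = []) ∨ (l = true ∧ m = [1, 0])

def JobW3 : Prop :=
  ∀ (G : Type u) [Group G] [Finite G] (t v s u a σ ρ p q Y X : G),
    WQ t v s u a σ ρ p q Y X false [] → ∃ x Z, WrW t v s u a σ ρ q x Z

def JobW4 : Prop :=
  ∀ (G : Type u) [Group G] [Finite G] (X : Subgroup G) (t v s u a σ ρ b : G) (x : ℕ → G)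
    (Z : Subgroup G), AS X t → WrW t v s u a σ ρ b x Z → Out2 X t

def JobW5 : Prop :=
  ∀ (G : Type u) [Group G] [Finite G] (X₀ : Subgroup G) (t v s u a σ ρ p q Y X : G), AS X₀ t →
    WQ t v s u a σ ρ p q Y X true [1, 0] → Out2 X₀ t

theorem ne_of (j1 : JobN1.{u}) (j2 : JobN2.{u}) (j3 : JobN3.{u}) (j4 : JobN4.{u}) :
    H85.DY.JobNE.{u} := by
  intro G _ _ X₀ t v s u a σ ρ y k k' hX h h1 h2
  obtain ⟨ρ, y, Y, X, m, h⟩ := j1 G _ _ _ _ _ _ _ _ _ _ h h1 h2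
  obtain rfl := j2 G _ _ _ _ _ _ _ _ _ _ _ h
  obtain ⟨x, Z, h⟩ := j3 G _ _ _ _ _ _ _ _ _ _ h
  exact j4 G _ _ _ _ _ _ _ _ _ _ hX h

theorem wa_of (j1 : JobW1.{u}) (j2 : JobW2.{u}) (j3 : JobW3.{u}) (j4 : JobW4.{u}) (j5 : JobW5.{u}) :
    H85.DY.JobWA.{u} := by
  intro G _ _ X₀ t v s u a σ ρ p q k l hX h
  obtain ⟨ρ, p, Y, X, l, m, h⟩ := j1 G _ _ _ _ _ _ _ _ _ _ _ h
  rcases j2 G _ _ _ _ _ _ _ _ _ _ _ _ _ h with ⟨rfl, rfl⟩ | ⟨rfl, rfl⟩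
  · obtain ⟨x, Z, h⟩ := j3 G _ _ _ _ _ _ _ _ _ _ _ h
    exact j4 G _ _ _ _ _ _ _ _ _ _ _ hX h
  · exact j5 G _ _ _ _ _ _ _ _ _ _ _ _ hX h

/-! ### Table lemmas -/

variable [Finite G] {t v s u a σ ρ p q y Y X g : G} {T : Tb} {z : ℕ → G} {n : ℕ} {m : List ℕ} {l : Bool}

theorem noD_tb (h : H85.DY.Loc t v s u a σ ρ) (P : Pres T z) (I : Ind z T.n) (wf : T.wf = true)
    (hn : n ≤ T.n) (Es : List (List (ℕ × List ℕ))) (c1 : ∀ ws ∈ Es, elOK T ws 5 = true)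
    (c2 : ∀ w ∈ subs n, T.eqv (w ++ w) [] = true →
      ∃ ws ∈ Es, ∀ i < 5, T.same (app ws [i] ++ w) (w ++ app ws [i]) = true)
    (hg : g ∈ H z n) : ¬ IsConj t g := fun c => by
  obtain ⟨w, hw, rfl⟩ := P.mem wf hn hg
  obtain ⟨ws, h1, h2⟩ := c2 w hw (P.eqv I (by rw [W_append]; exact h.toTr.sq_of_isConj c))
  obtain ⟨k1, k2, -⟩ := elem P I ws ((List.range 5).map fun i => W z (app ws [i])) (by simp)
    (fun i hi => by
      simp only [List.length_map, List.length_range] at hi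
      interval_cases i <;> rfl) (c1 ws h1)
  refine e32 h c k1 (k2 ▸ by simp) (cen_cl.2 fun y hy => ?_)
  obtain ⟨i, hi, rfl⟩ := List.mem_map.1 hy
  simpa using P.W_eq (h2 i (List.mem_range.1 hi))

/-! ### The narrow case -/

namespace NQ

variable (h : NQ t v s u a σ ρ y Y X m)
include h

theorem wf : (tbQ m).wf = true := (keyQ m h.hm).1

theorem noD (hg : g ∈ H (val [a, u, y, v, Y, s, X, t]) 7) : ¬ IsConj t g :=
  noD_tb h.toLoc h.pres h.ind h.wf (show 7 ≤ 8 by decide) _ (keyQ m h.hm).2.1 (keyQ m h.hm).2.2.1 hg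

theorem cls (hg : t * g ∈ H (val [a, u, y, v, Y, s, X, t]) 7) (gg : g * g = 1) :
    ∃ w ∈ H (val [a, u, y, v, Y, s, X, t]) 7, g = w * t * w⁻¹ ∨ g = w * (t * a) * w⁻¹ := by
  obtain ⟨w, hw, b, hb, e⟩ := cls_tb h.pres h.ind h.wf (fun _ => rfl) (show 7 < 8 by decide) _ _
    (by decide) (keyQ m h.hm).2.2.2.1 hg gg
  simp only [List.mem_cons, List.not_mem_nil, or_false] at hb
  exact ⟨w, hw, hb.imp (fun k => by simpa [k] using e) fun k => by simpa [k] using e⟩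

theorem TP : cl [a, u, v, t, s] ≤ H (val [a, u, y, v, Y, s, X, t]) 8 := by
  rw [H_val]; exact cl_mono (by simp)

theorem cls' (hg : g ∈ H (val [a, u, y, v, Y, s, X, t]) 8) (c : IsConj t g) :
    ∃ w ∈ H (val [a, u, y, v, Y, s, X, t]) 8, g = w * (t * 1) * w⁻¹ ∨ g = w * (t * a) * w⁻¹ := by
  obtain ⟨w, hw, e⟩ := h.cls (by
    simpa [inv_eq_of_mul_eq_one_right h.tt] using (h.pres.mem_succ h.wf (show 7 < 8 by decide)
      hg).resolve_left fun k => h.noD k c) (h.toTr.sq_of_isConj c)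
  exact ⟨w, H_mono (by decide) hw, by rwa [mul_one]⟩

theorem elA : (∀ e ∈ cl [a, u, y, v, Y], e * e = 1) ∧ Nat.card (cl [a, u, y, v, Y]) = 2 ^ 5 ∧
    ∀ e ∈ cl [a, u, y, v, Y], ∃ w ∈ subs 5, e = W (val [a, u, y, v, Y, s, X, t]) (app wAQ w) :=
  elem h.pres h.ind wAQ [a, u, y, v, Y] (by simp)
    (fun i hi => by change i < 5 at hi; interval_cases i <;> simp [wAQ, app])
    ((keyQ m h.hm).2.1 _ (by simp [EsQ]))

theorem elB : (∀ e ∈ cl [a, u, y, s, X], e * e = 1) ∧ Nat.card (cl [a, u, y, s, X]) = 2 ^ 5 ∧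
    ∀ e ∈ cl [a, u, y, s, X], ∃ w ∈ subs 5, e = W (val [a, u, y, v, Y, s, X, t]) (app wBQ w) :=
  elem h.pres h.ind wBQ [a, u, y, s, X] (by simp)
    (fun i hi => by change i < 5 at hi; interval_cases i <;> simp [wBQ, app])
    ((keyQ m h.hm).2.1 _ (by simp [EsQ]))

theorem EAt : cl [a, u, y, v, Y] ⊓ cen1 t = cl [a, u, v] :=
  fix_tb (n := 7) h.pres h.ind wAQ [a, u, y, v, Y] (by simp)
    (fun i hi => by change i < 5 at hi; interval_cases i <;> simp [wAQ, app])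
    ((keyQ m h.hm).2.1 _ (by simp [EsQ])) _ ((keyQ m h.hm).2.2.2.2 _ (by simp)).2
    (by simp [mem_cl]) (le_inf (cl_mono (by simp)) (A0_cen h.toTr))

theorem EBt : cl [a, u, y, s, X] ⊓ cen1 t = cl [u, a, s] :=
  fix_tb (n := 7) h.pres h.ind wBQ [a, u, y, s, X] (by simp)
    (fun i hi => by change i < 5 at hi; interval_cases i <;> simp [wBQ, app])
    ((keyQ m h.hm).2.1 _ (by simp [EsQ])) _ ((keyQ m h.hm).2.2.2.2 _ (by simp)).2
    (by simp [mem_cl]) (le_inf (cl_mono (by simp)) (A0_cen h.toTr.swap))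

theorem naA : IsSyl 2 (H (val [a, u, y, v, Y, s, X, t]) 8) (nor (cl [a, u, y, v, Y])) :=
  na h.toLc (h.pres.isPGroup h.wf le_rfl) h.TP (nor_tb h.pres (fun _ => rfl) wAQ [a, u, y, v, Y]
    (fun i hi => by change i < 5 at hi; interval_cases i <;> simp [wAQ, app])
    ((keyQ m h.hm).2.2.2.2 _ (by simp)).1) h.EAt (ab_of_sq h.elA.1) fun g hg c => by
      obtain ⟨w, hw, e | e⟩ := h.cls' hg c
      exacts [⟨w, hw, 1, one_mem _, e, Or.inl rfl⟩,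
        ⟨w, hw, a, mem_cl (by simp), e, Or.inr fun g hg => (h.narA g hg).2⟩]

theorem naB : IsSyl 2 (H (val [a, u, y, v, Y, s, X, t]) 8) (nor (cl [a, u, y, s, X])) :=
  na (lc_swap h.toLc) (h.pres.isPGroup h.wf le_rfl) (cl_swap a u v t s ▸ h.TP)
    (nor_tb h.pres (fun _ => rfl) wBQ [a, u, y, s, X]
    (fun i hi => by change i < 5 at hi; interval_cases i <;> simp [wBQ, app])
    ((keyQ m h.hm).2.2.2.2 _ (by simp)).1) h.EBt (ab_of_sq h.elB.1) fun g hg c => by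
      obtain ⟨w, hw, e | e⟩ := h.cls' hg c
      exacts [⟨w, hw, 1, one_mem _, e, Or.inl rfl⟩,
        ⟨w, hw, a, mem_cl (by simp), e, Or.inr fun g hg => (h.narB g hg).2⟩]

end NQ

/-! ### The wide case -/

namespace WQ

variable (h : WQ t v s u a σ ρ p q Y X l m)
include h

theorem wf : (tbV l m).wf = true := (keyV l m h.hm).1

theorem noD (hg : g ∈ H (val [a, u, p, q, v, Y, s, X, t]) 8) : ¬ IsConj t g :=
  noD_tb h.toLoc h.pres h.ind h.wf (show 8 ≤ 9 by decide) _ (keyV l m h.hm).2.1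
    (keyV l m h.hm).2.2.1 hg

theorem cls (hg : t * g ∈ H (val [a, u, p, q, v, Y, s, X, t]) 8) (gg : g * g = 1) :
    ∃ w ∈ H (val [a, u, p, q, v, Y, s, X, t]) 8, g = w * t * w⁻¹ := by
  obtain ⟨w, hw, b, hb, e⟩ := cls_tb h.pres h.ind h.wf (fun _ => rfl) (show 8 < 9 by decide) _ _
    (by decide) (keyV l m h.hm).2.2.2 hg gg
  exact ⟨w, hw, by simpa [List.mem_singleton.1 hb] using e⟩

theorem TP : cl [a, u, v, t, s] ≤ H (val [a, u, p, q, v, Y, s, X, t]) 9 := by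
  rw [H_val]; exact cl_mono (by simp)

theorem cls' (hg : g ∈ H (val [a, u, p, q, v, Y, s, X, t]) 9) (c : IsConj t g) :
    ∃ w ∈ H (val [a, u, p, q, v, Y, s, X, t]) 8, g = w * t * w⁻¹ := h.cls (by
    simpa [inv_eq_of_mul_eq_one_right h.tt] using (h.pres.mem_succ h.wf (show 8 < 9 by decide)
      hg).resolve_left fun k => h.noD k c) (h.toTr.sq_of_isConj c)

theorem elA : (∀ e ∈ cl [a, u, p, q, v, Y], e * e = 1) ∧ Nat.card (cl [a, u, p, q, v, Y]) = 2 ^ 6 ∧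
    ∀ e ∈ cl [a, u, p, q, v, Y], ∃ w ∈ subs 6, e = W (val [a, u, p, q, v, Y, s, X, t]) (app wAQ w) :=
  elem h.pres h.ind wAQ [a, u, p, q, v, Y] (by simp)
    (fun i hi => by change i < 6 at hi; interval_cases i <;> simp [wAQ, app])
    (keyV' l m h.hm _ (by simp)).1

theorem elB : (∀ e ∈ cl [a, u, p, q, s, X], e * e = 1) ∧ Nat.card (cl [a, u, p, q, s, X]) = 2 ^ 6 ∧
    ∀ e ∈ cl [a, u, p, q, s, X], ∃ w ∈ subs 6, e = W (val [a, u, p, q, v, Y, s, X, t]) (app wBV w) :=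
  elem h.pres h.ind wBV [a, u, p, q, s, X] (by simp)
    (fun i hi => by change i < 6 at hi; interval_cases i <;> simp [wBV, app])
    (keyV' l m h.hm _ (by simp)).1

theorem EAt : cl [a, u, p, q, v, Y] ⊓ cen1 t = cl [a, u, v] :=
  fix_tb (n := 8) h.pres h.ind wAQ [a, u, p, q, v, Y] (by simp)
    (fun i hi => by change i < 6 at hi; interval_cases i <;> simp [wAQ, app])
    (keyV' l m h.hm _ (by simp)).1 _ (keyV' l m h.hm _ (by simp)).2.2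
    (by simp [mem_cl]) (le_inf (cl_mono (by simp)) (A0_cen h.toTr))

theorem EBt : cl [a, u, p, q, s, X] ⊓ cen1 t = cl [u, a, s] :=
  fix_tb (n := 8) h.pres h.ind wBV [a, u, p, q, s, X] (by simp)
    (fun i hi => by change i < 6 at hi; interval_cases i <;> simp [wBV, app])
    (keyV' l m h.hm _ (by simp)).1 _ (keyV' l m h.hm _ (by simp)).2.2
    (by simp [mem_cl]) (le_inf (cl_mono (by simp)) (A0_cen h.toTr.swap))

theorem naA : IsSyl 2 (H (val [a, u, p, q, v, Y, s, X, t]) 9) (nor (cl [a, u, p, q, v, Y])) :=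
  na h.toLc (h.pres.isPGroup h.wf le_rfl) h.TP (nor_tb h.pres (fun _ => rfl) wAQ [a, u, p, q, v, Y]
    (fun i hi => by change i < 6 at hi; interval_cases i <;> simp [wAQ, app])
    (keyV' l m h.hm _ (by simp)).2.1) h.EAt (ab_of_sq h.elA.1) fun g hg c => by
      obtain ⟨w, hw, e⟩ := h.cls' hg c
      exact ⟨w, H_mono (by decide) hw, 1, one_mem _, by rwa [mul_one], Or.inl rfl⟩

theorem naB : IsSyl 2 (H (val [a, u, p, q, v, Y, s, X, t]) 9) (nor (cl [a, u, p, q, s, X])) :=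
  na (lc_swap h.toLc) (h.pres.isPGroup h.wf le_rfl) (cl_swap a u v t s ▸ h.TP)
    (nor_tb h.pres (fun _ => rfl) wBV [a, u, p, q, s, X]
    (fun i hi => by change i < 6 at hi; interval_cases i <;> simp [wBV, app])
    (keyV' l m h.hm _ (by simp)).2.1) h.EBt (ab_of_sq h.elB.1) fun g hg c => by
      obtain ⟨w, hw, e⟩ := h.cls' hg c
      exact ⟨w, H_mono (by decide) hw, 1, one_mem _, by rwa [mul_one], Or.inl rfl⟩

end WQ

end H85.DY.NW
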