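import Cfsg.Agent.H49.NWW4
import Cfsg.Agent.H85.DYNWWr

/-! DY: the wreath cases (ports of `H49/NWN4`, `H49/NWW4`). -/

set_option autoImplicit false
set_option linter.unusedSectionVars false

namespace H85.DY.NW
open H49.NW

open Subgroup Cfsg H14 H98 H1.Gold H31.S2 H85.FZ H49.D8 H85.DZ

universe u

variable {G : Type u} [Group G] [Finite G] {t v s u a σ ρ g d e j y n : G} {x : ℕ → G}
  {Z S X Y K : Subgroup G} {p q : D4}

theorem card_le_mul {ι : Type*} [Finite ι] (f : S → ι)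
    (h : ∀ g g' : S, f g = f g' → (g' : G)⁻¹ * g ∈ K) : Nat.card S ≤ Nat.card ι * Nat.card K := by
  rw [← Nat.card_prod]
  refine Nat.card_le_card_of_injective (fun g => (f g, ⟨_, h g (Function.invFun f (f g))
    (Function.invFun_eq ⟨g, rfl⟩).symm⟩)) fun g g' e => ?_
  obtain ⟨e1, e2⟩ := Prod.mk.inj e
  have := congrArg Subtype.val e2
  simp only [e1, mul_right_inj] at this
  exact Subtype.ext this

theorem card_le_two (h : ∀ g ∈ S, g ∈ K ∨ d * g ∈ K) : Nat.card S ≤ 2 * Nat.card K := by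
  have := card_le_mul (K := K) (fun g : S => (g : G) ∈ K) fun g g' e => by
    by_cases k : (g : G) ∈ K
    · exact mul_mem (inv_mem (e ▸ k)) k
    · simpa [mul_assoc] using mul_mem (inv_mem ((h _ g'.2).resolve_left (e ▸ k)))
        ((h _ g.2).resolve_left k)
  simpa using this

namespace Wr
open H49.NW.Wr

variable (h : Wr t v s u a σ ρ x Z)
include h

theorem fin (k : ∀ i < 2, g⁻¹ * x i * g = 1 ∨ g⁻¹ * x i * g = t ∨ g⁻¹ * x i * g = u * a ∨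
    g⁻¹ * x i * g = t * (u * a)) : False := by
  have nD : ∀ y ∈ H x 2, g⁻¹ * y * g ≠ t := fun y hy e => h.noD y (mem_sup_left (h.ΦZ hy))
    (isConj_iff.2 ⟨g, by rw [← e]; group⟩)
  have k' : ∀ i < 2, g⁻¹ * x i * g = u * a ∨ g⁻¹ * x i * g = t * (u * a) := fun i hi =>
    ((k i hi).resolve_left fun e => h.zs.ne (w := [i]) (w' := []) (by interval_cases i <;> rfl)
      (by simpa [mul_assoc] using congrArg (fun r => g * r * g⁻¹) e)).resolve_left (nD _ (x_mem hi))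
  have ne : g⁻¹ * x 0 * g ≠ g⁻¹ * x 1 * g := fun e =>
    h.zs.ne (w := [0]) (w' := [1]) rfl (by simpa using e)
  refine nD _ (mul_mem (x_mem (show 0 < 2 by decide)) (x_mem (show 1 < 2 by decide))) ?_
  rw [show g⁻¹ * (x 0 * x 1) * g = g⁻¹ * x 0 * g * (g⁻¹ * x 1 * g) by group]
  rcases k' 0 (by decide) with e | e <;> rcases k' 1 (by decide) with e' | e'
  · exact absurd (e.trans e'.symm) ne
  · rw [e, e']
    simpa [mul_assoc] using h.toTr.pres.W_eq (w := [1, 0, 3, 1, 0]) (w' := [3]) rfl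
  · rw [e, e']
    simpa [mul_assoc] using h.toTr.pres.W_eq (w := [3, 1, 0, 1, 0]) (w' := [3]) rfl
  · exact absurd (e.trans e'.symm) ne

variable (hS : IsSyl 2 S ⊤) (o : Ov t x Z S)
include hS o

theorem exD (hj : j ∈ S) (k : Pi x Z j p) (c : p = pc ∨ p = pt') {w : G} (hw : w ∈ Z ⊔ H x 6)
    (e : j * t * j⁻¹ = w * t * w⁻¹) : ∃ d ∈ S, Pi x Z d pc ∧ d * t = t * d := by
  have k' := h.zs.pmul (h.zs.pone (inv_mem hw)) k
  have m := mul_mem (inv_mem (o.U hw)) hj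
  have e' := mul_inv_eq_iff_eq_mul.1 (adj e)
  rcases c with rfl | rfl
  exacts [⟨_, m, k', e'⟩, ⟨_, mul_mem o.tS m, h.zs.pmul h.tP k', by rw [mul_assoc, e']⟩]

theorem notP (hd : d ∈ Z ⊔ H x 6 ⊔ zpowers t) (k : Pi x Z d pc) : False :=
  (h.memP hd).elim (fun e => absurd (h.zs.uniq k (h.zs.pone e)) (by decide)) fun e =>
    absurd (h.zs.uniq (h.zs.pmul h.tP k) (h.zs.pone e)) (by decide)

theorem notT (hT : IsSyl 2 (cl [a, u, v, t, s]) (cen1 t)) (hd : d ∈ S) (k : Pi x Z d pc)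
    (c : d * t = t * d) : False :=
  h.notP hS o (h.TP ((hT.eq_of_le (o.two.to_le (inf_le_left (b := cen1 t)))
    (le_inf (h.TP.trans o.ge) hT.le) inf_le_right).le ⟨hd, mem_cen1.2 c⟩)) k

theorem mu : Mu S (· ∈ cen1 (x 0)) := fun b hb c hc => by
  obtain ⟨p, k⟩ := h.zs.exP (o.le hb)
  obtain ⟨q, k'⟩ := h.zs.exP (o.le hc)
  simp only [h.cen0 (h.zs.pmul k k'), h.cen0 k, h.cen0 k']
  exact (by decide +kernel : ∀ p q : D4, lp (p * q) 0 = 0 ↔ (lp p 0 = 0 ↔ lp q 0 = 0)) p q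

theorem piD (hy : y ∈ S) (c : IsConj t y) (m : y ∈ cen1 (x 0)) :
    ∃ p, Pi x Z y p ∧ (p = pc ∨ p = pa ∨ p = pa') := by
  obtain ⟨p, k⟩ := h.zs.exP (o.le hy)
  exact ⟨p, k, (by decide +kernel : ∀ p : D4, lp p 0 = 0 → p ≠ 1 → p = pc ∨ p = pa ∨ p = pa') p
    ((h.cen0 k).1 m) fun e => h.noD y (h.ker o hy (e ▸ k)) c⟩

theorem tX (hX : AS X t) (hc : (∀ g ∈ nor (cl [a, u, v, t]), g * t * g⁻¹ ≠ t * a) ∨
    ∀ y ∈ S, IsConj t y → ¬ Pi x Z y pc) : t ∉ X := by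
  rcases h.top with hT | ⟨d, k⟩
  · refine tr_out hX hS (h.mu hS o) h.tt h.isPGroup (mem_cl (by simp)) hT.le fun g le m => ?_
    have hy := le (conj_mem_cj (mem_cl (y := t) (by simp)))
    obtain ⟨p, kp, c⟩ := h.piD hS o hy (isConj_iff.2 ⟨g, rfl⟩) m
    obtain ⟨j, hj, jj, q, kq, c⟩ : ∃ j ∈ S, j * j = 1 ∧ ∃ q, Pi x Z j q ∧ (q = pc ∨ q = pt') := by
      rcases c with rfl | c
      exacts [⟨_, hy, conj_sq h.tt, _, kp, Or.inl rfl⟩, ⟨_, mul_mem (mul_mem hy o.tS) (inv_mem hy),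
        conj_sq h.tt, _, h.zs.pcj kp h.tP, Or.inr (by rcases c with rfl | rfl <;> decide)⟩]
    obtain ⟨w, hw, e⟩ := h.exd hS o hj jj kq c
    obtain ⟨d, hd, kd, e⟩ := h.exD hS o hj kq c hw e
    exact h.notT hS o hT hd kd e
  refine tr_out hX hS (h.mu hS o) h.tt k.syl.isPGroup (mem_cl (by simp)) k.syl.le fun g le m => ?_
  have hy := le (conj_mem_cj (mem_cl (y := t) (by simp)))
  have cy : IsConj t (g * t * g⁻¹) := isConj_iff.2 ⟨g, rfl⟩
  obtain ⟨p, kp, c⟩ := h.piD hS o hy cy m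
  have yΦ := h.cenΦ kp ((h.cen0 kp).1 m)
  have e0 := (k.syl.cj g).eq_of_le (Q := S ⊓ cen1 (g * t * g⁻¹)) (o.two.to_le inf_le_left)
    (le_inf le (cj_cen1 g t ▸ cj_mono g k.syl.le)) (cj_cen1 g t ▸ inf_le_right)
  obtain ⟨b, P, -⟩ := k.pres h.toTr
  have I := k.ind h.toTr
  have ex : ∀ i < 2, ∃ w ∈ subs 6, g⁻¹ * x i * g = W (val [a, u, v, t, s, d]) w := fun i hi =>
    P.mem_cl (by cases b <;> rfl) 6 le_rfl (mem_cj.1 (e0.le ⟨o.U (mem_sup_left (h.ΦZ (x_mem hi))),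
      mem_cen1.2 (mem_cen_iff.1 yΦ _ (x_mem hi)).symm⟩))
  have pi : ∀ c : List ℕ, c.all (· < 6) = true → ∃ q, Pi x Z (g * W (val [a, u, v, t, s, d]) c * g⁻¹) q ∧
      q * p = p * q := fun c hc => by
    have m := e0.ge (conj_mem_cj (W_mem_cl [a, u, v, t, s, d] 6 hc))
    obtain ⟨q, kq⟩ := h.zs.exP (o.le m.1)
    exact ⟨q, kq, h.zs.uniq (h.zs.pmul kq kp) (mem_cen1.1 m.2 ▸ h.zs.pmul kp kq)⟩
  have cm : ∀ {c w : List ℕ} {q : D4} {i : ℕ}, i < 2 → g⁻¹ * x i * g = W (val [a, u, v, t, s, d]) w →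
      Pi x Z (g * W (val [a, u, v, t, s, d]) c * g⁻¹) q → lp q 0 = 0 →
      (tbD b).eqv (c ++ w) (w ++ c) = true := fun hi e kq c => P.eqv I (by
    have := mem_cen_iff.1 (h.cenΦ kq c) _ (x_mem hi)
    rw [W_append, W_append, ← e]
    simpa [mul_assoc] using congrArg (fun r => g⁻¹ * r * g) this)
  have l3 : ∀ r ∈ [2, 4, 5], r < 6 := by decide
  rcases c with rfl | c
  swap
  · refine h.fin (g := g) fun i hi => ?_
    obtain ⟨w, hw, e⟩ := ex i hi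
    refine of_Z4 ((keyD b w hw).1 fun r hr => ?_) e
    obtain ⟨q, kq, e'⟩ := pi [r] (by simpa using l3 r hr)
    exact cm hi e kq ((by decide +kernel : ∀ q p : D4, (p = pa ∨ p = pa') → q * p = p * q →
      lp q 0 = 0) q p c e')
  have nar := hc.resolve_right fun hc => hc _ hy cy kp
  have zw : ∀ i < 2, ∃ w ∈ ZW, g⁻¹ * x i * g = W (val [a, u, v, t, s, d]) w := fun i hi => by
    obtain ⟨w, hw, e⟩ := ex i hi
    refine ⟨w, (keyD b w hw).2.1 (P.eqv I ?_) fun r hr r' hr' => ?_, e⟩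
    · rw [W_append, ← e]
      simpa using conj_sq (g := g⁻¹) (h.Z2 _ (h.ΦZ (x_mem hi)))
    obtain ⟨q, kq, -⟩ := pi [r] (by simpa using l3 r hr)
    obtain ⟨q', kq', -⟩ := pi [r'] (by simpa using l3 r' hr')
    refine ((by decide +kernel : ∀ q q' : D4, lp q 0 = 0 ∨ lp q' 0 = 0 ∨ lp (q * q') 0 = 0) q q').imp
      (cm hi e kq) (Or.imp (cm hi e kq') (cm (c := [r, r']) hi e ?_))
    simpa [mul_assoc] using h.zs.pmul kq kq'
  obtain ⟨w0, m0, e0⟩ := zw 0 (by decide)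
  obtain ⟨w1, m1, e1⟩ := zw 1 (by decide)
  obtain ⟨r0, r1, -⟩ := h.invc hS o kp (conj_sq h.tt)
  have cj : ∀ c c' : List ℕ, c.all (· < 6) = true → c'.all (· < 2) = true →
      g * t * g⁻¹ * W x c * (g * t * g⁻¹)⁻¹ = W x (c ++ c') → IsConj t (g⁻¹ * W x c' * g * t) :=
    fun c c' _ _ e => isConj_iff.2 ⟨g⁻¹ * (W x c)⁻¹ * g, by
      rw [W_append] at e
      rw [← inv_mul_cancel_left (W x c) (W x c'), ← e]; group⟩
  have c0 := cj [2, 4] [0] rfl rfl r0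
  have c1 := cj [3, 5] [1] rfl rfl r1
  have c2 := cj [2, 4, 3, 5] [0, 1] rfl rfl (by
    rw [show W x [2, 4, 3, 5] = W x [2, 4] * W x [3, 5] from W_append x [2, 4] [3, 5], ← conj_mul, r0, r1,
      ← W_append]
    exact h.pres.W_eq rfl)
  have cw : ∀ w ∈ [w0, w1, w0 ++ w1], IsConj t (W (val [a, u, v, t, s, d]) (w ++ [3])) := fun w hw => by
    simp only [List.mem_cons, List.not_mem_nil, or_false] at hw
    rcases hw with rfl | rfl | rfl <;> simp only [W_append, ← e0, ← e1]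
    exacts [by simpa using c0, by simpa using c1, by simpa [mul_assoc] using c2]
  have nD : ∀ c ∈ subs 2, ¬ IsConj t (W (val [a, u, v, t, s, d]) c) := fun c hc =>
    h.toBase.notD (cl_mono (l := [a, u]) (by simp) (W_mem_cl [a, u, v, t, s, d] 2 (subs_lt hc)))
  have ne : ∀ {w w' c c' : List ℕ}, g⁻¹ * W x c * g = W (val [a, u, v, t, s, d]) w →
      g⁻¹ * W x c' * g = W (val [a, u, v, t, s, d]) w' → tbR.eqv c c' = false →
      (tbD b).same w w' = false := fun k1 k2 k3 => Bool.eq_false_iff.2 fun e =>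
    h.zs.ne k3 (by simpa using k1.trans ((P.W_eq e).trans k2.symm))
  obtain ⟨w, hw, e⟩ := (by decide +kernel : ∀ b, ∀ w0 ∈ ZW, ∀ w1 ∈ ZW, (∀ w ∈ [w0, w1, w0 ++ w1],
      ∀ c ∈ subs 2, (tbD b).same (w ++ [3]) c = false) → (tbD b).same w0 [] = false →
      (tbD b).same w1 [] = false → (tbD b).same w0 w1 = false →
      ∃ w ∈ [w0, w1, w0 ++ w1], (tbD b).same (w ++ [3]) [3, 0] = true) b w0 m0 w1 m1
    (fun w hw c hc => Bool.eq_false_iff.2 fun e => nD c hc (P.W_eq e ▸ cw w hw))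
    (ne (c := [0]) (c' := []) (by simpa using e0) (by simp) rfl)
    (ne (c := [1]) (c' := []) (by simpa using e1) (by simp) rfl)
    (ne (c := [0]) (c' := [1]) (by simpa using e0) (by simpa using e1) rfl)
  obtain ⟨n, hn, e⟩ := h.toLoc.burn (x := t * a) (by have := cw w hw; rw [P.W_eq e] at this; simpa using this)
    (le_cen1_iff.2 (by simpa using h.toTr.zw_mem (w := [3, 0]) (by decide)))
  by_cases n0 : n ∈ N0 t v s u a
  · exact nar n n0.1.2 e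
  · refine nar _ (H85.DZ.mul_N0 h.toTr hn k.norT n0 fun e => k.not_norA h.toTr e.1.2).1.2 ?_
    rw [← e, ← k.dt]
    conv_lhs => rw [k.dt]
    group

theorem card_le : Nat.card S ≤ 8 * Nat.card ↥(Z ⊔ H x 6) := by
  have := card_le_mul (fun g : S => (h.zs.exP (o.le g.2)).choose) fun g g' e =>
    h.ker2 o g.2 g'.2 (h.zs.exP (o.le g.2)).choose_spec (e ▸ (h.zs.exP (o.le g'.2)).choose_spec)
  rwa [DihedralGroup.nat_card] at this

end Wr

namespace WrN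

variable (h : WrN t v s u a σ ρ x Z)
include h

theorem UD (hg : g ∈ Z ⊔ H x 6) : g ∈ H x 6 ∨ a * g ∈ H x 6 := by
  obtain ⟨e, he, d, hd, rfl⟩ := h.zs.dec0 hg
  exact (h.hZ e he).imp (fun k => mul_mem (H_mono (by decide) k) hd) fun k => by
    rw [← mul_assoc]; exact mul_mem (H_mono (by decide) k) hd

end WrN

theorem jobN4 : JobN4.{u} := by
  intro G _ _ X t v s u a σ ρ x Z hX h
  obtain ⟨S, hS, o⟩ := h.exS
  have k1 := h.card_le hS o
  have k2 := card_le_two fun g => h.UD (g := g)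
  rw [h.pres.card rfl (by decide) (h.ind.mono (by decide))] at k2
  exact out1 hS (by omega)

section

variable {b : G}

namespace WrW

variable (h : WrW t v s u a σ ρ b x Z)
include h

theorem cZ {e' : G} (he : e ∈ Z) (he' : e' ∈ Z) : e * e' = e' * e :=
  mem_cen_iff.1 (ab_of_sq h.Z2 he) _ he'

theorem bb : b * b = 1 := h.Z2 b h.bZ

theorem xZ (i : ℕ) (hi : i < 2 := by decide) : x i ∈ Z := h.ΦZ (x_mem hi)

theorem btb : b * t * b⁻¹ = t * a := by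
  rw [inv_eq_of_mul_eq_one_right h.bb, mul_assoc, mul_inv_eq_iff_eq_mul.1 h.tb, ← mul_assoc,
    ← mul_assoc, h.bb, one_mul, h.ta]

theorem cls' (hg : t * g ∈ Z ⊔ H x 6) (gg : g * g = 1) : ∃ w ∈ Z ⊔ H x 6, g = w * t * w⁻¹ := by
  obtain ⟨w, hw, e | ⟨e, -⟩⟩ := h.cls g hg gg
  exacts [⟨w, hw, e⟩, ⟨_, mul_mem hw (mem_sup_left h.bZ), by rw [e, ← h.btb]; group⟩]

theorem UD (hg : g ∈ Z ⊔ H x 6) :
    g ∈ H x 6 ∨ a * g ∈ H x 6 ∨ b * g ∈ H x 6 ∨ b * a * g ∈ H x 6 := by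
  obtain ⟨e, he, d, hd, rfl⟩ := h.zs.dec0 hg
  have k : ∀ c, c * e ∈ H x 2 → c * (e * d) ∈ H x 6 := fun c k => by
    rw [← mul_assoc]; exact mul_mem (H_mono (by decide) k) hd
  exact (h.hZ e he).imp (fun k => mul_mem (H_mono (by decide) k) hd)
    (Or.imp (k _) (Or.imp (k _) (k _)))

theorem tu : t * (b * x 0) * t⁻¹ = b * a * x 1 := by
  rw [← conj_mul, h.tb, h.zs.pz h.tP (by decide)]; rfl

theorem tu' : t * (b * a * x 1) * t⁻¹ = b * x 0 := by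
  rw [← h.tu, h.ti, ← mul_assoc, ← mul_assoc, h.tt, one_mul, mul_assoc, h.tt, mul_one]

theorem aΦ : a ∉ H x 2 := fun e => h.aD (H_mono (by decide) e)

theorem tΦ : t ∈ nor (H x 2) := h.zs.norΦ h.tP.1

/-- `[t, e] ∈ a Φ` for `e ∈ b Φ ∪ b a Φ`. -/
theorem tz (he : e ∈ Z) (k : b * e ∈ H x 2 ∨ b * a * e ∈ H x 2) : a * (t * e * t⁻¹ * e) ∈ H x 2 := by
  have f : ∀ c ∈ Z, t * c * t⁻¹ = c * a → c * e ∈ H x 2 → a * (t * e * t⁻¹ * e) ∈ H x 2 :=
    fun c hc e1 k => by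
      have := mul_mem (conj_mem_of_mem_normalizer h.tΦ k) k
      rwa [← conj_mul, e1, h.cZ hc h.aZ, mul_assoc a, mul_assoc a, h.cZ hc (h.zs.cjZ h.tP.1 he),
        mul_assoc, ← mul_assoc c c, h.Z2 c hc, one_mul] at this
  exact k.elim (f b h.bZ h.tb) (f _ (mul_mem h.bZ h.aZ) (by
    rw [← conj_mul, h.tb, ← h.ta, mul_inv_cancel_right]))

variable (hS : IsSyl 2 S ⊤) (o : Ov t x Z S)
include hS o

theorem exd' (hg : g ∈ S) (k : Pi x Z g pc) : ∃ d ∈ S, Pi x Z d pc ∧ d * t = t * d := by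
  obtain ⟨w, hw, e⟩ := h.cls' (h.kert o (mul_mem (mul_mem hg o.tS) (inv_mem hg))
    (h.zs.pcj k h.tP)) (conj_sq h.tt)
  exact h.exD hS o hg k (Or.inl rfl) hw e

theorem actb0 (hd : d ∈ S) (k : Pi x Z d pc) (c : d * t = t * d) : d * b * d⁻¹ = b * x 0 := by
  have m0 := mul_mem h.bZ (h.xZ 0)
  have KZ : cl [b * x 0, b * a * x 1] ≤ Z := cl2_le m0 (mul_mem (mul_mem h.bZ h.aZ) (h.xZ 1))
  have cK : cen Z ≤ nor (cl [b * x 0, b * a * x 1]) :=
    (centralizer_le KZ).trans (centralizer_le_normalizer _)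
  have tK : t ∈ nor (cl [b * x 0, b * a * x 1]) := nor_cl (by simp [h.tu, h.tu', m1, m2])
  have PK : Z ⊔ H x 6 ⊔ zpowers t ≤ nor (cl [b * x 0, b * a * x 1]) :=
    sup_le (h.zs.cZ.trans cK) (zpowers_le.2 tK)
  have σK : σ ∈ nor (cl [b * x 0, b * a * x 1]) := nor_cl (by
    have : σ * (b * a * x 1) * σ⁻¹ = b * a * x 1 := by
      rw [← h.tu, ← conj_mul, ← conj_mul, h.σb, h.ti, h.A.σt]
    simp [h.σb, this, m1, m2])
  have sP : s ∈ Z ⊔ H x 6 ⊔ zpowers t := h.TP (mem_cl (by simp))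
  have c1 : d⁻¹ * ρ * d * t = t * (d⁻¹ * ρ * d) := mem_cen1.1 (mul_mem (mul_mem (inv_mem (mem_cen1.2 c))
    (mem_cen1.2 (mul_inv_eq_iff_eq_mul.1 h.B.σt))) (mem_cen1.2 c))
  have c2 := h.swap_nor k
  obtain ⟨c', hc, c3⟩ := nA_dec h.toLc c1 (h.norA_of c1 c2)
  have c4 := mul_mem (inv_mem (cl2_le (h.syA.le sP) h.σA hc)) c2
  have AP : cl [a, u, v, t] ≤ Z ⊔ H x 6 ⊔ zpowers t := (cl_mono (by simp)).trans h.TP
  have EU : Z ⊔ cl [x 2, x 3] ≤ Z ⊔ H x 6 :=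
    sup_le_sup_left (cl2_le (x_mem (by decide)) (x_mem (by decide))) _
  have hR := h.syA.isPGroup.to_le (sup_le_sup_right EU (zpowers t))
  have AR : cl [a, u, v, t] ≤ Z ⊔ cl [x 2, x 3] ⊔ zpowers t := cl_le.2 fun y hy => by
    simp only [List.mem_cons, List.not_mem_nil, or_false] at hy
    rcases hy with rfl | rfl | rfl | rfl
    iterate 3 exact mem_sup_left (h.EAt.ge (mem_cl (by simp))).1
    exact mem_sup_right (mem_zpowers _)
  have c5 : c'⁻¹ * (d⁻¹ * ρ * d) ∈ nor (cl [b * x 0, b * a * x 1]) :=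
    mem_of_parts (fun m hm => PK (AP (ca2m h.toLc hm (mem_zpowers _) (pow_mem c3 m)))) fun m hm =>
      cK (centralizer_le (le_sup_left.trans le_sup_left :
        Z ≤ Z ⊔ cl [x 2, x 3] ⊔ zpowers t) (copr hR (mem_normalizer_of_cj_le (by
        rw [cj_sup, cj_eq_self (pow_mem c4 m), cj_zpowers, mem_cen_iff.1 (pow_mem c3 m) t
          (mem_cl (by simp)), mul_inv_cancel_right])) hm AR (pow_mem c3 m) fun y hy => ca2m h.toLc hR hy))
  have c6 := KZ (conj_mem_of_mem_normalizer ((mul_mem_cancel_left (inv_mem (cl2_le (PK sP) σK hc))).1 c5)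
    (m1 _ _))
  have dz : d * x 0 * d⁻¹ = x 0 := h.zs.pz k (by decide)
  have nt : ∀ y, y * t = t * y → d * (b * x 0) * d⁻¹ ≠ y := fun y e e' => h.aΦ (by
    have : b * x 0 ∈ cen1 t := by
      simpa [← e', mul_assoc] using mul_mem (mul_mem (inv_mem (mem_cen1.2 c)) (mem_cen1.2 e))
        (mem_cen1.2 c)
    have := h.tu.symm.trans (mul_inv_eq_iff_eq_mul.2 (mem_cen1.1 this).symm)
    rw [mul_assoc, mul_right_inj, ← eq_mul_inv_iff_mul_eq] at this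
    exact this ▸ mul_mem (x_mem (by decide)) (inv_mem (x_mem (by decide))))
  have fl : ∀ y, d * (b * x 0) * d⁻¹ = y → d * b * d⁻¹ = y * x 0 := fun y e => by
    rw [← e, ← conj_mul, dz, mul_assoc (d * b * d⁻¹)]
    exact (by rw [h.Z2 _ (h.xZ 0), mul_one] : d * b * d⁻¹ * (x 0 * x 0) = _).symm
  rcases h.ρZ _ (h.zs.cjZ k.1 m0) (by simpa [mul_assoc] using h.zs.cjZ k.1 c6) with e | e | e | e
  exacts [absurd e (nt _ (by simp)), absurd e (nt _ h.ta), fl _ e, by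
    have e1 := fl _ e
    have e2 := h.zs.fix h.bZ (h.ker o (mul_mem hd hd) (h.zs.pmul k k))
    rw [show d * d * b * (d * d)⁻¹ = d * (d * b * d⁻¹) * d⁻¹ by group, e1, ← conj_mul, ← conj_mul, e1,
      (h.swa o hd k).1, dz, mul_assoc _ (x 0), h.cZ (h.xZ 0) h.uZ, mul_assoc, mul_assoc u] at e2
    exact absurd (by simpa [h.Z2 _ (h.xZ 0), mul_assoc, h.au] using e2) h.z1]

theorem actb (hg : g ∈ S) (k : Pi x Z g pc) : g * b * g⁻¹ = b * x 0 := by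
  obtain ⟨d, hd, kd, c⟩ := h.exd' hS o hg k
  rw [← h.actb0 hS o hd kd c]
  conv_rhs => rw [← h.zs.fix h.bZ (h.ker2 o hg hd k kd)]
  group

theorem actba (hg : g ∈ S) (k : Pi x Z g pc) : g * (b * a) * g⁻¹ = b * a * x 1 := by
  have : u = x 0 * x 1 * a := by rw [h.ez, mul_assoc, h.aa, mul_one]
  rw [← conj_mul, h.actb hS o hg k, (h.swa o hg k).1, this]
  simp [mul_assoc, ← mul_assoc (x 0) (x 0), h.Z2 _ (h.xZ 0), h.cZ (h.xZ 1) h.aZ]

theorem dz (hd : d ∈ S) (k : Pi x Z d pc) (he : e ∈ Z) : (e ∈ H x 2 ∧ d * e * d⁻¹ * e = W x []) ∨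
    (a * e ∈ H x 2 ∧ d * e * d⁻¹ * e = W x [0, 1]) ∨ (b * e ∈ H x 2 ∧ d * e * d⁻¹ * e = W x [0]) ∨
    (b * a * e ∈ H x 2 ∧ d * e * d⁻¹ * e = W x [1]) := by
  have f : ∀ c ∈ Z, ∀ y, d * c * d⁻¹ = c * y → c * e ∈ H x 2 →
      c * e ∈ H x 2 ∧ d * e * d⁻¹ * e = y := fun c hc y e1 m => ⟨m, by
    have := mem_cen_iff.1 (h.cenΦ k rfl) _ m
    rw [← mul_inv_eq_iff_eq_mul, ← conj_mul, e1, mul_assoc, mul_right_inj] at this
    rw [← inv_mul_cancel_left y (d * e * d⁻¹), this, mul_assoc, h.Z2 e he, mul_one]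
    exact inv_eq_of_mul_eq_one_right (h.Z2 y ((mul_mem_cancel_left hc).1 (e1 ▸ h.zs.cjZ k.1 hc)))⟩
  refine (h.hZ e he).imp (fun m => by simpa using f 1 (one_mem _) 1 (by simp) (by simpa using m))
    (Or.imp (f a h.aZ _ ?_) (Or.imp (f b h.bZ _ (by simpa using h.actb hS o hd k))
      (f _ (mul_mem h.bZ h.aZ) _ (by simpa using h.actba hS o hd k))))
  simp [(h.swa o hd k).1, h.ez, ← h.au, ← mul_assoc, h.aa]

theorem dΦ (hd : d ∈ S) (k : Pi x Z d pc) (he : e ∈ Z) : d * e * d⁻¹ * e ∈ H x 2 := by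
  rcases h.dz hS o hd k he with c | c | c | c <;> exact c.2 ▸ W_mem rfl

theorem noc (hy : y ∈ S) (c : IsConj t y) (k : Pi x Z y pc) : False := by
  obtain ⟨r0, r1, -⟩ := h.invc hS o k (h.toTr.sq_of_isConj c)
  have f : ∀ c ∈ Z, ∀ i < 2, y * c * y⁻¹ = c * x i → y * W x [i + 2, i + 4] * y⁻¹ =
      W x [i + 2, i + 4] * x i → ∃ r ∈ S ⊓ cen1 y, r * r = x i := fun c hc i hi e1 e2 => by
    have m : W x [i + 2, i + 4] ∈ H x 6 := W_mem (by simp; omega)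
    refine ⟨c * W x [i + 2, i + 4], ⟨o.U (mul_mem (mem_sup_left hc) (mem_sup_right m)),
      mem_cen1.2 (mul_inv_eq_iff_eq_mul.1 ?_).symm⟩, by rw [h.zs.sq hc m, ← h.zs.zsq i hi]⟩
    rw [← conj_mul, e1, e2, ← h.zs.cm (h.xZ i hi) m, mul_assoc, ← mul_assoc (x i), h.Z2 _ (h.xZ i hi),
      one_mul]
  have ex : ∀ i < 2, ∃ r ∈ S ⊓ cen1 y, r * r = x i := fun i hi => by
    interval_cases i
    exacts [f b h.bZ 0 hi (h.actb hS o hy k) (by simpa [mul_assoc] using r0),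
      f _ (mul_mem h.bZ h.aZ) 1 hi (h.actba hS o hy k) (by simpa [mul_assoc] using r1)]
  obtain ⟨g, -, e⟩ := h.toLoc.exists_cj c (o.two.to_le (inf_le_left (b := cen1 y))) inf_le_right
  refine h.fin (g := g) fun i hi => ?_
  obtain ⟨r, hr, e1⟩ := ex i hi
  have e2 : g⁻¹ * x i * g = g⁻¹ * r * g⁻¹⁻¹ * (g⁻¹ * r * g⁻¹⁻¹) := by rw [← e1]; group
  rcases e with e | ⟨d, k, e⟩
  · exact (h.sq_T (e (conj_mem_cj hr))).elim (fun c => Or.inl (e2.trans c))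
      fun c => Or.inr (Or.inr (Or.inl (e2.trans c)))
  · obtain ⟨β, P, -⟩ := k.pres h.toTr
    obtain ⟨w, hw, e3⟩ := P.mem_cl (by cases β <;> rfl) 6 le_rfl (e (conj_mem_cj hr))
    rw [e3, ← W_append] at e2
    obtain ⟨c, hc, e4⟩ := (keyD β w hw).2.2 (P.eqv (k.ind h.toTr) (by
      rw [W_append, ← e2]; simpa using conj_sq (g := g⁻¹) (h.Z2 _ (h.xZ i hi))))
    exact of_Z4 hc (e2.trans (P.W_eq e4))

end WrW

end

theorem jobW4 : JobW4.{u} := by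
  intro G _ _ X t v s u a σ ρ b x Z hX h
  obtain ⟨S, hS, o⟩ := h.exS
  exact out2 hX hS o.tS (h.tX hS o hX (Or.inr fun _ => h.noc hS o)) (by
    have := h.card_le hS o
    rw [h.cU] at this
    omega)

end H85.DY.NW
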