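import Cfsg.Agent.H57.DZN
import Cfsg.Agent.H85.DYSpec

/-! DY: the narrow data (port of `H57/DZN`). -/

set_option autoImplicit false
set_option linter.unusedSectionVars false

namespace H85.DY.C57
open H57.DZ

open Subgroup Cfsg H14 H98 H1.Gold H31.S2 H85.FZ H49.D8 H85.DZ H62.FZ

universe u

variable {G : Type u} [Group G] [Finite G] {t v s u a σ ρ p q y d g x c : G} {P Q R : Subgroup G}

/-- A Sylow subgroup of `N₀` that is normalized by `d`. -/
theorem exP1 (h : H85.DY.Loc t v s u a σ ρ) :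
    ∃ P, IsSyl 2 P (N0 t v s u a) ∧ cl [a, u, v, t, s] ≤ P ∧ Nd t v s u a P := by
  have k : ∀ Q : Subgroup G, IsPGroup 2 Q → cl [a, u, v, t, s] ≤ Q → Q ≤ nor (cl [a, u, v, t, s]) →
      ∃ P, IsSyl 2 P (N0 t v s u a) ∧ cl [a, u, v, t, s] ≤ P ∧ Q ≤ nor P := fun Q h1 h2 h3 => by
    obtain ⟨S, hS, le⟩ := exists_isSyl_le h1 h3
    have n : S ≤ nor (N0 t v s u a) := fun g hg => nor_N0 h.toTr (hS.le hg)
    refine ⟨S ⊓ N0 t v s u a, hS.inf_of_le_normalizer (inf_le_left.trans inf_le_left) n,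
      le_inf (h2.trans le) (T_le_N0 h.toTr), fun g hg => ?_⟩
    rw [← cj_eq_self_iff, cj_inf, cj_eq_self_of_mem (le hg), cj_eq_self (n (le hg))]
  rcases h.top with e | ⟨d, e⟩
  · obtain ⟨P, h1, h2, -⟩ := k _ h.isPGroup le_rfl le_normalizer
    exact ⟨P, h1, h2, Or.inl e⟩
  · obtain ⟨P, h1, h2, h3⟩ := k _ e.syl.isPGroup (cl_mono (by simp)) (cl_le.2 fun y hy => by
      rcases List.mem_append.1 (show y ∈ [a, u, v, t, s] ++ [d] from hy) with hy | hy
      · exact le_normalizer (mem_cl hy)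
      · exact List.mem_singleton.1 hy ▸ e.norT)
    exact ⟨P, h1, h2, Or.inr ⟨d, h3 (mem_cl (by simp)), e⟩⟩

theorem conj_v (h : H85.DY.Nar t v s u a σ ρ) (hy : y ∈ N0 t v s u a) (yt : y * t * y⁻¹ = t * (u * a))
    (yz : y * (u * a) * y⁻¹ = u * a) :
    ∃ i, y * v * y⁻¹ = W (val [a, u, v, t, s]) (2 :: ow i [1, 0]) := by
  obtain ⟨w, hw, e⟩ := h.pres.mem_cl rfl 4 (by decide)
    (conj_mem_of_mem_normalizer hy.1.2 (mem_cl (l := [a, u, v, t]) (y := v) (by simp)))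
  have nσ := hnorA h.A
  have e1 : y * (σ * y * σ⁻¹) * t * (y * (σ * y * σ⁻¹))⁻¹ =
      W (val [a, u, v, t, s]) ([3, 1, 0] ++ w) := by
    have e0 : σ⁻¹ * t * σ = t := by
      rw [mul_assoc, ← mul_inv_eq_iff_eq_mul.1 h.A.σt, inv_mul_cancel_left]
    have e2 : σ * (t * (u * a)) * σ⁻¹ = t * v := by
      rw [← conj_mul, ← conj_mul, h.A.σt, h.A.σu, h.A.σa, ← h.uv, ← mul_assoc u, h.uu, one_mul]
    calc _ = y * (σ * (y * (σ⁻¹ * t * σ) * y⁻¹) * σ⁻¹) * y⁻¹ := by group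
      _ = _ := by rw [e0, yt, e2, ← conj_mul, yt, e]; simp [mul_assoc]
  have n1 : y * (σ * y * σ⁻¹) ∈ nor (cl [a, u, v, t]) :=
    mul_mem hy.1.2 (mul_mem (mul_mem nσ hy.1.2) (inv_mem nσ))
  generalize y * (σ * y * σ⁻¹) = g at e1 n1
  rcases (by decide +kernel : ∀ w ∈ subs 4, w.all (· ∈ [0, 1, 3]) = true ∨
      (∃ i, w = 2 :: ow i [1, 0]) ∨ (tbT.col ([3, 1, 0] ++ w)).all (· < 3) = true ∨
      (([3, 1, 0] ++ w).all (· ∈ [0, 1, 2, 3]) = true ∧ (tbT.same (app sg ([3, 1, 0] ++ w)) [3, 0] = true ∨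
        tbT.same (app sgi ([3, 1, 0] ++ w)) [3, 0] = true))) w hw with k | ⟨i, rfl⟩ | k | ⟨k, k'⟩
  · refine (h.toTr.swap.s_notMem ((mem_normalizer_iff.1 hy.2 v).2 ?_)).elim
    rw [e]
    refine W_mem_of fun r hr => mem_cl ?_
    have := of_decide_eq_true (List.all_eq_true.1 k r hr)
    simp only [List.mem_cons, List.not_mem_nil, or_false] at this
    rcases this with rfl | rfl | rfl <;> simp
  · exact ⟨i, e⟩
  · refine (h.notD (W_mem_cl [a, u, v, t, s] 3 k) (isConj_iff.2 ⟨g, ?_⟩)).elim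
    rw [e1, h.pres.W_col]
  · exfalso
    rcases k' with k' | k'
    · refine (h.narA _ (mul_mem nσ n1)).2 ?_
      have := ((hact h.A [s]).w k).trans (h.pres.W_eq k')
      rw [← e1] at this
      simpa [mul_assoc] using this
    · refine (h.narA _ (mul_mem (inv_mem nσ) n1)).2 ?_
      have := ((hacti h.A h.toTr [s]).w k).trans (h.pres.W_eq k')
      rw [← e1] at this
      simpa [mul_assoc] using this

theorem exists_Cy (h : H85.DY.Nar t v s u a σ ρ) (hy : y ∈ N0 t v s u a) (yt : y * t * y⁻¹ = t * (u * a))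
    (yu : y * u = u * y) : ∃ w ∈ cl [a, u, v, t, s], Cy t v s u a (y * w) := by
  have yz : y * (u * a) * y⁻¹ = u * a := by
    have e : v * s * (v * s) = u * a := by
      simpa [mul_assoc] using h.pres.W_eq (w := [2, 4, 2, 4]) (w' := [1, 0]) rfl
    have := h.sq_T (conj_mem_of_mem_normalizer hy.1.1
      (mul_mem (mem_cl (y := v) (by simp)) (mem_cl (y := s) (by simp))))
    rw [conj_mul, e] at this
    exact this.resolve_left fun e' => z_ne h.toTr (conj_eq_one_iff.1 e')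
  have yu' : y * u * y⁻¹ = u := by rw [yu, mul_inv_cancel_right]
  have ya : y * a * y⁻¹ = a := by rwa [← conj_mul, yu', mul_right_inj] at yz
  obtain ⟨i, ei⟩ := conj_v h hy yt yz
  obtain ⟨j, ej⟩ := conj_v h.swap (N0_swap t v s u a ▸ hy) (h.au ▸ yt) (h.au ▸ yz)
  have ay : Act (val [a, u, v, t, s]) y [0, 1, 2, 3, 4]
      [(2, 2 :: ow i [1, 0]), (3, [3, 1, 0]), (4, 4 :: ow j [0, 1])] := by
    simp only [Act, List.mem_cons, List.not_mem_nil, or_false, forall_eq_or_imp, forall_eq]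
    refine ⟨by simpa [app] using ya, by simpa [app] using yu', by simpa [app] using ei,
      by simpa [app] using yt, ?_⟩
    cases j <;> simpa [app, ow] using ej
  have := act_agree h.pres (act_cp h.pres ay (act_inn h.pres (fun _ => rfl)
    (w := ow i [4] ++ ow j [2]) (by cases i <;> cases j <;> rfl) [0, 1, 2, 3, 4])
    (by cases i <;> cases j <;> rfl)) (f' := fy) (by cases i <;> cases j <;> rfl)
  refine ⟨W (val [a, u, v, t, s]) (ow i [4] ++ ow j [2]),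
    W_mem_cl [a, u, v, t, s] 5 (by cases i <;> cases j <;> rfl), ?_⟩
  generalize y * W _ _ = y' at this ⊢
  exact ⟨by simpa [app, fy] using this 0 (by simp), by simpa [app, fy] using this 1 (by simp),
    by simpa [app, fy] using this 2 (by simp), by simpa [app, fy] using this 4 (by simp),
    by simpa [app, fy] using this 3 (by simp)⟩

/-- `N₀` maps `t` to `t` or `t z`. -/
theorem n0_t (h : H85.DY.Nar t v s u a σ ρ) (hg : g ∈ N0 t v s u a) :
    g * t * g⁻¹ = t ∨ g * t * g⁻¹ = t * (u * a) := by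
  obtain ⟨w, hw, e⟩ := h.conj_zw hg.1.1 (c := [3]) (by decide)
  have c : IsConj t (W (val [a, u, v, t, s]) w) := isConj_iff.2 ⟨g, by simpa using e⟩
  simp only [ZW, List.mem_cons, List.not_mem_nil, or_false] at hw
  rcases hw with rfl | rfl | rfl | rfl | rfl | rfl | rfl | rfl <;>
    simp only [W_cons, W_nil, val_zero, val_succ, mul_one] at c e
  · exact (h.toBase.notD (one_mem _) c).elim
  · exact (h.na c).elim
  · exact (h.nu c).elim
  · exact (h.toLoc.nz c).elim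
  · exact Or.inl e
  · exact ((h.narA g hg.1.2).2 e).elim
  · exact ((h.narA g hg.1.2).1 e).elim
  · exact Or.inr e

theorem exY (h : H85.DY.Nar t v s u a σ ρ) (hy : y ∈ N0 t v s u a) (yt : y * t * y⁻¹ = t * (u * a))
    (yu : y * u = u * y) : ∃ (y : G) (P : Subgroup G), Cy t v s u a y ∧ IsPGroup 2 P ∧ cl [a, u, v, t, s] ≤ P ∧ y ∈ P ∧
      (∀ x ∈ P, x ∈ cl [a, u, v, t, s] ∨ y⁻¹ * x ∈ cl [a, u, v, t, s]) ∧ Nd t v s u a P := by
  obtain ⟨P, hP, hT, nd⟩ := exP1 h.toLoc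
  have z2 := zz h.toTr
  have flip : ∀ {g : G}, g ∈ N0 t v s u a → g * t * g⁻¹ = t * (u * a) →
      g * (t * (u * a)) * g⁻¹ = t := fun {g} hg e => by
    rw [← conj_mul, e, h.gz hg.1.1, mul_assoc, z2, mul_one]
  have back : ∀ {g x : G}, g ∈ N0 t v s u a → g * t * g⁻¹ = t * (u * a) →
      x * t * x⁻¹ = t * (u * a) → g⁻¹ * x * t = t * (g⁻¹ * x) := fun {g x} _ e e' => by
    calc g⁻¹ * x * t = g⁻¹ * (x * t * x⁻¹) * x := by group
      _ = _ := by rw [e', ← e]; group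
  have fu : ∀ g ∈ N0 t v s u a, g * u = u * g := fun g hg => by
    rcases n0_t h hg with e | e
    · exact mul_inv_eq_iff_eq_mul.1 (nA_fix h.toLc (mul_inv_eq_iff_eq_mul.1 e) hg.1.2).1
    · have := mul_inv_eq_iff_eq_mul.1 (nA_fix h.toLc (back hy yt e)
        (mul_mem (inv_mem hy.1.2) hg.1.2)).1
      calc g * u = y * (y⁻¹ * g * u) := by group
        _ = _ := by rw [this, ← mul_assoc, yu]; group
  obtain ⟨m, hm, n, hn, e⟩ := ex2 hP hy
  have y2 : Commute (y ^ 2) t := by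
    rw [Commute, SemiconjBy, ← mul_inv_eq_iff_eq_mul, pow_two,
      show y * y * t * (y * y)⁻¹ = y * (y * t * y⁻¹) * y⁻¹ by group, yt, flip hy yt]
  have ym : y ^ m * t * (y ^ m)⁻¹ = t * (u * a) := by
    rw [show m = 1 + 2 * (m / 2) by omega, pow_add, pow_mul, pow_one, mul_assoc y,
      (y2.pow_left _).eq, ← yt]
    group
  have hm0 : y ^ m ∈ N0 t v s u a := pow_mem hy m
  generalize y ^ m = y1 at e ym hm0
  have h1 : n * y1 * n⁻¹ * t * (n * y1 * n⁻¹)⁻¹ = t * (u * a) := by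
    rw [show n * y1 * n⁻¹ * t * (n * y1 * n⁻¹)⁻¹ = n * (y1 * (n⁻¹ * t * n⁻¹⁻¹) * y1⁻¹) * n⁻¹ by group]
    rcases n0_t h (inv_mem hn) with k | k <;> rw [k]
    · rw [ym, ← conj_mul, h.gz hn.1.1]
      nth_rw 1 [← k]; group
    · rw [flip hm0 ym]
      have := flip (inv_mem hn) k
      nth_rw 1 [← this]; group
  generalize n * y1 * n⁻¹ = y2 at e h1
  obtain ⟨w, hw, c⟩ := exists_Cy h (hP.le e) h1 (fu _ (hP.le e))
  have yP : y2 * w ∈ P := mul_mem e (hT hw)
  generalize y2 * w = y3 at c yP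
  refine ⟨y3, P, c, hP.isPGroup, hT, yP, fun x hx => ?_, nd⟩
  rcases n0_t h (hP.le hx) with k | k
  · exact Or.inl (two h.toLc hP.isPGroup hT hx (mul_inv_eq_iff_eq_mul.1 k) (hP.le hx).1.2)
  · exact Or.inr (two h.toLc hP.isPGroup hT (mul_mem (inv_mem yP) hx) (back (hP.le yP) c.yt k)
      (hP.le (mul_mem (inv_mem yP) hx)).1.2)

theorem jobN : H85.DY.JobN.{u} := by
  rintro G _ _ t v s u a σ ρ h ⟨y, hy, yt, yu⟩
  obtain ⟨y, P, c, hP, hT, yP, hg, nd⟩ := exY h hy yt yu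
  have ht : t ∈ cl [a, u, v, t, s] := mem_cl (by simp)
  obtain ⟨y, c, yP, hg, yy⟩ : ∃ y, Cy t v s u a y ∧ y ∈ P ∧
      (∀ x ∈ P, x ∈ cl [a, u, v, t, s] ∨ y⁻¹ * x ∈ cl [a, u, v, t, s]) ∧ y * y = 1 := by
    obtain ⟨_, -, e | e⟩ := sideN h.toLc c hP hT yP hg (sq_mem c h.toLc hP hT yP)
    · refine ⟨t * y, ⟨?_, ?_, ?_, ?_, ?_⟩, mul_mem (hT ht) yP, fun x hx => ?_, ?_⟩
      · rw [mul_inv_rev, ← mul_assoc, mul_assoc t, mul_assoc t, c.ya, ← h.ta]; group
      · rw [mul_inv_rev, ← mul_assoc, mul_assoc t, mul_assoc t, c.yu, ← h.ut]; group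
      · rw [mul_inv_rev, ← mul_assoc, mul_assoc t, mul_assoc t, c.yv, ← h.vt]; group
      · rw [mul_inv_rev, ← mul_assoc, mul_assoc t, mul_assoc t, c.ys, ← h.st]; group
      · rw [mul_inv_rev, ← mul_assoc, mul_assoc t, mul_assoc t, c.yt,
          mul_inv_eq_iff_eq_mul, mul_assoc t,
          (show Commute u t from h.ut).mul_left (show Commute a t from h.ta)]
      · rcases hg (t⁻¹ * x) (mul_mem (inv_mem (hT ht)) hx) with k | k
        · exact Or.inl ((mul_mem_cancel_left (inv_mem ht)).1 k)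
        · exact Or.inr (by rwa [mul_inv_rev, mul_assoc])
      · calc t * y * (t * y) = t * (y * t * y⁻¹) * (y * y) := by group
          _ = 1 := by rw [c.yt, e, ← mul_assoc t, h.tt, one_mul, zz h.toTr]
    · exact ⟨y, c, yP, hg, e.1⟩
  obtain ⟨σ', s1, e1⟩ := sideN h.toLc c hP hT yP hg (yy ▸ one_mem _)
  obtain ⟨-, Z, k, h1⟩ := e1.resolve_left fun e => z_ne h.toTr (e.symm.trans yy)
  obtain ⟨ρ', s2, e2⟩ := sideN (lc_swap h.toLc) (c.swap h.toTr) hP (cl_swap a u v t s ▸ hT) yP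
    (cl_swap a u v t s ▸ hg) (yy ▸ one_mem _)
  obtain ⟨-, Z', k', h2⟩ := e2.resolve_left fun e => z_ne h.toTr.swap (e.symm.trans yy)
  have eP : cl [a, u, v, t, s, y] = P := le_antisymm (cl_le.2 fun x hx => by
    rcases List.mem_append.1 (show x ∈ [a, u, v, t, s] ++ [y] from hx) with hx | hx
    · exact hT (mem_cl hx)
    · exact List.mem_singleton.1 hx ▸ yP) fun x hx => (hg x hx).elim
      (fun e => cl_mono (by simp) e) fun e =>
        (mul_mem_cancel_left (inv_mem (mem_cl (y := y) (by simp)))).1 (cl_mono (by simp) e)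
  exact ⟨σ', ρ', y, Z, k, Z', k', ⟨⟨⟨⟨⟨h.toTr, s1, s2⟩, h.top, h.nsyl⟩, h.nu, h.na⟩, h.narA, h.narB⟩,
    c.pres h.toTr yy, eP ▸ nd⟩, h1, h2⟩

end H85.DY.C57
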