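import Cfsg.Agent.H30.NZ3
import Cfsg.Agent.H85.DYN

/-! DY: narrow, type Z (port of `H30/NZ1`, `H30/NZ3`). -/

set_option autoImplicit false
set_option linter.unusedSectionVars false

namespace H85.DY.NZ
open H30.NZ

open Subgroup Cfsg H14 H98 H1.Gold H31.S2 H85.FZ H49.D8 H62.FZ H85.DZ H85.En H62.FZ.NZ

universe u

section

variable {G : Type u} [Group G] [Finite G] {t v s u a σ ρ g n : G} {X K : Subgroup G}
  {T : Tb} {L : List ℕ} {x : ℕ → G} {c k j : ℕ}

theorem fin {l : List G} (M : Md T L (val (a :: u :: v :: t :: s :: l))) (hn : T.n = 9)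
    (h : H85.DY.Nar t v s u a σ ρ) (ta : ¬ IsConj t (t * a)) (k : test L = true) :
    Out2 X t := by
  simp only [test, Bool.and_eq_true, allB_iff, force_eq, Bool.or_eq_true, Bool.not_eq_true',
    decide_eq_true_eq, beq_iff_eq, List.all_eq_true, List.any_eq_true, List.mem_range] at k
  obtain ⟨⟨⟨⟨⟨⟨⟨k1, k2⟩, k3⟩, -⟩, k5⟩, -⟩, k7⟩, k8⟩ := k
  have H3 : H (val (a :: u :: v :: t :: s :: l)) 3 = cl [a, u, v] := H_val _ _
  have H4 : H (val (a :: u :: v :: t :: s :: l)) 4 = cl [a, u, v, t] := H_val _ _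
  have H5 : H (val (a :: u :: v :: t :: s :: l)) 5 = cl [a, u, v, t, s] := H_val _ _
  have ev : ∀ c ∈ [1, 2, 3, 4, 7, 8, 9], E (val (a :: u :: v :: t :: s :: l)) 9 c =
      [1, a, u, u * a, v, 1, 1, v * (u * a), t, t * a].getD c 1 := by
    simp [E, Nat.testBit]
  obtain ⟨e1, e2, e3, e4, e7, e8, e9⟩ : _ ∧ _ ∧ _ ∧ _ ∧ _ ∧ _ ∧ _ := by simpa using ev
  generalize val (a :: u :: v :: t :: s :: l) = x at *
  have cmi : ∀ {c d}, c < 2 ^ 9 → d < 2 ^ 9 →
      (H85.DZ.cm L c d = true ↔ E x 9 c * E x 9 d = E x 9 d * E x 9 c) := hn ▸ cm_iff M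
  have sqi : ∀ {c}, c < 2 ^ 9 → (sq1 L c = true ↔ E x 9 c * E x 9 c = 1) := hn ▸ M.sq_iff
  have sj : ∀ {g}, g ∈ H x 9 → ∃ c < 2 ^ 9, g = E x 9 c := hn ▸ M.surj
  have mH : ∀ {k c}, k ≤ 9 → c < 2 ^ 9 → (E x 9 c ∈ H x k ↔ c < 2 ^ k) := hn ▸ memH M
  have bg : ∀ {k j c} {K : Subgroup G}, k ≤ 9 → c < 2 ^ 9 → big L k j c = true →
      K ≤ H x k ⊓ cen1 (E x 9 c) → j * Nat.card K ≤ 2 ^ k := hn ▸ big_le M
  have cs : ∀ {R c}, R.all (· < 2 ^ 9) = true → tb (cls L 9 R) c = true →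
      ∃ r ∈ R, ∃ h ∈ H x 9, E x 9 c = h * E x 9 r * h⁻¹ := hn ▸ M.cls le_rfl
  have mu : ∀ c {d}, d < 2 ^ 9 → mul L c d < 2 ^ 9 ∧ E x 9 (mul L c d) = E x 9 c * E x 9 d :=
    fun c _ hd => (hn ▸ M.mul) hd c
  have cd : ∀ k ≤ 9, Nat.card (H x k) = 2 ^ k := fun k hk => M.P.card M.wf (hn ▸ hk) (M.I.mono (hn ▸ hk))
  have p2 : ∀ k ≤ 9, IsPGroup 2 (H x k) := fun k hk => IsPGroup.of_card (cd k hk)
  have l79 : H x 7 ≤ H x 9 := H_mono (by decide)
  have cu : ∀ g ∈ H x 9, g * u = u * g ↔ g ∈ H x 7 := fun g hg => by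
    obtain ⟨c, hc, rfl⟩ := sj hg
    rw [← e2, ← cmi hc (by decide), k1 c hc, decide_eq_true_eq, mH (by decide) hc]
  have lt : ∀ i < 9, 2 ^ i < 2 ^ 9 := fun i hi => Nat.pow_lt_pow_right one_lt_two hi
  have Sz : H x 9 ≤ cen1 (u * a) := H_le fun i hi => mem_cen1.2 (by
    rw [← e3, ← E_pow x hi, ← cmi (lt i hi) (by decide)]; exact (k8 i hi).1.1)
  have SA : H x 9 ≤ nor (cl [a, u, v]) := H_le fun i hi => mem_normalizer_fintype fun y hy => by
    rw [← H3] at hy ⊢
    obtain ⟨c, hc, rfl⟩ := sj (H_mono (by decide) hy)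
    have m := mu c (lt i hi)
    rw [← E_pow x hi, inv_eq_of_mul_eq_one_right ((sqi (lt i hi)).1 (k8 i hi).1.2), mul_assoc, ← m.2,
      ← (mu _ m.1).2]
    exact (mH (by decide) (mu _ m.1).1).2 ((k8 i hi).2 c ((mH (by decide) hc).1 hy))
  have Gu : H x 7 ≤ cen1 u := fun g hg => mem_cen1.2 ((cu g (l79 hg)).2 hg)
  have m3 : cl [a, u, v] ≤ cl [a, u, v, t] := cl_mono (by simp)
  have mt : t ∈ cl [a, u, v, t] := mem_cl (by simp)
  have T7 : cl [a, u, v, t, s] ≤ H x 7 := H5 ▸ H_mono (by decide)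
  have A7 : cl [a, u, v, t] ≤ H x 7 := H4 ▸ H_mono (by decide)
  have sy : IsSyl 2 (H x 7) (cen1 u) := by
    by_contra hs
    obtain ⟨n, n1, n2, n3, n4⟩ := ext_of_not_syl (p2 7 (by decide)) Gu hs
    have c64 : Nat.card ↥(H x 7 ⊓ cen1 v) = 64 := by
      rw [← k7, ← hn]
      refine M.card_eq (inf_le_left.trans (hn ▸ l79)) fun c hc => ?_
      rw [hn] at hc ⊢
      rw [Bool.and_eq_true, decide_eq_true_eq, cmi hc (by decide), e4, mem_inf, mem_cen1, mH (by decide) hc]
    have nA : n ∈ nor (cl [a, u, v]) := mem_normalizer_of_cj_le (cj_le_iff.2 (cl_le.2 fun w hw => by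
      have w7 := conj_mem_of_mem_normalizer n2 (A7 (m3 (mem_cl hw)))
      obtain ⟨c, hc, ec⟩ := sj (l79 w7)
      rw [mem_cj, inv_inv, ec, ← H3, mH (by decide) hc]
      refine ((k3 c hc).resolve_right fun e => ?_).resolve_left (by
        rw [Bool.not_eq_false, sqi hc, ← ec, conj_mul, h.toTr.A_sq (m3 (mem_cl hw))]; simp)
      have := bg (K := cj n (H x 7 ⊓ cen1 v)) (by decide) hc (e.2.resolve_left (by
        rw [not_le, ← mH (by decide) hc, ← ec]; exact w7)) (le_inf (cj_le_of_le inf_le_left n2) (by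
          rw [← ec, ← cj_cen1]
          refine cj_mono _ fun g hg => ?_
          simp only [List.mem_cons, List.not_mem_nil, or_false] at hw
          rcases hw with rfl | rfl | rfl
          · have := mem_cen1.1 (Sz (l79 hg.1))
            rw [← mul_assoc, mem_cen1.1 (Gu hg.1), mul_assoc, mul_assoc, mul_right_inj] at this
            exact mem_cen1.2 this
          exacts [Gu hg.1, hg.2]))
      rw [card_cj, c64] at this
      omega))
    have w7 := conj_mem_of_mem_normalizer n2 (A7 mt)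
    obtain ⟨c, hc, ec⟩ := sj (l79 w7)
    have ct : IsConj t (E x 9 c) := isConj_iff.2 ⟨n, ec⟩
    rcases k2 c ((mH (by decide) hc).1 (ec ▸ w7)) with (e | e) | e
    · rw [(sqi hc).2 (by rw [← ec, conj_mul, h.tt]; simp), (cmi hc (by decide)).2 (by
        have := h.toTr.A_comm mt (m3 (conj_mem_of_mem_normalizer' nA (mem_cl (y := v) (by simp))))
        rw [← ec, e4]
        calc n * t * n⁻¹ * v = n * (t * (n⁻¹ * v * n)) * n⁻¹ := by group
          _ = _ := by rw [this]; group)] at e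
      exact absurd e (by decide)
    · exact h.toBase.notD (H3 ▸ (mH (by decide) hc).2 e) ct
    obtain ⟨r, hr, g, g1, g2⟩ := cs (by decide) e
    simp only [List.mem_cons, List.not_mem_nil, or_false] at hr
    rcases hr with rfl | rfl
    swap
    · exact ta (ct.trans (isConj_iff.2 ⟨g, by rw [g2, e9]⟩).symm)
    rw [← ec, e8] at g2
    have c1 : g⁻¹ * n * t = t * (g⁻¹ * n) := by
      calc g⁻¹ * n * t = g⁻¹ * (n * t * n⁻¹) * n := by group
        _ = _ := by rw [g2]; group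
    have c2 : g⁻¹ * n ∈ nor (cl [a, u, v, t]) := mem_normalizer_of_cj_le (cj_le_iff.2 (cl_le.2
      fun w hw => mem_cj.2 (by
        rw [inv_inv]
        rcases List.mem_append.1 (show w ∈ [a, u, v] ++ [t] from hw) with hw | hw
        · exact m3 (conj_mem_of_mem_normalizer (mul_mem (inv_mem (SA g1)) nA) (mem_cl hw))
        · rwa [List.mem_singleton.1 hw, c1, mul_inv_cancel_right])))
    have g7 := (cu g g1).1 (by
      have := (nA_fix h.toLc c1 c2).1
      calc g * u = g * (g⁻¹ * n * u * (g⁻¹ * n)⁻¹) := by rw [this]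
        _ = n * u * n⁻¹ * g := by group
        _ = _ := by rw [mem_cen1.1 n1, mul_inv_cancel_right])
    exact n3 ((mul_mem_cancel_left (inv_mem g7)).1 (T7 (two h.toLc (isPGroup_ext (p2 7 (by decide)) n2 n4)
      (T7.trans le_sup_right) (mul_mem (mem_sup_right (inv_mem g7)) (mem_sup_left (mem_zpowers n))) c1 c2)))
  have uz : ¬ IsConj u (u * a) := fun e => by
    obtain ⟨g, e⟩ := isConj_iff.1 e
    have := (sy.cj g).card_le (p2 9 le_rfl) (by rwa [cj_cen1, e])
    rw [card_cj, cd 9 le_rfl, cd 7 (by decide)] at this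
    omega
  have zv : IsConj (u * a) v := isConj_iff.2 ⟨σ, by
    rw [← conj_mul, h.A.σu, h.A.σa, ← h.uv, ← mul_assoc, h.uu, one_mul]⟩
  have u7 : u ∈ H x 7 := A7 (mem_cl (by simp))
  have U : ∀ g, cj g (H x 7) ≤ H x 9 → ∃ c ∈ [1, 2, 5, 6], g * u * g⁻¹ = E x 9 c := fun g hg => by
    obtain ⟨c, hc, ec⟩ := sj (hg (conj_mem_cj u7))
    have cc : IsConj u (E x 9 c) := isConj_iff.2 ⟨g, ec⟩
    have := ((k3 c hc).resolve_right fun e => by
      have := bg le_rfl hc e.1 (le_inf hg (by rw [← ec, ← cj_cen1]; exact cj_mono _ Gu))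
      rw [card_cj, cd 7 (by decide)] at this
      omega).resolve_left (by rw [Bool.not_eq_false, sqi hc, ← ec, conj_mul, h.uu]; simp)
    refine ⟨c, ?_, ec⟩
    interval_cases c
    · exact absurd (isConj_one_left.1 (E_zero x 9 ▸ cc)) fun e =>
        h.pres.ne h.ind (w := [1]) (w' := []) rfl (by simpa using e)
    any_goals decide
    exacts [(uz (e3 ▸ cc)).elim, (uz ((e4 ▸ cc).trans zv.symm)).elim,
      (uz (((e7 ▸ cc).trans (isConj_iff.2 ⟨σ, h.A.σv⟩).symm).trans zv.symm)).elim]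
  have cl2 : ∀ c ∈ [1, 2, 5, 6], ∃ r ∈ H x 9, E x 9 c = r * u * r⁻¹ := fun c hc => by
    obtain ⟨r, hr, e⟩ := cs (by decide) (k5 c hc)
    rwa [List.mem_singleton.1 hr, e2] at e
  have hS : IsSyl 2 (H x 9) ⊤ := syl_of (x := u) (p2 9 le_rfl) (by
    rwa [sy.eq_of_le ((p2 9 le_rfl).to_le inf_le_left) (le_inf l79 Gu) inf_le_right])
    fun n hn _ => by
      obtain ⟨c, hc, e⟩ := U n (cj_le_of_le l79 hn)
      exact e ▸ cl2 c hc
  exact out1 hS (by rw [cd 9 le_rfl]; decide)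

end

variable {G : Type u} [Group G] [Finite G] {t v s u a σ ρ g y Y X d : G} {N : Subgroup G} {k : Bool}

theorem not_ta (h : H85.DY.Nar t v s u a σ ρ) (D : Dd t v s u a d) : ¬ IsConj t (t * a) := fun c => by
  obtain ⟨n, hn, e⟩ := h.toLoc.burn c
    (le_cen1_iff.2 (by simpa using h.toTr.zw_mem (w := [3, 0]) (by decide)))
  by_cases n0 : n ∈ N0 t v s u a
  · exact (h.narA n n0.1.2).2 e
  · refine (h.narA _ (mul_N0 h.toTr hn D.norT n0 fun k => D.not_norA h.toTr k.1.2).1.2).2 ?_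
    rw [← e, show n * d * t * (n * d)⁻¹ = n * (d * t * d⁻¹) * n⁻¹ by group, D.dt]

/-- The normal form of `d`. -/
theorem nf_d (h : H85.DY.N1 t v s u a σ ρ y) (D : Dd t v s u a d) (dP : d ∈ nor (cl [a, u, v, t, s, y]))
    (aY : Act (val [a, u, v, t, s, y]) Y R6 (gY true k))
    (aX : Act (val [a, u, v, t, s, y]) X R6 (fX true k)) :
    ∃ e, e * e = 1 ∧ Act (val [a, u, v, t, s, y]) e R6 (fD k) := by
  have P := h.pres
  have I := h.ind
  obtain ⟨w, hw, ew⟩ := P.mem_cl rfl 6 le_rfl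
    (conj_mem_of_mem_normalizer dP (mem_cl (y := y) (by simp)))
  have ad : Act (val [a, u, v, t, s, y]) d R6 (fw w) := act_mono (act_cons (D.act [y]) (r := 5) ew) rfl
  have ai := fun i => act_cp P ad (act_inn P (fun _ => rfl) (w := ow i [3]) (by cases i <;> rfl) R6)
    (by cases i <;> rfl)
  obtain ⟨b, -, eb⟩ := D.pres h.toTr
  have dd : d * d = W (val [a, u, v, t, s, y]) (ow b [3]) := by cases b <;> simpa [ow] using eb
  obtain ⟨k0, k1⟩ := key2 k b w hw (cons_of P I rfl ad dd)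
  simp only [Bool.and_eq_true] at k0
  have an := act_cp P aY (act_cp P ad (act_cp P aX (ai b) k0.1.1.1) k0.1.1.2) k0.1.2
  have di : d * W (val [a, u, v, t, s, y]) (ow b [3]) = d⁻¹ := by
    refine eq_inv_of_mul_eq_one_right ?_
    rw [← mul_assoc, dd, ← W_append]
    exact P.W_eq (w' := []) (by cases b <;> rfl)
  rw [di] at an
  have nt : Y * (d * (X * d⁻¹)) * t = t * (Y * (d * (X * d⁻¹))) :=
    mul_inv_eq_iff_eq_mul.1 (by simpa using (an 3 (by decide)).trans (P.W_eq k0.2))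
  have nP : Y * (d * (X * d⁻¹)) ∈ nor (cl [a, u, v, t, s, y]) :=
    mul_mem (act_nor P aY (by cases k <;> rfl)) (mul_mem dP (mul_mem (act_nor P aX (by cases k <;> rfl))
      (inv_mem dP)))
  have nA : Y * (d * (X * d⁻¹)) ∈ nor (cl [a, u, v, t]) := by
    refine mul_mem (act_nor P (act_mono aY (S' := [0, 1, 2, 3]) rfl) (by cases k <;> rfl)) ?_
    rw [← ((nor_or h.toTr D.norT).resolve_left fun k => D.not_norA h.toTr k.1.2).2, nor,
      ← cj_normalizer, ← mul_assoc]
    exact conj_mem_cj (act_nor P (act_mono aX (S' := [1, 0, 4, 3]) rfl) (by cases k <;> rfl))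
  have P2 : IsPGroup 2 (cl [a, u, v, t, s, y]) := H_val [a, u, v, t, s, y] 6 ▸ P.isPGroup rfl le_rfl
  have TP : cl [a, u, v, t, s] ≤ cl [a, u, v, t, s, y] := cl_mono (by simp)
  generalize Y * (d * (X * d⁻¹)) = n at an nt nP nA
  obtain ⟨r, hr, c, hc, rfl⟩ := (mem_sup_left_norm (le_normalizer_centralizer
    (TP.trans le_normalizer))).1 (inner h.toLc P2 TP nP (mem_N0 h.toTr (mem_normalizer_fintype
      fun z hz => two h.toLc P2 TP (conj_mem_of_mem_normalizer nP (TP hz)) (mem_cen1.1 (mul_mem (mul_mem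
        (mem_cen1.2 nt) (h.A.syl.le hz).1) (inv_mem (mem_cen1.2 nt))))
        (mul_mem (mul_mem nA (h.le_norA hz)) (inv_mem nA))) nA) nt)
  obtain ⟨r, hr', rfl⟩ := P.mem_cl rfl 5 (by decide) hr
  obtain ⟨rfl, i, e⟩ := k1 r hr' (agv_of P I an (act_mul_cen (act_inn P (fun _ => rfl)
    (List.all_eq_true.2 fun j hj => decide_eq_true ((nf_lt (nf_of_mem_subs hr') j hj).trans (by decide)))
    R6) hc))
  refine ⟨_, ?_, act_agree P (ai i) e⟩
  cases i
  · simpa [ow] using dd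
  · have := mul_inv_eq_iff_eq_mul.1 D.dt
    simp only [ow, cond_true, cond_false, W_cons, W_nil, val_succ, val_zero, mul_one] at dd ⊢
    rw [mul_assoc, ← mul_assoc t, ← this, mul_assoc, h.tt, mul_one, dd]

/-- The case with `d`. -/
theorem dcase (h : H85.DY.Nar t v s u a σ ρ) (ta : ¬ IsConj t (t * a))
    (P : Pres tbN (val [a, u, v, t, s, y])) (P7 : Pres (T7 k) (val [a, u, v, t, s, y, Y]))
    (I7 : Ind (val [a, u, v, t, s, y, Y]) 7) (XX : X * X = 1)
    (aX : Act (val [a, u, v, t, s, y]) X R6 (fX true k)) (dd : d * d = 1)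
    (ad : Act (val [a, u, v, t, s, y]) d R6 (fD k))
    (aσ : Act (val [a, u, v, t, s, y, Y]) σ SR (gσ k)) : Out2 N t := by
  obtain ⟨k0, k1⟩ := key8 k
  rw [Bool.and_eq_true] at k0
  have s7 : ∀ i, (T7 k).sq i = [] := fun i => ite_self _
  have w7 : (T7 k).wf = true := by cases k <;> rfl
  obtain ⟨e, ee, ae, h1⟩ := ext1 h.toLc P7 s7 (g := X * d * X)
    (by rw [← conj_sq (g := X) dd, inv_eq_of_mul_eq_one_right XX])
    ((act_agree P (act_cp P (act_cp P aX ad (by cases k <;> rfl)) aX (by cases k <;> rfl)) k0.1).snoc Y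
      (by cases k <;> rfl)) k0.2
  obtain ⟨α, hα, e6⟩ := h1 6 (by simp)
  replace ae : Act _ e (List.range 7) (f8 k α) := act_mono (act_cons ae e6) rfl
  obtain ⟨j, rfl⟩ := k1 α hα (cons_of P7 I7 w7 ae ee)
  have P8 : Pres (T8 k j) (val [a, u, v, t, s, y, Y, e]) :=
    P7.snoc rfl w7 (ae.inv ee) ee (by cases k <;> cases j <;> rfl)
  have I8 : Ind (val [a, u, v, t, s, y, Y, e]) 8 := I7.snoc (l := [a, u, v, t, s, y, Y])
    (P7.notMem w7 I7 rfl s7 (c := [1]) (c' := [0]) (by simpa [app, f8, f1] using ae 1 (by decide))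
      ((by decide +kernel : ∀ k, ∀ w ∈ subs 7, (T7 k).eqv (w ++ [1] ++ w.reverse) [0] = false) k))
  obtain ⟨k2, k3⟩ := key8' k j
  rw [Bool.and_eq_true] at k2
  have s8 : ∀ i, (T8 k j).sq i = [] := fun i => by simp [T8, Tb.ext, s7]
  have w8 : (T8 k j).wf = true := by cases k <;> cases j <;> rfl
  have bσ : Act (val [a, u, v, t, s, y, Y, e]) σ SR (gσ k) := aσ.snoc e (by cases k <;> rfl)
  have be : Act (val [a, u, v, t, s, y, Y, e]) e SR (f8 k (al k j)) :=
    act_mono (ae.snoc e (by cases k <;> cases j <;> rfl)) rfl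
  obtain ⟨E, EE, aE, h2⟩ := ext1 h.toLc P8 s8 (conj_sq (g := σ) ee) (act_agree P8 (act_cp P8
    (act_cp P8 bσ be (by cases k <;> cases j <;> rfl)) (act_inv' P8 bσ (f' := gσi k)
      (by cases k <;> cases j <;> rfl) (by cases k <;> cases j <;> rfl))
    (by cases k <;> cases j <;> rfl)) k2.1) k2.2
  obtain ⟨β, hβ, e7⟩ := h2 7 (by simp)
  obtain ⟨γ, hγ, e4⟩ := h2 4 (by simp)
  replace aE : Act _ E (List.range 8) (f9 k j β γ) := act_mono (act_cons (act_cons aE e4) e7) rfl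
  have r := run_spec (key9 k j β hβ γ hγ (cons_of P8 I8 w8 aE EE))
  have P9 : Pres ((T8 k j).ext (f9 k j β γ)) (val [a, u, v, t, s, y, Y, e, E]) :=
    P8.snoc rfl w8 (aE.inv EE) EE ((by decide +kernel : ∀ k j, ∀ β ∈ subs 4, ∀ γ ∈ subs 4,
      ((List.range 8).all (fun r => (app (f9 k j β γ) [r]).all (· < 8)) && true) = true) k j β hβ γ hγ)
  exact fin (md P9 (I8.snoc (l := [a, u, v, t, s, y, Y, e]) (P8.notMem w8 I8 rfl s8 (c := [1])
    (c' := [2, 1]) (by simpa [app, f9, f2] using aE 1 (by decide)) k3)) r.1) rfl h ta r.2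

theorem jobNZ : H85.DY.JobNZ.{u} := by
  intro G _ _ N t v s u a σ ρ y k Z l hN h hA hB
  have aY := hA.act
  have aX : Act _ _ _ (fX Z l) := hB.act'
  have nA := hA.nxt
  have nB := hB.nxt
  rw [W_swN] at nB
  have YY := conj_sq (g := σ) (q := y) (h.pres.sq 5 (by decide))
  have XX := conj_sq (g := ρ) (q := y) (h.pres.sq 5 (by decide))
  obtain ⟨Y, hY⟩ : ∃ Y, Y = σ * y * σ⁻¹ := ⟨_, rfl⟩
  obtain ⟨X, hX⟩ : ∃ X, X = ρ * y * ρ⁻¹ := ⟨_, rfl⟩
  rw [← hY] at aY YY nA
  rw [← hX] at aX XX nB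
  have tr : ∀ i < 6, val [a, u, v, t, s, y, Y, X] i = val [a, u, v, t, s, y] i := fun i hi => by
    interval_cases i <;> rfl
  have P : Pres tbN (val [a, u, v, t, s, y, Y, X]) := pres_congr tr h.pres rfl
  have I := ind_congr tr h.ind
  have aY0 := aY
  have aX0 := aX
  replace aY := act_congr tr aY (by cases k <;> rfl)
  replace aX := act_congr tr aX (by cases Z <;> cases l <;> rfl)
  rw [← W_congr tr (by cases k <;> rfl)] at nA
  rw [← W_congr tr (by cases Z <;> cases l <;> rfl)] at nB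
  have aYX : Act _ _ R6 (yx k Z l) := act_cp P aY aX (by cases Z <;> cases l <;> rfl)
  cases Z
  · refine absurd (isConj_iff.2 ⟨_, act_cp P aYX aY (by cases k <;> rfl) 3 (by decide)⟩)
      (h.toBase.swap.notD ?_)
    refine W_mem_of fun r hr => mem_cl ?_
    have := (by decide +kernel : ∀ k l, ∀ r ∈ app (cp tbN (List.range 6) (yx k false l) (gY true k)) [3],
      r = 0 ∨ r = 1 ∨ r = 4) k l r hr
    rcases this with rfl | rfl | rfl <;> simp
  have a3 : Act _ _ R6 (yx3 k l) := act_cp P aYX (act_cp P aYX aYX (by cases k <;> cases l <;> rfl))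
    (by cases k <;> cases l <;> rfl)
  by_cases kl : k = l
  swap
  · have n3 := (act_mono a3 (S' := List.range 4) rfl).nor (by cases k <;> cases l <;> rfl)
    rw [H_val] at n3
    have e := a3 3 (by decide)
    rcases (by decide +kernel : ∀ k l, k ≠ l → app (yx3 k l) [3] = [3, 1] ∨
      app (yx3 k l) [3] = [3, 0]) k l kl with e' | e' <;> rw [e'] at e
    · exact ((h.narA _ n3).1 (by simpa using e)).elim
    · exact ((h.narA _ n3).2 (by simpa using e)).elim
  subst kl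
  have P7 : Pres (T7 k) (val [a, u, v, t, s, y, Y, X]) := pres_top P (aY.inv YY) YY
  have c : Cy t v s u a y := by
    have e := act_inn P (fun _ => rfl) (w := [5]) rfl R6
    have e' := act_agree P e (f' := fy) rfl
    exact ⟨by simpa [app, fy] using e' 0 (by decide), by simpa [app, fy] using e' 1 (by decide),
      by simpa [app, fy] using e' 2 (by decide), by simpa [app, fy] using e' 4 (by decide),
      by simpa [app, fy] using e' 3 (by decide)⟩
  have I7 : Ind (val [a, u, v, t, s, y, Y, X]) 7 := ind_top I (by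
    rw [H_val]
    exact H57.DZ.not_norB c h.toTr (by cases k <;> simpa [app, gY] using aY 3 (by decide)) le_rfl)
  have s7 : ∀ i, (T7 k).sq i = [] := fun i => ite_self _
  have w7 : (T7 k).wf = true := by cases k <;> rfl
  have aσ : Act (val [a, u, v, t, s, y, Y, X]) σ SR (gσ k) :=
    act_mono (act_cons (act_cons (hact h.A _) (r := 5) (w := [6]) (by simpa using hY.symm))
      (r := 6) (w := 6 :: dY true k) nA) rfl
  rcases h.nd with hS | ⟨d, dP, D⟩
  swap
  · obtain ⟨e, ee, ae⟩ := nf_d h D dP aY0 aX0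
    have tr7 : ∀ i < 7, val [a, u, v, t, s, y, Y] i = val [a, u, v, t, s, y, Y, X] i := fun i hi => by
      interval_cases i <;> rfl
    exact (dcase h.toNar (not_ta h.toNar D) h.pres (pres_congr tr7 P7 w7) (ind_congr tr7 I7)
      XX aX0 ee ae (act_congr tr7 aσ (by cases k <;> rfl)))
  exfalso
  have P2 : IsPGroup 2 (cl [a, u, v, t, s, y]) := H_val [a, u, v, t, s, y] 6 ▸ h.pres.isPGroup rfl le_rfl
  have AP : cl [a, u, v, t] ≤ cl [a, u, v, t, s, y] := cl_mono (by simp)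
  have lm : ∀ {w}, w.all (· < 6) = true → W (val [a, u, v, t, s, y, Y, X]) w ∈ cl [a, u, v, t, s, y] :=
    W_mem_cl [a, u, v, t, s, y, Y, X] 6
  obtain ⟨m0, hm0, c0, hc0, e1, e2⟩ := H30.DZ.adj3 P2
    (fun R h1 h2 => (ca2 h.toLc h2 (h1.trans (centralizer_le AP))).trans AP) YY XX (by
      have := act_cen P a3 (act_inn P (fun _ => rfl) (w := ow k [5, 3]) (by cases k <;> rfl) R6) (key' k).1
      exact (mul_mem_cancel_left (mem_sup_left (inv_mem (lm (by cases k <;> rfl))))).1 (mem_sup_right this))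
  obtain ⟨m, hm, rfl⟩ := P.mem_cl rfl 6 le_rfl hm0
  have hk : ([2, 3, 4, 5].all fun i => tbN.eqv (app (yx3 k k) [i]) (m ++ [i] ++ m.reverse)) = true :=
    List.all_eq_true.2 fun i hi => P.eqv I (by
      have hi : i ∈ R6 := by simp at hi; rcases hi with rfl | rfl | rfl | rfl <;> decide
      have := mem_cen_iff.1 e1 _ (conj_mem_of_mem_normalizer (le_normalizer (lm (subs_lt hm)))
        (mem_cl (l := R6.map (val [a, u, v, t, s, y, Y, X])) (List.mem_map_of_mem hi)))
      rw [← a3 i hi, ← P.conj (fun _ => rfl) (subs_lt hm), W_cons, W_nil, mul_one,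
        ← mul_left_inj (Y * X * (Y * X * (Y * X)) * (W (val [a, u, v, t, s, y, Y, X]) m)⁻¹), ← this]
      group)
  obtain ⟨k0, i, hi, r, hr, kk⟩ := key k m hm hk
  obtain ⟨k1, k2⟩ := (key' k).2 m hm hk
  simp only [Bool.and_eq_true] at k0
  have aσi : Act (val [a, u, v, t, s, y, Y, X]) (σ ^ i) SR (sp k i) := by
    have e1 := act_cp P7 aσ (act_one _ SR) (by cases k <;> rfl)
    have e2 := act_cp P7 aσ e1 (by cases k <;> rfl)
    interval_cases i
    · exact pow_zero σ ▸ act_one _ SR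
    · rwa [pow_one, ← mul_one σ]
    · rwa [pow_two, ← mul_one σ, mul_assoc, one_mul]
  have aρ : Act (val [a, u, v, t, s, y, Y, X]) ρ [7, 5, 0, 1, 3, 4] (gρ k) := by
    refine act_cons (act_cons ?_ (r := 5) (w := [7]) (by simpa using hX.symm)) (r := 7) nB
    simp only [Act, List.mem_cons, List.not_mem_nil, or_false, forall_eq_or_imp, forall_eq]
    wsimp
    exact ⟨h.B.σu, h.B.σa, h.B.σt, h.B.σv⟩
  have iY := inv_eq_of_mul_eq_one_right YY
  have iX := inv_eq_of_mul_eq_one_right XX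
  have ni : (c0 * (X * Y))⁻¹ = Y * X * c0⁻¹ := by rw [mul_inv_rev, mul_inv_rev, iX, iY]
  have a0 : Act (val [a, u, v, t, s, y, Y, X]) (c0 * (X * Y))⁻¹ R6 (yx k true k) :=
    ni ▸ act_mul_cen aYX (inv_mem hc0)
  have an : Act (val [a, u, v, t, s, y, Y, X]) (c0 * (X * Y)) (7 :: R6) (gn k m) := by
    refine act_cons (r := 7) ?_ (by rw [W_cons]; exact e2)
    have nP : (X * Y)⁻¹ ∈ nor (cl [a, u, v, t, s, y]) := inv_mem (mul_mem
      (act_nor P aX (by cases k <;> rfl)) (act_nor P aY (by cases k <;> rfl)))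
    have := act_mul_cen (act_cp P aX aY (by cases k <;> rfl))
      (conj_mem_of_mem_normalizer (normalizer_le_normalizer_centralizer _ nP) hc0)
    rwa [← mul_assoc, ← mul_assoc, mul_inv_cancel, one_mul, inv_inv] at this
  have ani : Act (val [a, u, v, t, s, y, Y, X]) (c0 * (X * Y))⁻¹ (6 :: R6) (gni k m) :=
    act_cons a0 (by
      rw [W_cons, ← P.W_eq k1, ← a0.w (List.all_eq_true.2 fun r hr => decide_eq_true (List.mem_range.2
        (nf_lt (nf_of_mem_subs hm) r (List.mem_reverse.1 hr)))), P.W_rev (fun _ => rfl) (subs_lt hm)]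
      change _ * Y * _ = X * _
      generalize c0 * (X * Y) = n at e2 ⊢
      rw [← mul_left_inj (n⁻¹ * W (val [a, u, v, t, s, y, Y, X]) m), ← mul_right_inj n]
      calc _ = Y * W (val [a, u, v, t, s, y, Y, X]) m := by group
        _ = _ := by rw [← e2]; group)
  generalize c0 * (X * Y) = n at an ani
  have ar : Act _ _ SR (gr k m) :=
    act_cp P7 an (act_cp P7 aρ (act_mono ani (S' := SR) rfl) k0.1.1) k0.1.2
  have lr := (by decide : ∀ r ∈ rl, r.all (· < 7) = true) r hr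
  have ai := act_inn P7 s7 lr SR
  rcases kk with kk | kk
  · simp only [ckA, Bool.and_eq_true] at kk
    have n1 := (act_mono ar (S' := List.range 3) rfl).nor k0.2
    rw [H_val] at n1
    have e : Act _ _ SB (a2 k m i r) :=
      act_cp P7 ai (act_cp P7 aσi (act_mono an (S' := SB) rfl) kk.1.1.1) kk.1.1.2
    refine pab h.toLc hS n1 (cj_le_iff.2 (cl_le.2 fun z hz => mem_cj.2 ?_))
      ((ar 3 (by decide)).trans ((P7.W_eq kk.2).trans (e 3 (by decide)).symm))
    have k1 : ∀ j ∈ [0, 1, 4], _ * val [a, u, v, t, s, y, Y, X] j * _ ∈ cl [a, u, v] := fun j hj => by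
      rw [e j (by simp at hj; rcases hj with rfl | rfl | rfl <;> decide)]
      exact W_mem_cl [a, u, v, t, s, y, Y, X] 3 (List.all_eq_true.1 kk.1.2 j hj)
    rw [inv_inv]
    simp only [List.mem_cons, List.not_mem_nil, or_false] at hz
    rcases hz with rfl | rfl | rfl
    exacts [k1 1 (by simp), k1 0 (by simp), k1 4 (by simp)]
  · have k3 := k2 i hi r hr kk
    simp only [ckB, Bool.and_eq_true] at kk
    have e1 : Act _ _ SR (b1 k m i) := act_cp P7 aσi ar kk.1.1.1.1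
    have e : Act _ _ SR (b3 k m i r) := act_cp P7 ai (act_cp P7 e1 e1 kk.1.1.1.2) kk.1.1.2
    have AR : cl [a, u, v, t] ≤ cl [a, u, v, t, y, Y] := cl_mono (by simp)
    obtain ⟨w, hw, c1, hc1, ew⟩ := (mem_sup_left_norm (le_normalizer_centralizer
      (AR.trans le_normalizer))).1 (cen_nor h.toLc ((P7.isPGroup w7 le_rfl).to_le (by
        rw [H_val]; exact cl_mono (by simp [T7, Tb.ext, tbN, Tb.of]))) AR (act_nor P7 e k3)
        (cen_of_act (act_agree P7 (act_mono e rfl) kk.1.2)))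
    obtain ⟨w, hw', rfl⟩ := P7.mem_cl w7 4 (show 4 ≤ 7 by decide) hw
    have lw : w.all (· < (T7 k).n) = true := List.all_eq_true.2 fun j hj =>
      decide_eq_true ((nf_lt (nf_of_mem_subs hw') j hj).trans (show 4 < 7 by decide))
    have k1 := List.all_eq_true.1 kk.2 w hw'
    have k4 := List.all_eq_true.1 (agv_of P7 I7 (ew ▸ e) (act_mul_cen (act_inn P7 s7 lw SR) hc1))
    rw [show (T7 k).eqv _ (w ++ [5] ++ w.reverse) = true by simpa [app, inn, SR] using k4 5 (by decide),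
      show (T7 k).eqv _ (w ++ [6] ++ w.reverse) = true by simpa [app, inn, SR] using k4 6 (by decide)] at k1
    exact absurd k1 (by decide)

end H85.DY.NZ
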