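import Cfsg.Agent.H44.WdC
import Cfsg.Agent.H57.DZWC
import Cfsg.Agent.H85.DYSpec

/-! DY: branches WC and WD (ports of `H57/DZWC`, `H44/WdA`, `H44/WdB`). -/

set_option autoImplicit false
set_option linter.unusedSectionVars false

namespace H85.DY.W44
open H44.WD

open Subgroup Cfsg H14 H98 H1.Gold H31.S2 H85.FZ H49.D8 H85.En H85.DZ

universe u

/-! ### The Higman–Sims group -/

/-! ### The tests -/

variable {G : Type u} [Group G] [Finite G] {t v s u a σ ρ d : G} {X : Subgroup G} {T : Tb}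
  {L : List ℕ} {z : ℕ → G}

theorem sq_D (h : H85.DY.Base t v s u a σ ρ) {y : G} (c : IsConj t y) : y * y = 1 ∧ y ≠ 1 := by
  refine ⟨?_, fun e => h.ne_one (e ▸ c)⟩
  obtain ⟨g, rfl⟩ := isConj_iff.1 c
  exact conj_sq h.tt

theorem f_spec (hX : AS X t) (h : H85.DY.Base t v s u a σ ρ) (M : Md T L z) (hn : T.n = 9)
    (hS : IsSyl 2 (H z T.n) ⊤) {N : ℕ} (hN : Sat z T.n (¬ IsConj t ·) N) (c : IsConj t (E z T.n 25))
    (ht : t ∈ X) (k : fOK L N = true) : False := by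
  simp only [fOK, Bool.and_eq_true, allB_iff, force_eq, Bool.or_eq_true, Bool.not_eq_true',
    Nat.blt_eq] at k
  obtain ⟨⟨k1, k2⟩, k3⟩ := k
  have l : ∀ {c}, c < 2 ^ 9 → c < 2 ^ T.n := fun h => hn ▸ h
  have e := (M.eq_iff' (l (by decide)) (l (by decide))).1 k1
  have s8 := M.sgH (k := 8) (by omega)
  have i2 : (H z 8).relIndex (H z T.n) = 2 := by
    rw [hn]; exact M.P.relIndex M.wf (k := 8) (by omega) (M.I 8 (by omega))
  have := hX.normal
  have nD : ∀ c < 2 ^ T.n, IsConj t (E z T.n c) → ¬ (invo L c = false ∨ tb N c = true) := fun c hc j o =>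
    o.elim (fun o => by simp [(M.invo_iff hc).2 (sq_D h j)] at o) fun o => hN c hc o j
  refine H88.AS.transfer hX.simple hX.nab hS (P₁ := H z 8) (fun a ha b hb =>
    mul_mem_iff_of_index_two (H := (H z 8).subgroupOf (H z T.n)) i2 (a := ⟨a, ha⟩) (b := ⟨b, hb⟩))
    (u := E z T.n 256) (as_top hX ht ▸ mem_top _)
    (by rw [show 4 = 2 * 2 by rfl, pow_mul, pow_two (E z T.n 256), e, pow_two, (sq_D h c).1])
    (fun g _ _ hg => ?_) fun g _ hg => ?_
  · obtain ⟨b, b1, b2, b3⟩ := M.sg_ex s8 hg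
    refine nD _ (M.mul_lt b b1) ?_ (k2 b (tb_ful.1 b2))
    rw [M.E_mul _ b1, ← b3, conj_mul, e]
    exact c.trans (isConj_of _ _)
  · obtain ⟨b, b1, b2⟩ := M.surj hg
    rw [b2]
    rcases k3 b (hn ▸ b1) with (j | j) | j
    · exact (s8.iff b b1).1 (tb_ful.2 j)
    all_goals exact (nD b b1 (by rw [← b2, e]; exact c.trans (isConj_of _ _)) (by simp [j])).elim

section
variable {l : List G} (h : H85.DY.Base t v s u a σ ρ) (M : Md T L (val (a :: u :: v :: t :: s :: l)))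
  (n8 : 8 ≤ T.n) (g8 : gOK L T.n = true)
include h M n8 g8

theorem e8t : E (val (a :: u :: v :: t :: s :: l)) T.n 8 = t := E_pow _ (k := 3) (by omega)

theorem norA : H (val (a :: u :: v :: t :: s :: l)) 8 ≤ nor (cl [a, u, v, t]) := by
  simp only [gOK, Bool.and_eq_true, List.all_eq_true, List.mem_range, Nat.blt_eq] at g8
  have e := H_val (a :: u :: v :: t :: s :: l) 4
  change _ = cl [a, u, v, t] at e
  rw [← e]
  refine H_le fun r hr => mem_normalizer_fintype fun y hy =>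
    H_le (K := (H _ 4).comap (MulAut.conj _).toMonoidHom) (fun i hi => ?_) hy
  have := M.cjc_spec (Nat.pow_lt_pow_right one_lt_two (show r < T.n by omega)) (2 ^ i)
  have k := ((M.sgH (k := 4) (by omega)).iff _ this.1).1 (tb_ful.2 (g8.1 r hr i hi))
  rwa [this.2, E_pow _ (by omega), E_pow _ (by omega)] at k

theorem trA {y : G} (hy : y ∈ cl [a, u, v, t]) (c : IsConj t y) :
    ∃ w ∈ H (val (a :: u :: v :: t :: s :: l)) 8, y = w * t * w⁻¹ := by
  have e := H_val (a :: u :: v :: t :: s :: l) 4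
  have e' := H_val (a :: u :: v :: t :: s :: l) 3
  change _ = cl [a, u, v, t] at e
  change _ = cl [a, u, v] at e'
  obtain ⟨b, b1, b2, rfl⟩ := M.sg_ex (M.sgH (k := 4) (by omega)) (e ▸ hy)
  rcases split (k := 3) (tb_ful.1 b2) with j | ⟨b, j, rfl⟩
  · exact (h.notD (e' ▸ ((M.sgH (k := 3) (by omega)).iff b b1).1 (tb_ful.2 j)) c).elim
  · have g := g8
    simp only [gOK, Bool.and_eq_true, force_eq, allB_iff] at g
    obtain ⟨r, r1, w, w1, w2⟩ := M.cls n8 (R := [8]) (by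
      simpa using Nat.pow_lt_pow_right one_lt_two (show 3 < T.n by omega)) (g.2 b j)
    rw [List.mem_singleton.1 r1, e8t h M n8 g8] at w2
    exact ⟨w, w1, w2⟩

theorem T_le : cl [a, u, v, t, s] ≤ H (val (a :: u :: v :: t :: s :: l)) 8 :=
  (H_val (a :: u :: v :: t :: s :: l) 5).ge.trans (H_mono (by decide))

theorem syl8 : IsSyl 2 (H (val (a :: u :: v :: t :: s :: l)) 8) (nor (cl [a, u, v, t])) := by
  have p := M.P.isPGroup M.wf n8
  by_contra hn
  obtain ⟨n, n1, n2, n3, n4⟩ := ext_of_not_syl p (norA h M n8 g8) hn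
  obtain ⟨w, w1, w2⟩ := trA h M n8 g8 (conj_mem_of_mem_normalizer n1 (mem_cl (y := t) (by simp)))
    (isConj_of _ _)
  refine n3 ((mul_mem_cancel_left (inv_mem w1)).1 (T_le h M n8 g8 (two h.toLc (isPGroup_ext p n2 n4)
    ((T_le h M n8 g8).trans le_sup_right) (mul_mem (mem_sup_right (inv_mem w1))
    (mem_sup_left (mem_zpowers n))) ?_ (mul_mem (inv_mem (norA h M n8 g8 w1)) n1))))
  calc w⁻¹ * n * t = w⁻¹ * (n * t * n⁻¹) * n := by group
    _ = _ := by rw [w2]; group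

theorem ne_g (k : Dd t v s u a d) {x : G} {F Q : Subgroup G} (hx : IsConj t x)
    (h2 : ∀ e ∈ F, e * e = 1) (hc : Nat.card F = 16) (hE : x ∈ cen F) (hQ : IsPGroup 2 Q)
    (le : Q ≤ nor F) : ∃ g, g * x * g⁻¹ = t ∧ cj g Q ≤ H (val (a :: u :: v :: t :: s :: l)) 8 := by
  obtain ⟨g, rfl, rfl⟩ : ∃ g, g * t * g⁻¹ = x ∧ F = cj g (cl [a, u, v, t]) := by
    obtain ⟨g, e1, e | e⟩ := h.e16 hx h2 hc hE
    · exact ⟨g, e1, e⟩
    · refine ⟨g * d, by rw [← e1, ← congrArg (g * · * g⁻¹) k.dt]; group, ?_⟩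
      rw [e, ← cj_cj, ((nor_or h.toTr k.norT).resolve_left fun j => k.not_norA h.toTr j.1.2).1]
  obtain ⟨c, c1, c2⟩ := (syl8 h M n8 g8).exists_cj_le (isPGroup_cj g⁻¹ hQ) (by
    rwa [cj_le_iff, inv_inv, nor, cj_normalizer])
  obtain ⟨w, w1, w2⟩ := trA h M n8 g8 (conj_mem_of_mem_normalizer c1 (mem_cl (y := t) (by simp)))
    (isConj_of _ _)
  refine ⟨w⁻¹ * (c * g⁻¹), ?_, ?_⟩
  · calc _ = w⁻¹ * (c * t * c⁻¹) * w := by group
      _ = _ := by rw [w2]; group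
  · rw [← cj_cj, ← cj_cj]
    exact cj_le_of_le c2 (le_normalizer (inv_mem w1))

theorem ne_spec (k : Dd t v s u a d) {C : List Cl} (r : Rc (val (a :: u :: v :: t :: s :: l)) T.n C)
    {N : ℕ} (hN : Sat (val (a :: u :: v :: t :: s :: l)) T.n (¬ IsConj t ·) N) {e : Ce}
    (j : neOK L T.n C N e = true) : ¬ IsConj t (E (val (a :: u :: v :: t :: s :: l)) T.n e.1) := by
  intro c
  obtain ⟨b, y, gs, τ⟩ := e
  simp only [neOK, Bool.and_eq_true, decide_eq_true_eq, force_eq, forceL_eq, allB_iff, Nat.beq_eq,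
    Bool.or_eq_true, Bool.not_eq_true', kill, Nat.blt_eq, List.all_eq_true] at j c
  obtain ⟨⟨⟨⟨⟨⟨⟨j1, j2⟩, -⟩, -⟩, j3⟩, j4⟩, j5⟩, ⟨⟨j6, j7⟩, j8⟩, j9⟩ := j
  have sg := M.sg j5
  have gl : ∀ g ∈ gs, g < 2 ^ T.n := fun g hg => by
    simp only [clo, forceL_eq, force_eq, List.all_eq_true, Bool.and_eq_true, decide_eq_true_eq] at j5
    exact (j5 g hg).1
  have e8 := e8t h M n8 g8
  have tl := T_le h M n8 g8
  have nA := norA h M n8 g8
  have ng := fun (F : Subgroup G) => ne_g h M n8 g8 k (F := F)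
    (Q := H (val (a :: u :: v :: t :: s :: l)) T.n ⊓ nor F) c
  have e3 : E (val (a :: u :: v :: t :: s :: l)) T.n 3 = u * a :=
    (E_mono _ (k := 2) (by decide) (by omega)).trans (congrArg (u * ·) (mul_one a))
  generalize val (a :: u :: v :: t :: s :: l) = z at *
  have nr : ∀ c < 2 ^ T.n, nE L T.n gs (gm L gs) c = true →
      E z T.n c ∈ H z T.n ⊓ nor (cl (gs.map (E z T.n))) := fun c hc j =>
    ⟨E_mem _ _ _, mem_normalizer_of_cj_le (cj_le_iff.2 (cl_le.2 fun y hy => mem_cj.2 (by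
      obtain ⟨g, hg, rfl⟩ := List.mem_map.1 hy
      have := M.cjc_spec hc g
      rw [inv_inv, ← this.2]
      exact (sg.iff _ this.1).1 (List.all_eq_true.1 j g hg))))⟩
  obtain ⟨g, g1, g2⟩ := ng _ (fun e he => by
      obtain ⟨c, c1, c2, rfl⟩ := M.sg_ex sg he
      exact (M.sq_iff c1).1 ((j7 c c1).resolve_left (by simp [c2])))
    (by rw [M.sg_card sg, j6]) (M.cen_of fun g hg => (cm_iff M j1 (gl g hg)).1 (j3 g hg))
    (M.two.to_le inf_le_left) inf_le_right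
  have l8 : ∀ {c}, c < 2 ^ 8 → c < 2 ^ T.n := fun h => h.trans_le (Nat.pow_le_pow_right two_pos n8)
  refine absurd j9 (not_lt.2 (M.cn_le (g := g) (Lab.cons (iv_conj t) (r.sat1 (iv_conj t) c) hN .nil)
    nodup_flt (fun c hc => ?_) (.cons ⟨j1, l8 (by decide), by rw [e8, g1]⟩
    (.cons ⟨M.mul_lt _ j2, ?_⟩ .nil)) _))
  · rw [mem_flt, Bool.and_eq_true] at hc
    obtain ⟨d, d1, d2, d3⟩ := M.sg_ex (M.sgH n8) (g2 (conj_mem_cj (nr c hc.1 hc.2.2)))
    exact ⟨d, List.mem_range.2 (tb_ful.1 d2), hc.1, d1, d3.symm⟩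
  · have m := g2 (conj_mem_cj (nr y j2 j8))
    cases o : Nat.beq (mul L y y) 0
    · refine ⟨l8 (by decide), ?_⟩
      have := h.sq_T (two h.toLc (M.P.isPGroup M.wf n8) tl m (by
        rw [← g1, conj_mul, conj_mul, (cm_iff M j2 j1).1 j4]) (nA m))
      rw [conj_mul, conj_eq_one_iff, ← M.sq_iff j2, o, ← M.E_mul _ j2] at this
      exact e3.trans (this.resolve_left (by decide)).symm
    · rw [Nat.eq_of_beq_eq_true o]
      exact ⟨l8 (by decide), by simp⟩

omit g8 in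
theorem fin_spec (n10 : T.n ≤ 10) {ms : List Mv} (mv : Mvs (val (a :: u :: v :: t :: s :: l)) T.n ms)
    {m : ℕ} {ne : List Ce} (hd : (IsSyl 2 (cl [a, u, v, t, s]) (cen1 t) ∧ m = 32 ∧ ne = []) ∨
      (m = 64 ∧ ∃ d, Dd t v s u a d)) (k : fin ms m ne T L = true) : Out2 X t := by
  rw [fin, Bool.and_eq_true, Bool.and_eq_true, Nat.beq_eq] at k
  obtain ⟨⟨g8, k1⟩, k⟩ := k
  obtain ⟨C, r, k⟩ := M.withC k
  have P := M.prs mv C
  simp only [forceL_eq, force_eq, Bool.and_eq_true, Bool.or_eq_true, Nat.beq_eq] at k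
  obtain ⟨⟨⟨k2, k3⟩, k4⟩, k5⟩ := k
  have l : 25 < 2 ^ T.n := (show 25 < 2 ^ 8 by decide).trans_le (Nat.pow_le_pow_right two_pos n8)
  have D := r.fz (iv_conj t) P (r.seed (iv_conj t) (R := [8]) fun c hc => by
    rw [List.mem_singleton.1 hc, e8t h M n8 g8]) 2
  have U := r.fz (iv_conj u) P (r.seed (iv_conj u) (R := [2]) fun c hc => by
    rw [List.mem_singleton.1 hc, show 2 = 2 ^ 1 from rfl, E_pow _ (by omega)]; rfl) 2
  have c := D 25 l k2
  have hy := hd.elim (fun e => M.sylT e.1 l c (by rw [k1, e.2.1, h.card])) fun e =>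
    sylD M h.toLoc l c (k1.trans e.1)
  have N := r.fz (iv_conj t).not P ((M.ncj_spec .nil r (ts := [[], [.ne [0, 0] []]]) l hy
    (U.mono fun y j j' => h.nu ((c.trans j').trans j.symm))
    (fz C (prs C T.n ms) (seed C [8]) 2)).mono fun y j j' => j (c.symm.trans j')) 1
  generalize fz C (prs C T.n ms) (ncj L T.n [] C 25 _ _ _) 1 = K at N k3 k5
  have N' := N.lor (r.seed (iv_conj t).not
    (R := (ne.filter (neOK L T.n C K)).map fun e => e.1) fun b hb => by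
      obtain ⟨e, he, rfl⟩ := List.mem_map.1 hb
      rcases hd with j | ⟨-, d, j⟩
      · simp [j.2.2] at he
      · exact ne_spec h M n8 g8 j r N (List.mem_filter.1 he).2)
  have B := Lab.cons (iv_conj t) D N' .nil
  have hS := M.syl B r hy k3
  exact out1 hS (by rw [M.card]; exact Nat.pow_le_pow_right two_pos n10)

end

theorem jobWD_of (k0 : ∀ k l, key0 k l = true) (k1 : ∀ k l, ∀ b ∈ [0, 8], key1 k l b = true) :
    H85.DY.JobWD.{u} := by
  intro G _ _ X t v s u a σ ρ p q k l hX h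
  have P1 : Pres T1 _ := h.pres
  have I1 := h.toW1.ind
  have aY := h.sA.act
  have aX : Act _ _ _ (fX l) := h.sB.act' (by decide)
  have YY := conj_sq (g := σ) (q := q) (P1.sq 6 (by decide))
  have aσ : Act (val [a, u, v, t, s, p, q, σ * q * σ⁻¹]) σ [0, 1, 2, 3, 5, 6, 7] (fσ k) := by
    have e := W_snoc (l := [a, u, v, t, s, p, q]) (σ * q * σ⁻¹) (w := eY 3 k) (by cases k <;> rfl)
    have e' := h.σp
    simp only [Act, fσ, sg, List.mem_cons, List.not_mem_nil, or_false, forall_eq_or_imp, forall_eq]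
    wsimp at e e' ⊢
    exact ⟨h.A.σa, h.A.σu, h.A.σv, h.A.σt, by simpa [ow] using e', trivial, e ▸ h.sA.nxt⟩
  generalize σ * q * σ⁻¹ = Y at aY YY aσ
  generalize ρ * p * ρ⁻¹ = x at aX
  have aρ : Act (val [a, u, v, t, s, p, q, Y]) ρ [0, 1, 3, 4] [(1, [4, 0]), (4, [4, 0, 1])] := by
    simp only [Act, List.mem_cons, List.not_mem_nil, or_false, forall_eq_or_imp, forall_eq]
    wsimp
    exact ⟨h.B.σu, h.B.σa, h.B.σt, h.B.σv⟩
  have P2 : Pres (T2 k) (val [a, u, v, t, s, p, q, Y]) :=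
    P1.snoc rfl rfl (aY.inv YY) (q := []) YY (by cases k <;> decide)
  have I2 : Ind (val [a, u, v, t, s, p, q, Y]) 8 := I1.snoc (l := [a, u, v, t, s, p, q])
    (P1.notMem rfl I1 rfl (fun _ => rfl) (aY.w (w := [3]) rfl) (by cases k <;> decide +kernel))
  have mv : ∀ {L}, Md (T2 k) L (val [a, u, v, t, s, p, q, Y]) →
      Mvs (val [a, u, v, t, s, p, q, Y]) (T2 k).n (ms L k l) := fun M =>
    .cons (M.ac aσ (by cases k <;> rfl)) (.cons (M.ac (aX.snoc Y (by cases l <;> rfl))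
      (by cases l <;> rfl)) (.cons (M.ac aρ rfl) .nil))
  rcases h.nd with hS | ⟨d, nd, hd⟩
  · obtain ⟨c, e⟩ := run_spec (k0 k l)
    rw [fMs_eq] at e
    exact fin_spec h.toBase (md P2 I2 c) le_rfl (show 8 ≤ 10 by decide) (mv (md P2 I2 c)) (Or.inl ⟨hS, rfl, rfl⟩) e
  obtain ⟨b, hb, dd⟩ : ∃ b ∈ [0, 8], d * d = E (val [a, u, v, t, s, p, q]) 7 b :=
    hd.dd.elim (fun e => ⟨0, by simp, by rw [e, E_zero]⟩) fun e =>
      ⟨8, by simp, by rw [e]; exact (E_pow (val [a, u, v, t, s, p, q]) (k := 3) (n := 7) (by decide)).symm⟩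
  obtain ⟨c1, e⟩ := run_spec (k1 k l b hb)
  obtain ⟨c2, e⟩ := run_spec e
  have M1 := md P1 I1 c1
  have M2 := md P2 I2 c2
  have mv := mv M2
  generalize mk T1 = L₁ at M1 e
  generalize mk (T2 k) = L at M2 mv e
  have AY := M1.ac aY (by cases k <;> rfl)
  have AX := M1.ac aX (by cases l <;> rfl)
  have nY := aY.nor (by cases k <;> decide)
  have nX := aX.nor (by cases l <;> decide)
  have e7 : H (val [a, u, v, t, s, p, q]) 7 = cl [a, u, v, t, s, p, q] := H_val _ _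
  have e5 : H (val [a, u, v, t, s, p, q]) 5 = cl [a, u, v, t, s] := H_val _ _
  have e4 : H (val [a, u, v, t, s, p, q]) 4 = cl [a, u, v, t] := H_val _ _
  rw [← e7] at nd
  obtain ⟨im, i1, AD⟩ := M1.axs_ap (M1.ac (hd.act [p, q]) rfl) nd []
  simp only [fMs_eq, fM_eq, Bool.and_eq_true, List.all_eq_true (l := axs _ _ _ _), Bool.or_eq_true,
    Bool.not_eq_true', Nat.beq_eq] at e
  obtain ⟨xb, e⟩ := e
  obtain ⟨e1, e⟩ := e im i1
  have bl := (AX b xb).1
  obtain ⟨⟨⟨⟨⟨g1, g2⟩, g3⟩, g4⟩, g5⟩, e⟩ := e.resolve_left (by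
    rw [Bool.not_eq_false]
    exact (M1.agr_iff (M1.cmp AD AD) bl).2 fun c hc =>
      ⟨List.all_eq_true.1 e1 c hc, by rw [dd]; simp [show T1.n = 7 from rfl]⟩)
  have Ag := M1.cmp AY (M1.cj AD AX)
  have t8 : E (val [a, u, v, t, s, p, q]) T1.n 8 = t := E_pow _ (k := 3) (by decide)
  obtain ⟨⟨e2, e3⟩, e4'⟩ := e.resolve_left (by
    rw [Bool.not_eq_false]
    refine M1.sup_inn Ag (j := 7) (by decide) le_rfl ((H_mono (by decide)).trans le_normalizer) ?_ g5
    rw [e5]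
    refine inner h.toLc M1.two (e5 ▸ H_mono (by decide)) (mul_mem nY (mul_mem (mul_mem nd nX)
      (inv_mem nd))) (mem_N0 h.toTr (e5 ▸ M1.nrm_spec Ag (M1.sgH (by decide)) g1)
      (e4 ▸ M1.nrm_spec Ag (M1.sgH (by decide)) g2)) ?_
    have := (Ag 8 g3).2.2
    erw [g4, t8] at this
    exact mul_inv_eq_iff_eq_mul.1 this.symm)
  have A1 := M1.cj AX AD
  have sq : x * d * x⁻¹ * (x * d * x⁻¹) =
      E (val [a, u, v, t, s, p, q]) 7 (lk (acM L₁ (List.range 7) (fX l)).2 b) := by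
    rw [conj_mul, dd]; exact (AX b xb).2.2.symm
  obtain ⟨c, cc, hR⟩ := H30.DZ.jobL.adj1 G _ Y (x * d * x⁻¹) 1 M1.two nY
    (mul_mem (mul_mem nX nd) (inv_mem nX)) (YY ▸ one_mem _) (sq ▸ E_mem _ _ _) (by
      rw [pow_one, pow_two]
      exact M1.inn_sup (M1.cmp (M1.cmp AY A1) (M1.cmp AY A1)) le_rfl le_rfl e2)
  have ev : ext (val [a, u, v, t, s, p, q]) 7 Y = val [a, u, v, t, s, p, q, Y] := ext_val _ _
  have A2 : Ap (val [a, u, v, t, s, p, q, Y]) (T2 k).n _ _ := ev ▸ (ap_cen A1 cc).up Y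
  have sq' : c * (x * d * x⁻¹) * c⁻¹ * (c * (x * d * x⁻¹) * c⁻¹) =
      E (val [a, u, v, t, s, p, q, Y]) 8 (lk (acM L₁ (List.range 7) (fX l)).2 b) := by
    rw [conj_mul, sq, mem_cen_iff.1 cc _ (E_mem _ 7 _), mul_inv_cancel_right, ← ev]
    exact (E_up Y (AX b xb).2.1).symm
  generalize c * (x * d * x⁻¹) * c⁻¹ = y at hR A2 sq'
  have n2 := M2.act_nor A2 (R := H (val [a, u, v, t, s, p, q]) T1.n ⊔ cl [Y, y]) (by
      rw [← ev]
      exact (H_succ _ 7).le.trans (sup_le ((H_ext Y le_rfl).le.trans le_sup_left)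
        (zpowers_le.2 (mem_sup_right (mem_cl List.mem_cons_self)))))
    (mem_sup_right (mem_cl (by simp))) (fun z hz hc => (H_val [a, u, v, t, s, p, q, Y] 4).ge.trans
      (H_mono (show 4 ≤ 8 by decide)) (ca2m h.toLc hR hz (by
        have e : ∀ r < 8, E (val [a, u, v, t, s, p, q, Y]) (T2 k).n (2 ^ r) = _ := fun r => E_pow _
        rwa [show [1, 2, 4, 8] = [2 ^ 0, 2 ^ 1, 2 ^ 2, 2 ^ 3] from rfl, List.map_cons, List.map_cons,
          List.map_cons, List.map_cons, e 0 (by decide), e 1 (by decide), e 2 (by decide),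
          e 3 (by decide)] at hc))) e3
  obtain ⟨T, L', n9, M, e⟩ := M2.step_spec (M2.inv A2) n2 ⟨_, List.mem_singleton_self _,
    (AX b xb).2.1.trans (show 2 ^ 7 < 2 ^ 8 by decide), sq'⟩ e4'
  have ev' : ext (val [a, u, v, t, s, p, q, Y]) (T2 k).n y = val [a, u, v, t, s, p, q, Y, y] :=
    ext_val [a, u, v, t, s, p, q, Y] _
  exact fin_spec h.toBase (ev' ▸ M) (by rw [n9]; exact Nat.le_succ 8)
    (by rw [n9]; exact (show 9 ≤ 10 by decide)) (by
    rw [n9, ← ev']; exact mv.up y) (Or.inr ⟨rfl, d, hd⟩) e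

theorem jobWD : H85.DY.JobWD.{u} := jobWD_of
  (fun k l => by cases k <;> cases l; exacts [k00, k01, k02, k03]) fun k l b hb => by
    simp only [List.mem_cons, List.not_mem_nil, or_false] at hb
    cases k <;> cases l <;> rcases hb with rfl | rfl
    exacts [k14, k15, k10, k11, k12, k13, k16, k17]

end H85.DY.W44

namespace H85.DY.C57

open Subgroup Cfsg H14 H98 H1.Gold H31.S2 H85.FZ H49.D8 H85.DZ H85.En
open H85.FZ.WC (T1)

theorem jobWC.{u} : H85.DY.JobWC.{u} := by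
  intro G _ _ N t v s u a σ ρ p q k l _ h
  refine (h.nsyl ?_).elim
  refine h.nd.resolve_right fun ⟨d, hd, D⟩ => ?_
  have P1 : Pres T1 _ := h.pres
  obtain ⟨w, hw, e⟩ := P1.mem_cl rfl 7 le_rfl (conj_mem_of_mem_normalizer hd (mem_cl (y := p) (by simp)))
  have e1 : s * p = p * (s * a) := by simpa [T1, tbW, Tb.of, ow] using P1.cj 5 (by decide) 4 (by decide)
  refine P1.ne h.ind ((by decide +kernel : ∀ w ∈ subs 7, T1.eqv ([2] ++ w) (w ++ [2, 1]) = false) w hw) ?_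
  rw [W_append, W_append, ← e]
  wsimp
  rw [← D.ds, ← D.da, conj_mul, conj_mul, conj_mul, e1]

end H85.DY.C57
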