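import Cfsg.Agent.H85.L3Cf
import Cfsg.Agent.H85.DYNWSpec
import Cfsg.Agent.H73.D8W0
import Cfsg.Agent.H57.HyperInst

/-! Interface of L33 (`blueprints/L33.md`, row S3140): a standard subgroup `A ≅ L₃(3)`. -/

set_option autoImplicit false
set_option linter.unusedSectionVars false

namespace H85.L33

open Subgroup Cfsg H98 H1.Gold H85.FZ H85.S3 H85.DZ Matrix
open H49.D8 (Tri AS Sp44)
open scoped MatrixGroups

universe u

variable {G : Type u} [Group G]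

/-! ### The kit -/

abbrev F3 := ZMod 3
abbrev Sp (m : ℕ) := symplecticGroup (Fin m) F3

/-- The model: `N(A)` induces inner automorphisms and the inverse transpose. -/
structure K0 (A : Subgroup G) (Λ : SL(3, F3) →* G) : Prop where
  inj : Function.Injective Λ
  rg : Λ.range = A
  aut : ∀ n ∈ nor A, ∃ h : SL(3, F3), (∀ g, n * Λ g * n⁻¹ = Λ (h * g * h⁻¹)) ∨
    ∀ g, n * Λ g * n⁻¹ = Λ (h * (g⁻¹).transpose * h⁻¹)

structure K1 (A : Subgroup G) : Prop where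
  simple : IsSimpleGroup A
  card : Nat.card A = 5616
  one : ∀ z ∈ A, ∀ w ∈ A, orderOf z = 2 → orderOf w = 2 → ∃ l ∈ A, l * z * l⁻¹ = w
  sd : ∀ z ∈ A, orderOf z = 2 → ∃ v s j, SD v s z j ∧ cl [v, s, j] ≤ A
  c48 : ∀ z ∈ A, orderOf z = 2 → Nat.card ↥(A ⊓ cen1 z) = 48
  cz : ∀ v s z j, SD v s z j → cl [v, s, j] ≤ A → ∃ x ∈ A, x ^ 3 = 1 ∧ x * z = z * x ∧
    x * (v * s) * x⁻¹ = j ∧ x * j * x⁻¹ = v * s * j ∧ A ⊓ cen1 z = cl [v, s, j, x]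
  tri : ∀ v s z j, SD v s z j → cl [v, s, j] ≤ A → ∃ σ ∈ A, Tri σ z v
  gen : ∀ v s z j, SD v s z j → cl [v, s, j] ≤ A → A ≤ (A ⊓ cen1 z) ⊔ (A ⊓ cen1 v)
  gq : ∀ v s z j, SD v s z j → cl [v, s, j] ≤ A → ∀ σ ∈ A, σ * z * σ⁻¹ = v →
    A ≤ cl [v * s, j] ⊔ cj σ (cl [v * s, j])

structure K2 (A : Subgroup G) : Prop where
  idx : ∀ n ∈ nor A, ∀ m ∈ nor A, n ∈ A ⊔ cen A ∨ m ∈ A ⊔ cen A ∨ n * m ∈ A ⊔ cen A
  out : ∀ w ∈ nor A, ∀ w' ∈ nor A, w ∉ A ⊔ cen A → w' ∉ A ⊔ cen A → w * w ∈ cen A →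
    w' * w' ∈ cen A → ∃ l ∈ A, l * w * l⁻¹ * w'⁻¹ ∈ cen A
  s4 : ∀ w ∈ nor A, w ∉ A ⊔ cen A → w * w ∈ cen A → ∃ z ∈ A ⊓ cen1 w, ∃ v ∈ A ⊓ cen1 w,
    ∃ ρ ∈ A ⊓ cen1 w, orderOf z = 2 ∧ z * v = v * z ∧ Tri ρ z v ∧ ρ ^ 3 = 1

structure K3 (A : Subgroup G) : Prop where
  nc : ∀ U ≤ nor A, IsPGroup 2 U → ¬ IsCyclic U → U ⊓ cen A = ⊥ →
    ∀ x ∈ nor A ⊓ cen U, Odd (orderOf x) → x ∈ cen A
  q8 : ∀ i ∈ nor A, ∀ j ∈ nor A, i * i = j * j → orderOf (i * i) = 2 → j * i * j⁻¹ = i⁻¹ →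
    i * i ∉ cen A → ∀ w ∈ nor A, w * w = 1 → w * i = i * w → w * j = j * w →
      w ∈ cen A ∨ w * (i * i) ∈ cen A
  o16 : ∀ z ∈ A, orderOf z = 2 → ∀ W ≤ A ⊓ cen1 z, Odd (Nat.card W) →
    ∀ P ≤ nor A ⊓ cen1 z ⊓ nor W, IsPGroup 2 P → 16 * Nat.card ↥(P ⊓ cen A) ≤ Nat.card P → W = ⊥
  solv : ∀ z ∈ A, orderOf z = 2 → ∀ B ≤ nor A ⊓ cen1 z, Group.IsSolvable ↥(B ⊓ cen A) → Group.IsSolvable B

structure KA (A : Subgroup G) : Prop extends K1 A, K2 A, K3 A where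
  md : ∃ Λ, K0 A Λ

def JobK0 : Prop := ∀ (G : Type u) [Group G] [Finite G] (A : Subgroup G), Ty A → ∃ Λ, K0 A Λ
def JobK1 : Prop :=
  ∀ (G : Type u) [Group G] [Finite G] (A : Subgroup G) (Λ : SL(3, F3) →* G), Ty A → K0 A Λ → K1 A
def JobK2 : Prop :=
  ∀ (G : Type u) [Group G] [Finite G] (A : Subgroup G) (Λ : SL(3, F3) →* G), K0 A Λ → K2 A
def JobK3 : Prop :=
  ∀ (G : Type u) [Group G] [Finite G] (A : Subgroup G) (Λ : SL(3, F3) →* G), K0 A Λ → K1 A → K2 A →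
    K3 A
def Kit : Prop := ∀ (G : Type u) [Group G] [Finite G] (A : Subgroup G), Ty A → KA A

theorem kit_of (k0 : JobK0.{u}) (k1 : JobK1.{u}) (k2 : JobK2.{u}) (k3 : JobK3.{u}) : Kit.{u} :=
  fun G _ _ A h => by
    obtain ⟨Λ, k⟩ := k0 G A h
    exact ⟨k1 G A Λ h k, k2 G A Λ k, k3 G A Λ k (k1 G A Λ h k) (k2 G A Λ k), Λ, k⟩

/-! ### NC: the centralizer has cyclic Sylow `2`-subgroups -/

/-- The involutions of `K ^ g ∩ N(A)` are outer. -/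
def Ou (A : Subgroup G) : Prop :=
  ∀ g, g ∉ nor A → ∀ r ∈ cj g (cen A) ⊓ nor A, orderOf r = 2 → r ∉ A ⊔ cen A

def JobNC1 : Prop := Kit.{u} →
  ∀ (G : Type u) [Group G] [Finite G] (A : Subgroup G), IsStandardSubgroup A → Ty A →
    ∀ R ≤ cen A, IsPGroup 2 R → ¬ IsCyclic R → Ou A

def JobNC2 : Prop := Kit.{u} →
  ∀ (G : Type u) [Group G] [Finite G] (A : Subgroup G), IsStandardSubgroup A → Ty A →
    4 ∣ Nat.card (cen A) → Ou A → ∀ g, g ∉ nor A → ∀ r ∈ cj g (cen A) ⊓ nor A, orderOf r ≠ 2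

def NC : Prop :=
  ∀ (G : Type u) [Group G] [Finite G] [IsSimpleGroup G] (A : Subgroup G), IsStandardSubgroup A →
    Ty A → ∀ R ≤ cen A, IsPGroup 2 R → IsCyclic R

def JobNC0 : Prop := Kit.{u} → JobNC1.{u} → JobNC2.{u} → NC.{u}

/-! ### DX: the ends of the tower `H85.DY` -/

/-- Letters `z 0, y 1, a 2, b 3, c 4, e 5, f 6, g 7, v 8, t 9`: a Sylow `2`-subgroup of
`PGSp₆(3)`; `Q₀ = ⟨a, b⟩`, `Q₁ = ⟨c, e⟩`, `Q₂ = ⟨f, g⟩`. -/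
def TS : Tb :=
  .of 10 [(3, 2, [2, 0]), (5, 4, [4, 1]), (7, 6, [6, 1, 0]), (8, 1, [1, 0]), (8, 4, [6]), (8, 5, [7]),
    (8, 6, [4]), (8, 7, [5]), (9, 1, [1, 0]), (9, 2, [2, 0]), (9, 3, [3, 2, 0]), (9, 4, [6, 1, 0]),
    (9, 5, [7, 6, 1, 0]), (9, 6, [4, 1]), (9, 7, [5, 4, 1])]
    [(2, [0]), (3, [0]), (4, [1]), (5, [1]), (6, [1, 0]), (7, [1, 0])]

structure B0 (x : ℕ → G) : Prop where
  pres : Pres TS x
  ind : Ind x 10
  syl : IsSyl 2 (H x 10) ⊤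
  sylt : IsSyl 2 (H x 10 ⊓ cen1 (x 9)) (cen1 (x 9))
  zy : IsConj (x 0) (x 1)

def B6 (t v s : G) : Prop :=
  ∃ g x, B0 x ∧ x 9 = g * t * g⁻¹ ∧ x 8 = g * v * g⁻¹ ∧ W x [8, 6, 4, 1] = g * s * g⁻¹

/-- The involutions of `C(t)`. -/
def Iv (X : Subgroup G) (t v s : G) : Prop :=
  ∀ a ∈ cen1 t, a * a = 1 → a * v = v * a → a * s = s * a → a ∉ cl [t, v * s * (v * s)] →
    ∀ d ∈ cen1 t, d * d = 1 → d ∈ X ∨ IsConj t d ∨ IsConj a d ∨ IsConj (t * a) d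

def JobN4 : Prop :=
  ∀ (G : Type u) [Group G] [Finite G] (X : Subgroup G) (t v s u a σ ρ : G) (x : ℕ → G)
    (Z : Subgroup G), AS X t → DY.NW.WrN t v s u a σ ρ x Z → SectionalPRankLE 2 4 X

def JobW4 : Prop :=
  ∀ (G : Type u) [Group G] [Finite G] (X : Subgroup G) (t v s u a σ ρ b : G) (x : ℕ → G)
    (Z : Subgroup G), AS X t → Iv X t v s → DY.NW.WrW t v s u a σ ρ b x Z → Sp44 X

def JobW5 : Prop :=
  ∀ (G : Type u) [Group G] [Finite G] (X₀ : Subgroup G) (t v s u a σ ρ p q Y X : G), AS X₀ t →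
    DY.NW.WQ t v s u a σ ρ p q Y X true [1, 0] → Sp44 X₀

def JobNZ : Prop :=
  ∀ (G : Type u) [Group G] [Finite G] (X : Subgroup G) (t v s u a σ ρ y : G) (k Z' k' : Bool),
    AS X t → DY.N1 t v s u a σ ρ y → SdN t v s u a σ y true k → SdN t s v a u ρ y Z' k' →
      DZ.Out2 X t

def JobWD : Prop :=
  ∀ (G : Type u) [Group G] [Finite G] (X : Subgroup G) (t v s u a σ ρ p q : G) (k l : Bool), AS X t →
    DY.WD t v s u a σ ρ p q true true true true 3 3 k l → DZ.Out2 X t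

def JobWB : Prop :=
  ∀ (G : Type u) [Group G] [Finite G] (X : Subgroup G) (t v s u a σ ρ p q : G) (k l : Bool), AS X t →
    DY.WD t v s u a σ ρ p q false false true true 1 1 k l → B6 t v s

/-! ### SP: the case `PSp₆(3)` -/

structure St (X : Subgroup G) (t : G) (A : Subgroup G) : Prop extends H73.D8W.Rd X t A where
  ty : Ty A
  k2 : ¬ 4 ∣ Nat.card (cen A)

structure C6 (X A : Subgroup G) (x : ℕ → G) : Prop extends B0 x where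
  st : St X (x 9) A
  vA : x 8 ∈ A
  sA : W x [8, 6, 4, 1] ∈ A

/-- `s = v f c y`, `j = g e c y`, `u = f c a`. -/
structure FA (X A : Subgroup G) (x : ℕ → G) : Prop where
  tX : x 9 ∉ X
  nD : ∀ w ∈ H x 9, ¬ IsConj (x 9) w
  D : ∀ w ∈ H x 10, w ∉ H x 9 → w * w = 1 → IsConj (x 9) w
  sd : SD (x 8) (W x [8, 6, 4, 1]) (x 0) (W x [7, 5, 4, 1])
  SA : H x 10 ⊓ A = cl [x 8, W x [8, 6, 4, 1], W x [7, 5, 4, 1]]
  zA : ∀ w ∈ cen1 (x 9), IsConj (x 0) w → w ∈ A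
  zu : ¬ IsConj (x 0) (W x [6, 4, 2])
  pair : ∀ w ∈ cen1 (x 0), IsConj (x 9) w → ∃ g ∈ cen1 (x 0), g * x 9 * g⁻¹ = w
  solv : Group.IsSolvable ↥(cen1 (x 9) ⊓ cen1 (x 0))
  vy : ∃ h ∈ X ⊓ cen1 (x 0), h * x 8 * h⁻¹ = x 1

/-- The action of `g` modulo `U = ⟨z, y⟩`. -/
def Ac (x : ℕ → G) (g : G) (m : List (ℕ × List ℕ)) : Prop :=
  ∀ p ∈ m, g * x p.1 * g⁻¹ * (W x p.2)⁻¹ ∈ H x 2

def m1 : List (ℕ × List ℕ) := [(2, [2]), (3, [3]), (4, [5, 4]), (5, [4]), (6, [7]), (7, [7, 6])]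
def m2 (ε : Bool) : List (ℕ × List ℕ) :=
  [(2, [3]), (3, [3, 2]), (4, bif ε then [5] else [5, 4]), (5, bif ε then [5, 4] else [4]),
    (6, [6]), (7, [7])]
def m5 (ε : Bool) : List (ℕ × List ℕ) :=
  [(2, [3, 2]), (3, [2]), (4, bif ε then [5] else [5, 4]), (5, bif ε then [5, 4] else [4]),
    (6, bif ε then [7] else [7, 6]), (7, bif ε then [7, 6] else [6])]

def FX1 (x : ℕ → G) : Prop := ∃ g ∈ cen (H x 2), Ac x g m1

structure FX2 (x : ℕ → G) : Prop where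
  x2 : ∃ ε, ∃ g ∈ cen (H x 2), Ac x g (m2 ε)
  r : ∃ r ∈ nor (H x 8), r * x 0 * r⁻¹ = x 1 * x 0 ∧ r * x 1 * r⁻¹ = x 1 ∧
    cj r (H x 4) = cl [x 0, x 1, x 6, x 7]
  sylU : IsSyl 2 (H x 10 ⊓ cen1 (x 1)) (cen (H x 2))

/-- The conjugates of `z` in `S₀`. -/
def FB (x : ℕ → G) : Prop :=
  ∀ w ∈ H x 9, IsConj (x 0) w → w ∈ H x 2 ∨ ∃ r ∈ H x 8, w = r * x 8 * r⁻¹

structure FC (X : Subgroup G) (x : ℕ → G) : Prop where
  SX : H x 10 ⊓ X = H x 9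
  x5 : ∃ ε, ∃ g ∈ X ⊓ cen (H x 2) ⊓ cen1 (x 8) ⊓ nor (cl [x 2, x 3]), Ac x g (m5 ε)
  sc : ∀ h ∈ cen1 (x 0), ∀ q ∈ cl [x 2, x 3], h * q * h⁻¹ ∈ H x 9 → h * q * h⁻¹ ∈ cl [x 2, x 3]

/-- All the fusion data. -/
structure F6 (X A : Subgroup G) (x : ℕ → G) : Prop extends C6 X A x, FA X A x, FX2 x, FC X x where
  x1 : FX1 x
  fb : FB x

def Ho (X A : Subgroup G) (x : ℕ → G) : Prop := ∀ P ≤ X, X ⊓ cen1 (x 0) ≤ P → A ≤ P → P = X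

/-- `O(C_X(z)) = 1`. -/
def O1 (X : Subgroup G) (x : ℕ → G) : Prop :=
  ∀ W ≤ X ⊓ cen1 (x 0), Odd (Nat.card W) → X ⊓ cen1 (x 0) ≤ nor W → W = ⊥

structure G6 (X A : Subgroup G) (x : ℕ → G) : Prop extends F6 X A x where
  o1 : O1 X x
  nQ : cen1 (x 0) ≤ nor (cl [x 2, x 3])
  solvU : Group.IsSolvable ↥(X ⊓ cen (H x 2))

/-- `N / ⟨z⟩ ≅ Y` is the socle of `C_X(Q₀) / ⟨z⟩`. -/
structure N6 (X : Subgroup G) (x : ℕ → G) (N : Subgroup G) {Y : Type*} [Group Y] (f : N →* Y) :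
    Prop where
  le : N ≤ X ⊓ cen (cl [x 2, x 3])
  nor : X ⊓ cen (cl [x 2, x 3]) ≤ nor N
  S1 : cl [x 4, x 5, x 8] ≤ N
  surj : Function.Surjective f
  ker : ∀ n : N, f n = 1 ↔ (n : G) ∈ zpowers (x 0)
  cen : ∀ c ∈ X ⊓ cen (cl [x 2, x 3]), (∀ n ∈ N, c * n * c⁻¹ * n⁻¹ ∈ zpowers (x 0)) →
    c ∈ zpowers (x 0)

/-- `C_X(z) = SL₂(3) ∘ Sp₄(3)`. -/
structure M6 (X A : Subgroup G) (t z : G) (θ : Sp 2 →* G) (J : Subgroup G) : Prop where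
  inj : Function.Injective θ
  MX : θ.range ≤ X
  neg : ∀ y : Sp 2, y.1 = -1 → θ y = z
  JX : J ≤ X
  JM : J ≤ cen θ.range
  cz : X ⊓ cen1 z = J ⊔ θ.range
  cJ : Nat.card J = 24
  J3 : J ≤ closure {r | r ∈ J ∧ r ^ 3 = 1}
  u2 : ∀ r ∈ J, r * r = 1 → r = 1 ∨ r = z
  o3 : ∀ W ≤ J, J ≤ nor W → Odd (Nat.card W) → W = ⊥
  tM : t ∈ nor θ.range
  out : t ∉ θ.range ⊔ cen θ.range
  AM : A ⊓ cen1 z ≤ θ.range

/-- `y` is the Levi element of `g`. -/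
def Lv (g : SL(2, F3)) (y : Sp 2) : Prop := y.1 = fromBlocks g.1 0 0 (g⁻¹).1ᵀ

/-- `y` is the element `g` of the long root `SL₂` at the last index. -/
def Mu (g : SL(2, F3)) (y : Sp 2) : Prop :=
  y.1 = fromBlocks !![1, 0; 0, g 0 0] !![0, 0; 0, g 0 1] !![0, 0; 0, g 1 0] !![1, 0; 0, g 1 1]

def b01 : SL(2, F3) →* SL(3, F3) := H57.bkSL Fin.castSuccEmb
def b12 : SL(2, F3) →* SL(3, F3) := H57.bkSL (H57.pairE (H57.pen_ne 1))

structure E6 (A : Subgroup G) (θ : Sp 2 →* G) (Λ : SL(3, F3) →* G) : Prop where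
  inj : Function.Injective Λ
  rg : Λ.range = A
  lv : ∀ g y, Lv g y → θ y = Λ (b12 g)
  mu : ∀ y, Mu (-1) y → θ y = Λ (b01 (-1))

def JobFA : Prop := Kit.{u} →
  ∀ (G : Type u) [Group G] [Finite G] (X A : Subgroup G) (x : ℕ → G), C6 X A x → FA X A x

def JobFX1 : Prop := Kit.{u} →
  ∀ (G : Type u) [Group G] [Finite G] (X A : Subgroup G) (x : ℕ → G), C6 X A x → FA X A x → FX1 x

def JobFX2 : Prop :=
  ∀ (G : Type u) [Group G] [Finite G] (x : ℕ → G), B0 x → FX1 x → FX2 x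

def JobFB : Prop :=
  ∀ (G : Type u) [Group G] [Finite G] (X A : Subgroup G) (x : ℕ → G), C6 X A x → FA X A x →
    FX1 x → FX2 x → FB x

def JobFC : Prop :=
  ∀ (G : Type u) [Group G] [Finite G] (X A : Subgroup G) (x : ℕ → G), C6 X A x → FA X A x →
    FX1 x → FX2 x → FB x → FC X x

def JobHo : Prop := Kit.{u} →
  ∀ (G : Type u) [Group G] [Finite G] (X A : Subgroup G) (x : ℕ → G), F6 X A x → Ho X A x

def JobO : Prop := Kit.{u} →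
  ∀ (G : Type u) [Group G] [Finite G] (X A : Subgroup G) (x : ℕ → G), F6 X A x → Ho X A x → O1 X x

def JobQ : Prop :=
  ∀ (G : Type u) [Group G] [Finite G] (X A : Subgroup G) (x : ℕ → G), F6 X A x → O1 X x → G6 X A x

def JobM1 : Prop :=
  ∀ (G : Type u) [Group G] [Finite G] (X A : Subgroup G) (x : ℕ → G), G6 X A x →
    ∃ (N : Subgroup G) (Y : Type u) (_ : Group Y) (f : N →* Y), IsSimpleGroup Y ∧ N6 X x N f

def JobM2 : Prop :=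
  ∀ (G : Type u) [Group G] [Finite G] (X A : Subgroup G) (x : ℕ → G) (N : Subgroup G) (Y : Type u)
    [Group Y] [IsSimpleGroup Y] (f : N →* Y), G6 X A x → N6 X x N f → Nonempty (Y ≃* PSp 2 F3)

def JobM3 : Prop := Kit.{u} →
  ∀ (G : Type u) [Group G] [Finite G] (X A : Subgroup G) (x : ℕ → G) (N : Subgroup G)
    (f : N →* PSp 2 F3), G6 X A x → N6 X x N f → ∃ θ J, M6 X A (x 9) (x 0) θ J

def JobE1 : Prop := Kit.{u} →
  ∀ (G : Type u) [Group G] [Finite G] (X A : Subgroup G) (t z : G) (θ : Sp 2 →* G) (J : Subgroup G),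
    St X t A → z ∈ A → orderOf z = 2 → M6 X A t z θ J →
      ∃ (θ' : Sp 2 →* G) (Λ : SL(3, F3) →* G), M6 X A t z θ' J ∧ E6 A θ' Λ

def JobE2 : Prop :=
  ∀ (G : Type u) [Group G] [Finite G] (X A : Subgroup G) (t z : G) (θ : Sp 2 →* G) (J : Subgroup G)
    (Λ : SL(3, F3) →* G), St X t A → M6 X A t z θ J → E6 A θ Λ →
      (∀ g h y, Mu h y → Commute (Λ (b01 g)) (θ y)) ∧ J ≤ A ⊔ θ.range

def JobCT : Prop :=
  ∀ (G : Type u) [Group G] [Finite G] (Λ : SL(3, F3) →* G) (θ : Sp 2 →* G),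
    (∀ g y, Lv g y → θ y = Λ (b12 g)) → (∀ g h y, Mu h y → Commute (Λ (b01 g)) (θ y)) →
      ∃ Θ : Sp 3 →* G, Θ.range = Λ.range ⊔ θ.range

/-! ### The wrap -/

def OutX (X : Type*) [Group X] : Prop :=
  (∃ (K : Type) (_ : Field K) (_ : Fintype K), Fintype.card K = 9 ∧
    Nonempty (X ≃* ProjectiveSpecialLinearGroup (Fin 3) K)) ∨
  Nonempty (X ≃* ProjectiveSpecialLinearGroup (Fin 4) F3) ∨
  Nonempty (X ≃* ProjectiveSpecialLinearGroup (Fin 5) F3) ∨ Nonempty (X ≃* PSp 3 F3)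

def Core : Prop :=
  ∀ (G : Type u) [Group G] [Finite G] (X : Subgroup G) (t : G) (A : Subgroup G),
    H73.D8W.Rd X t A → Ty A → OutX X

universe v in
def Row : Prop :=
  ∀ {G : Type u} [Group G] [Finite G] (_ : Cfsg.oddCore G = ⊥) (L : Subgroup G)
    (_ : Cfsg.IsStandardSubgroup L) {F : Type v} [Field F] [Fintype F] (_ : Fintype.card F = 3)
    (_ : Nonempty (↥L ≃* Matrix.ProjectiveSpecialLinearGroup (Fin 3) F)),
    L.Normal ∨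
      (Subgroup.normalClosure (L : Set G) = Cfsg.generalizedFittingSubgroup G ∧
        ((∃ (K : Type) (_ : Field K) (_ : Fintype K), Fintype.card K = 9 ∧ Nonempty (↥(Cfsg.generalizedFittingSubgroup G) ≃* Matrix.ProjectiveSpecialLinearGroup (Fin 3) K)) ∨
          Nonempty (↥(Cfsg.generalizedFittingSubgroup G) ≃* Matrix.ProjectiveSpecialLinearGroup (Fin 4) F) ∨
          Nonempty (↥(Cfsg.generalizedFittingSubgroup G) ≃* Matrix.ProjectiveSpecialLinearGroup (Fin 5) F) ∨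
          Nonempty (↥(Cfsg.generalizedFittingSubgroup G) ≃* Cfsg.PSp 3 F) ∨
          (Nonempty (↥(Cfsg.generalizedFittingSubgroup G) ≃* ↥L × ↥L) ∧ ∃ u : G, orderOf u = 2 ∧ Subgroup.centralizer (L : Set G) = Subgroup.zpowers u)))

universe v in
def JobWrap : Prop := Core.{u} → Row.{u, v}

end H85.L33
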