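import Cfsg.Agent.H85.L3K0

/-! L33: the outer involutions of `N(A)`. -/

set_option autoImplicit false
set_option linter.unusedSectionVars false

namespace H85.L33.K2

open Subgroup Cfsg H98 H1.Gold H85.FZ H85.S3 Matrix
open H49.D8 (Tri mc1)
open scoped MatrixGroups

universe u

def tb : ℕ := 0x57efd8dc2e98f35b2ab73939cc1f74bdc4acf2cb7ccd8c45c512e8166441481f0668f04194ecc5d0765a4263c65543962d7d9adcfb3f488f88fee5297742700d8cde1fa676a112a3100c3c2c4f0e1a8ad07850b2276a66fbde43322477e9bbc5f9f185b6e8fb91f3ad0f9e0803480f8feac7589ee62d6a407e2ddee77e43f8f25cdca1259f0ef28d3bb4d6a4d39e8f4d286008e84bbb91eb9d0abef650e76e33ba822f6d71ac9d30087aaf0712c8f491aaa51710da4d1bf222e87a4336341a8e395257c2824f69b3b9e05ad2cf5f10e4dee49d377c4bb0acc281059404498c7676a1e8a9499111d65b8d727e824a87d60e6c8854b8f6283177da24f558f084470394de63223463fa12ada0d364a9a7558536fb7163aa7299390a2d5735ccd7a2de0e68750d99b0e7824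b795ae22fe61f7637a0a8787e18015a071639b73de4274d9618e1614108faefa8a54ad48164ba5be1a03dc1133f83bea66b48473afa2d3f3b5d4568cf95f26128b4b719cae04e1e27e62da8f532e0a00416ae6a72a27348723c4bbc4533c7c918e12f4c9f713e1df6d19edddbe0b583b4f8d3c53a374662dcae3f2a01ecc58b7fd1f2901f98e36abb29d63003c424d6abb4d9aacae99724f69298409bc8bfee13e94aaf296b6923e7be2c46e599dd9b34ad18c8cf523355fdb43a25a4c287ae49f54a9483ee5a5aab6d493cd3fb2f10a2085d3b492e0f25e558128acbbaa5721f1b9689756825909c9c66e7da8d085edce3566b253053b465be8f8bb5c08b16679900d09b4b0c8e1edf3e05fab45a663cbf9d93776da10d7ea1d3e91e340a00bb18d8ff9e21b12bc4c4bff04f05081ecdac3f96f63738ee05da16b91aa24d435c49891f284a17f6561ca686af35a702eea4a99579feb8af3a239c8665c5afa3ade6eb160daf4abfc5d028fdccf43fec0372442e8e21c2fced47ae304af61f4136ef20023f409a36bfdb3271e8886ee98e12e301548d7ff2a8bfea043e7818e8df095584c419d581fe9e575bb1d1361b7d57e110246c859827e8e1c7f2868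a76b1448ac2befcaf0f2560b647f38698162c3cf44709eb9d48b39058e8034b691e4bd171a1f391ddcd9e66eccd38d6947123f16ab9759873a5703cc5f55caf530f352b0542e12198d4a9cfee2aeb0a5c1841185ebf6051d908b32a669c643240638d27a2767407687876f07d12c63e12896b86e2415015409085a68d1f23a3071685aadec6e216ea7e7fe53405cdf477121f82cdbf88f85a7d97a5fb827d7804ac5653eda5693daa264950f15ed039fa82cddc37544f80d525101b272a9a16f6832916585dce1e85ade02f1f57582d2ad06f4bd106ee0c24ca81312df694d69e2a81924e1a30b2c855525c7dada3d674a69f6a1369019e77d7bd281ed19b7e2ef5f4003112797e232a49f7dd181217ad051497dae0371e23bb5ef437247314ab726302632152a4ecce5b5e8d4eb7bae43069b145ba03bb60ee56fce60009185845a47076fbf74396e7f5f658fc183c457b315282c2f62fa876bd6f2802ebf1fb8ac72126d93db198e19da342157aaf9c63bc33518da2ee681fde1052de4257f9d8088efd03e44b6053cd809e1d3b7931f3a9d445e98545430d7be1b4d112b8c2789dcab752f5d966958d25aee77d3d324109408654cf067ed75d499cb978c67fa85b7b9fe389fa16ccffa72e70b0b93e0213d2fe98c03b5949668e6120b4a993ea69d2fcd8aaf31d55aa95f55b82c54322528cbf1811316a7fc84464a8ccd868f329764b54a7a0452295021a818b3fe71c330b0ad0c2b278dba6032d34aa12cbd257d1b362c32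

def lm (a b c d e f : F3) : Matrix (Fin 3) (Fin 3) F3 := Matrix.of fun r s =>
  ((tb / 3 ^ (9 * (a.val + 3 * (b.val + 3 * (c.val + 3 * (d.val + 3 * (e.val + 3 * f.val))))) +
    (3 * r.1 + s.1)) % 3 : ℕ) : F3)

def dt (m : Matrix (Fin 3) (Fin 3) F3) : F3 :=
  m 0 0 * m 1 1 * m 2 2 - m 0 0 * m 1 2 * m 2 1 - m 0 1 * m 1 0 * m 2 2 + m 0 1 * m 1 2 * m 2 0 +
    m 0 2 * m 1 0 * m 2 1 - m 0 2 * m 1 1 * m 2 0

def ok (l m : Matrix (Fin 3) (Fin 3) F3) : Bool :=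
  !decide (dt m = 1) || (decide (dt l = 1) &&
    (List.finRange 3).all fun i => (List.finRange 3).all fun j =>
      decide (l i 0 * l j 0 + l i 1 * l j 1 + l i 2 * l j 2 = m i j))

theorem key : ∀ a b c d e f : F3, ok (lm a b c d e f) !![a, b, c; b, d, e; c, e, f] = true := by
  decide +kernel

/-- The inverse transpose. -/
def τ : SL(3, F3) →* SL(3, F3) := MonoidHom.mk' (fun g => (g⁻¹).transpose) fun g h =>
  Subtype.ext (by
    rw [_root_.mul_inv_rev]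
    exact transpose_mul _ _)

theorem τ_inv (g : SL(3, F3)) : ((τ g)⁻¹).1 = g.1ᵀ := by
  rw [← map_inv]
  change ((g⁻¹⁻¹).transpose).1 = _
  rw [inv_inv, SpecialLinearGroup.coe_transpose]

theorem ττ (g : SL(3, F3)) : τ (τ g) = g := Subtype.ext (by
  change (((τ g)⁻¹).transpose).1 = _
  rw [SpecialLinearGroup.coe_transpose, τ_inv, transpose_transpose])

theorem sym {h : SL(3, F3)} (e : h * τ h = 1) : ∃ l, h = l * (τ l)⁻¹ := by
  have s : h.1 = h.1ᵀ := by rw [← τ_inv, ← eq_inv_of_mul_eq_one_left e]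
  have s' : ∀ i j, h.1 i j = h.1 j i := fun i j => congrFun (congrFun s i) j
  have m : !![h.1 0 0, h.1 0 1, h.1 0 2; h.1 0 1, h.1 1 1, h.1 1 2; h.1 0 2, h.1 1 2, h.1 2 2] = h.1 := by
    ext i j; fin_cases i <;> fin_cases j <;> first | rfl | exact s' _ _
  have k := key (h.1 0 0) (h.1 0 1) (h.1 0 2) (h.1 1 1) (h.1 1 2) (h.1 2 2)
  rw [m, ok, show dt h.1 = 1 by rw [dt, ← det_fin_three, h.2]] at k
  simp only [decide_true, Bool.not_true, Bool.false_or, Bool.and_eq_true, decide_eq_true_eq,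
    List.all_eq_true, List.mem_finRange, true_imp_iff] at k
  generalize lm _ _ _ _ _ _ = l at k
  let L : SL(3, F3) := ⟨l, (det_fin_three _).trans k.1⟩
  refine ⟨L, Subtype.ext (Eq.trans ?_ (congrArg (L.1 * ·) (τ_inv L)).symm)⟩
  ext i j
  rw [Matrix.mul_apply, Fin.sum_univ_three]
  exact (k.2 i j).symm

variable {G : Type u} [Group G] [Finite G] {A : Subgroup G} {Λ : SL(3, F3) →* G} (k : K0 A Λ)
  {n w : G} {h : SL(3, F3)}
include k

theorem mem (g : SL(3, F3)) : Λ g ∈ A := k.rg ▸ ⟨g, rfl⟩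

theorem cen_of (e : ∀ g, n * Λ g * n⁻¹ = Λ g) : n ∈ cen A := fun a ha => by
  obtain ⟨g, rfl⟩ := k.rg.ge ha
  exact (mul_inv_eq_iff_eq_mul.1 (e g)).symm

theorem inn (e : ∀ g, n * Λ g * n⁻¹ = Λ (h * g * h⁻¹)) : n ∈ A ⊔ cen A := by
  rw [← mul_inv_cancel_left (Λ h) n]
  refine mul_mem_sup (mem k h) (cen_of k fun g => ?_)
  rw [show (Λ h)⁻¹ * n * Λ g * ((Λ h)⁻¹ * n)⁻¹ = (Λ h)⁻¹ * (n * Λ g * n⁻¹) * Λ h by group, e, ← map_inv,
    ← map_mul, ← map_mul]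
  exact congrArg Λ (by group)

omit k in
theorem two {m : G} {h' : SL(3, F3)} (e : ∀ g, n * Λ g * n⁻¹ = Λ (h * τ g * h⁻¹))
    (e' : ∀ g, m * Λ g * m⁻¹ = Λ (h' * τ g * h'⁻¹)) (g : SL(3, F3)) :
    n * m * Λ g * (n * m)⁻¹ = Λ (h * τ h' * g * (h * τ h')⁻¹) := by
  rw [show n * m * Λ g * (n * m)⁻¹ = n * (m * Λ g * m⁻¹) * n⁻¹ by group, e', e, map_mul τ, map_mul τ,
    ττ, map_inv τ]
  exact congrArg Λ (by group)

theorem std (h1 : w ∈ nor A) (h2 : w ∉ A ⊔ cen A) (h3 : w * w ∈ cen A) :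
    ∃ l, ∀ g, w * Λ (l * g * l⁻¹) * w⁻¹ = Λ (l * τ g * l⁻¹) := by
  obtain ⟨h, e | e⟩ := k.aut w h1
  · exact (h2 (inn k e)).elim
  obtain ⟨l, rfl⟩ := sym (h := h) (center3.le (mem_center_iff.2 fun g => by
    have := (two e e g).symm.trans (mul_inv_eq_iff_eq_mul.2 (h3 _ (mem k g)).symm)
    exact (mul_inv_eq_iff_eq_mul.1 (k.inj this)).symm))
  refine ⟨l, fun g => (e _).trans (congrArg Λ ?_)⟩
  change _ * τ _ * _ = _
  rw [map_mul τ, map_mul τ, map_inv τ]; group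

def z0 : SL(3, F3) := ⟨!![1, 0, 0; 0, -1, 0; 0, 0, -1], by decide +kernel⟩
def v0 : SL(3, F3) := ⟨!![-1, 0, 0; 0, 1, 0; 0, 0, -1], by decide +kernel⟩
def r0 : SL(3, F3) := ⟨!![0, 0, 1; 1, 0, 0; 0, 1, 0], by decide +kernel⟩

omit k in
theorem fix {g : SL(3, F3)} (e : g.1ᵀ * g.1 = 1) : τ g = g := by
  refine inv_mul_eq_one.1 (Subtype.ext ?_)
  change ((τ g)⁻¹).1 * g.1 = 1
  rw [τ_inv, e]

omit k in
theorem jobK2 : JobK2.{u} := fun G _ _ A Λ k => by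
  refine ⟨fun n hn m hm => ?_, fun w h1 w' h1' h2 h2' h3 h3' => ?_, fun w h1 h2 h3 => ?_⟩
  · obtain ⟨h, e | e⟩ := k.aut n hn
    · exact Or.inl (inn k e)
    obtain ⟨h', e' | e'⟩ := k.aut m hm
    exacts [Or.inr (Or.inl (inn k e')), Or.inr (Or.inr (inn k (two e e')))]
  · obtain ⟨l, e⟩ := std k h1 h2 h3
    obtain ⟨l', e'⟩ := std k h1' h2' h3'
    refine ⟨Λ (l' * l⁻¹), mem k _, cen_of k fun g => ?_⟩
    have a := e' (τ (l'⁻¹ * g * l'))
    have b := e (τ (l'⁻¹ * g * l'))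
    rw [ττ] at a b
    simp only [map_mul, map_inv] at a b ⊢
    generalize Λ (τ l') = p, Λ (τ g) = q at a b
    have c : w'⁻¹ * Λ g * w' = Λ l' * (p⁻¹ * q * p) * (Λ l')⁻¹ := by
      rw [show Λ g = Λ l' * ((Λ l')⁻¹ * Λ g * Λ l') * (Λ l')⁻¹ by group, ← a]; group
    rw [show Λ l' * (Λ l)⁻¹ * w * (Λ l' * (Λ l)⁻¹)⁻¹ * w'⁻¹ * Λ g *
      (Λ l' * (Λ l)⁻¹ * w * (Λ l' * (Λ l)⁻¹)⁻¹ * w'⁻¹)⁻¹ = Λ l' * (Λ l)⁻¹ * (w * (Λ l * ((Λ l')⁻¹ *
        (w'⁻¹ * Λ g * w') * Λ l') * (Λ l)⁻¹) * w⁻¹) * Λ l * (Λ l')⁻¹ by group, c,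
      show (Λ l')⁻¹ * (Λ l' * (p⁻¹ * q * p) * (Λ l')⁻¹) * Λ l' = p⁻¹ * q * p by group, b]
    group
  · obtain ⟨l, e⟩ := std k h1 h2 h3
    let φ := Λ.comp (MulAut.conj l).toMonoidHom
    have inj : Function.Injective φ := k.inj.comp (MulAut.conj l).injective
    have c : ∀ g, τ g = g → φ g ∈ A ⊓ cen1 w := fun g eg =>
      ⟨mem k _, mc1.2 (mul_inv_eq_iff_eq_mul.1 ((e g).trans (by rw [eg]; rfl))).symm⟩
    refine ⟨φ z0, c _ (fix (by decide +kernel)), φ v0, c _ (fix (by decide +kernel)), φ r0,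
      c _ (fix (by decide +kernel)), ?_, ?_, ⟨?_, ?_⟩, ?_⟩
    · rw [orderOf_injective φ inj]
      exact orderOf_eq_prime (by decide +kernel) (by decide +kernel)
    · rw [← map_mul, ← map_mul, show z0 * v0 = v0 * z0 by decide +kernel]
    · rw [mul_inv_eq_iff_eq_mul, ← map_mul, ← map_mul, show r0 * z0 = v0 * r0 by decide +kernel]
    · rw [mul_inv_eq_iff_eq_mul, ← map_mul, ← map_mul, ← map_mul,
        show r0 * v0 = v0 * z0 * r0 by decide +kernel]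
    · rw [← map_pow, show r0 ^ 3 = 1 by decide +kernel, map_one]

end H85.L33.K2
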