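import Cfsg.Agent.H30.NW1
import Cfsg.Agent.H85.DYNWSpec
import Cfsg.Agent.H85.DYN

/-! DY: port of `H30/NW1`. -/

set_option autoImplicit false
set_option linter.unusedSectionVars false

namespace H85.DY.N30
open H30.NW

open Subgroup Cfsg H14 H98 H1.Gold H31.S2 H85.FZ H49.D8 H62.FZ H85.DZ
open H30.NZ hiding fin
open H49.NW hiding e32 NQ WQ Wr WrN WrW JobN1 JobN2 JobN3 JobN4 JobW1 JobW2 JobW3 JobW4 JobW5 ne_of wa_of noD_tb
open H85.DY.NW

universe u

variable {G : Type u} [Group G] [Finite G] {t v s u a σ ρ g c : G}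
  {T : Tb} {x : ℕ → G} {S J q : List ℕ} {f f' : List (ℕ × List ℕ)}

theorem base_cj (h : H85.DY.Base t v s u a σ ρ) (hc : c ∈ cen (cl [u, a, s, t])) :
    H85.DY.Base t v s u a σ (c * ρ * c⁻¹) := ⟨⟨⟨h.toTr, h.A, half_cj h.B hc⟩, h.top, h.nsyl⟩, h.nu, h.na⟩

/-! ### The narrow case -/

section
open H93.FZ H93.FZ.NEE

theorem jobN1 : JobN1.{u} := by
  intro G _ _ t v s u a σ ρ y k l h hA hB
  have P1 := h.pres
  have I1 := h.ind
  have aY := hA.act
  have aX : Act _ _ _ (fX l) := hB.act'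
  have nA := hA.nxt
  have nB := hB.nxt
  rw [W_swN] at nB
  have YY := conj_sq (g := σ) (q := y) (P1.sq 5 (by decide))
  have XX := conj_sq (g := ρ) (q := y) (P1.sq 5 (by decide))
  obtain ⟨Y, hY⟩ : ∃ Y, Y = σ * y * σ⁻¹ := ⟨_, rfl⟩
  rw [← hY] at aY YY nA
  obtain rfl : k = l := by
    by_contra hn
    have wY := AW.of aY (by cases k <;> decide)
    have wX := AW.of aX (by cases l <;> decide)
    have an : AW _ _ 6 (nn k l) := ((wY.mul wX).mul wY).mul wX
    have h1 := an.nor P1 (k := 4) (by decide) (by cases k <;> cases l <;> decide +kernel)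
    rw [H_val] at h1
    have h2 := (an [3] rfl).1
    cases k <;> cases l
    · exact hn rfl
    · exact (h.narA _ h1).1 (by simpa using h2.trans (P1.W_eq (w' := [3, 1]) (by decide +kernel)))
    · exact (h.narA _ h1).2 (by simpa using h2.trans (P1.W_eq (w' := [3, 0]) (by decide +kernel)))
    · exact hn rfl
  obtain ⟨k0, k1, k2⟩ := keyN k
  have P2 : Pres (T2 k) (val [a, u, v, t, s, y, Y]) :=
    P1.snoc rfl rfl (aY.inv YY) (q := []) YY (by cases k <;> decide)
  have w2 : (T2 k).wf = true := by cases k <;> decide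
  have I2 : Ind (val [a, u, v, t, s, y, Y]) 7 := I1.snoc (l := [a, u, v, t, s, y])
    (P1.notMem rfl I1 rfl (fun _ => rfl) (aY.w (w := [3]) rfl) (by cases k <;> decide +kernel))
  have s2 : ∀ i, (T2 k).sq i = [] := fun i => ite_self _
  obtain ⟨c, hc, aX, e⟩ := ext2 h.toLc P2 s2 XX (aX.snoc Y (by cases k <;> rfl)) k0
  replace hc : c ∈ cen (cl [a, u, v, t, s, y]) := hc
  have XX := conj_sq (g := c) XX
  have hb := base_cj h.toBase (centralizer_le (cl_mono (by simp)) hc)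
  have eX := cj_cj' (ρ := ρ) (mem_cen_iff.1 hc y (mem_cl (by simp)))
  replace nB := cj_nxt (mem_cen_iff.1 hc _ (W_mem_cl [a, u, v, t, s, y] 6 (by cases k <;> rfl))) nB
  generalize c * (ρ * y * ρ⁻¹) * c⁻¹ = X at aX e XX eX nB
  generalize c * ρ * c⁻¹ = ρ' at hb eX nB
  obtain ⟨w, hw, e⟩ := e 6 (by simp)
  replace aX : Act _ X (List.range 7) (fN k w) := act_mono (act_cons aX (r := 6) (by simpa [app] using e)) rfl
  obtain ⟨k3, k4, k5, k6, k7, k8⟩ := k2 w hw (cons_of P2 I2 w2 aX XX)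
  have P3 : Pres ((T2 k).ext (fN k w)) (val [a, u, v, t, s, y, Y, X]) :=
    P2.snoc rfl w2 (aX.inv XX) XX k4
  have I3 : Ind (val [a, u, v, t, s, y, Y, X]) 8 := I2.snoc (l := [a, u, v, t, s, y, Y])
    (P2.notMem w2 I2 rfl s2 (c := [3]) (c' := [3, 4])
      (by cases k <;> simpa [app, fN, fX, swp, gY, swN] using aX 3 (by decide)) k1)
  have tr : ∀ i < 6, val [a, u, v, t, s, y, Y, X] i = val [a, u, v, t, s, y] i := fun i hi => by
    interval_cases i <;> rfl
  rw [← W_congr tr (by cases k <;> rfl)] at nA nB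
  have ev : ∀ i < 8, val [a, u, y * W (val [a, u]) (ow k [1]), v, Y * W (val [a, u]) (ow k [1]), s,
      X * W (val [a, s]) (ow k [1, 0]), t] i = W (val [a, u, v, t, s, y, Y, X]) (app (wN k) [i]) :=
    fun i hi => by cases k <;> interval_cases i <;> simp [wN, app, ow]
  have P4 := P3.derive' (tbQ w) _ ev (keyQ w k3).1 k5
  exact ⟨ρ', _, _, _, w, ⟨hb, h.narA, h.narB⟩, k3, P4, P3.ind_derive I3 P4 (keyQ w k3).1 ev k6,
    act_derive P3 (act_cons (act_cons (hact h.A _) (r := 5) (w := [6]) (by simpa using hY.symm))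
      (r := 6) (w := 6 :: dY false k) nA) ev k7,
    act_derive P3 (act_cons (act_cons (actB hb.B _) (r := 5) (w := [7]) (by simpa using eX))
      (r := 7) (w := 7 :: (dY false k).map swN) nB) ev k8⟩

end

/-! ### The wide case -/

section
open H85.FZ.WA

theorem jobW1 : JobW1.{u} := by
  intro G _ _ t v s u a σ ρ p q k l h
  have P1 : Pres T1 _ := h.pres
  have I1 := h.ind
  have aY := h.sA.act
  have aX : Act _ _ _ (fX l) := h.sB.act' (by decide)
  have nA := h.sA.nxt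
  have nB := h.sB.nxt
  rw [W_swW] at nB
  have YY := conj_sq (g := σ) (q := q) (P1.sq 6 (by decide))
  have XX := conj_sq (g := ρ) (q := p) (P1.sq 5 (by decide))
  obtain ⟨Y, hY⟩ : ∃ Y, Y = σ * q * σ⁻¹ := ⟨_, rfl⟩
  rw [← hY] at aY YY nA
  obtain ⟨k0, k1, k2⟩ := keyW k l
  have P2 : Pres (T2 k) (val [a, u, v, t, s, p, q, Y]) :=
    P1.snoc rfl rfl (aY.inv YY) (q := []) YY (by cases k <;> decide)
  have w2 : (T2 k).wf = true := by cases k <;> decide
  have I2 : Ind (val [a, u, v, t, s, p, q, Y]) 8 := I1.snoc (l := [a, u, v, t, s, p, q])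
    (P1.notMem rfl I1 rfl (fun _ => rfl) (aY.w (w := [3]) rfl) (by cases k <;> decide +kernel))
  have s2 : ∀ i, (T2 k).sq i = [] := fun i => ite_self _
  obtain ⟨c, hc, aX, e⟩ := ext2 h.toLc P2 s2 XX (aX.snoc Y (by cases l <;> rfl)) k0
  replace hc : c ∈ cen (cl [a, u, v, t, s, p, q]) := hc
  have XX := conj_sq (g := c) XX
  have hb := base_cj h.toBase (centralizer_le (cl_mono (by simp)) hc)
  have eX := cj_cj' (ρ := ρ) (mem_cen_iff.1 hc p (mem_cl (by simp)))
  have eq := cj_cj' (ρ := ρ) (mem_cen_iff.1 hc q (mem_cl (by simp)))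
  rw [h.ρq, show W (val [a, u]) (ow false [1, 0]) = 1 from rfl, mul_one,
    mem_cen_iff.1 hc q (mem_cl (by simp)), mul_inv_cancel_right] at eq
  replace nB := cj_nxt (mem_cen_iff.1 hc _ (W_mem_cl [a, u, v, t, s, p, q] 7 (by cases l <;> rfl))) nB
  generalize c * (ρ * p * ρ⁻¹) * c⁻¹ = X at aX e XX eX nB
  generalize c * ρ * c⁻¹ = ρ' at hb eX eq nB
  obtain ⟨w, hw, e⟩ := e 7 (by simp)
  replace aX : Act _ X (List.range 8) (fW k l w) :=
    act_mono (act_cons aX (r := 7) (by simpa [app] using e)) rfl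
  obtain ⟨k3, k4, k5, k6, k7, k8⟩ := k2 w hw (cons_of P2 I2 w2 aX XX)
  have P3 : Pres ((T2 k).ext (fW k l w)) (val [a, u, v, t, s, p, q, Y, X]) :=
    P2.snoc rfl w2 (aX.inv XX) XX k4
  have I3 : Ind (val [a, u, v, t, s, p, q, Y, X]) 9 := I2.snoc (l := [a, u, v, t, s, p, q, Y])
    (P2.notMem w2 I2 rfl s2 (c := [3]) (c' := [3, 4, 0])
      (by cases l <;> simpa [app, fW, fX, swp, fY, swW] using aX 3 (by decide)) k1)
  have tr : ∀ i < 7, val [a, u, v, t, s, p, q, Y, X] i = val [a, u, v, t, s, p, q] i := fun i hi => by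
    interval_cases i <;> rfl
  rw [← W_congr tr (by cases k <;> rfl)] at nA
  rw [← W_congr tr (by cases l <;> rfl)] at nB
  have ev : ∀ i < 9, val [a, u, p * W (val [a, u]) (ow k [1]), q, v, Y, s,
      X * W (val [a, s]) (ow k [1, 0]), t] i = W (val [a, u, v, t, s, p, q, Y, X]) (app (wW k) [i]) :=
    fun i hi => by cases k <;> interval_cases i <;> simp [wW, app, ow]
  have P4 := P3.derive' (tbV (k ^^ l) w) _ ev (keyV _ w k3).1 k5
  exact ⟨ρ', _, _, _, _, w, hb, k3, P4, P3.ind_derive I3 P4 (keyV _ w k3).1 ev k6,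
    act_derive P3 (act_cons (act_cons (act_cons (hact h.A _) (r := 5) (w := [5])
      (by simpa [ow] using h.σp)) (r := 6) (w := [7]) (by simpa using hY.symm))
      (r := 7) (w := 7 :: eY 0 k) nA) ev k7,
    act_derive P3 (act_cons (act_cons (act_cons (actB hb.B _) (r := 6) (w := [6]) (by simpa using eq))
      (r := 5) (w := [8]) (by simpa using eX)) (r := 8) (w := 8 :: (eY 0 l).map swW) nB) ev k8⟩

end

end H85.DY.N30
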