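import Cfsg.Agent.H30.NW2
import Cfsg.Agent.H85.DYNWSpec

/-! DY: port of `H30/NW2`. -/

set_option autoImplicit false
set_option linter.unusedSectionVars false

namespace H85.DY.N30
open H30.NW

open Subgroup Cfsg H14 H98 H1.Gold H31.S2 H85.FZ H49.D8 H62.FZ H85.DZ
open H30.NZ hiding fin
open H49.NW hiding e32 NQ WQ Wr WrN WrW JobN1 JobN2 JobN3 JobN4 JobW1 JobW2 JobW3 JobW4 JobW5 ne_of wa_of noD_tb
open H85.DY.NW

universe u

variable {G : Type u} [Group G] [Finite G] {g g' : G} {T : Tb} {x : ℕ → G}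
  {S S' Z p q : List ℕ} {f f' : List (ℕ × List ℕ)}

theorem jobN2 : JobN2.{u} := by
  intro G _ _ t v s u a σ ρ y Y X m h
  have hm := h.hm
  simp only [subs, List.map_cons, List.map_nil, List.cons_append, List.nil_append, List.mem_cons,
    List.not_mem_nil, or_false] at hm
  have pA := fun fs => prog (S := [0, 1, 2, 3, 4]) (fs := fs) h.pres (fun _ => rfl) h.aσ rfl [[6], [6, 7]]
  have pB := fun fs => prog (S := [0, 1, 2, 5, 6]) (fs := fs) h.pres (fun _ => rfl) h.aρ rfl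
    [[4], [4, 3], [4, 7]]
  rcases hm with rfl | rfl | rfl | rfl
  · rfl
  · exact (kill8 (S := [0, 1, 2, 5, 6]) h.pres h.ind h.wf h.naB h.elB.1
      (pB (g8 [0, 1, 2, 5, 6] [4, 7] rQ) (by simp [g8]) (by decide +kernel))
      (by decide +kernel)).elim
  · exact (kill8 (S := [0, 1, 2, 3, 4]) h.pres h.ind h.wf h.naA h.elA.1
      (pA (g8 [0, 1, 2, 3, 4] [6, 7] sQ) (by simp [g8]) (by decide +kernel))
      (by decide +kernel)).elim
  · exact (killZ (S := [0, 1, 2, 3, 4]) (S' := [0, 1, 2, 5, 6]) (Z := [0, 1, 2]) (p := [2]) (q := [1, 0])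
      h.pres h.ind h.wf (fun _ => rfl) h.naA h.naB
      h.elA.1 h.elB.1 (h.elA.2.1.trans h.elB.2.1.symm)
      (pA (H30.NW.tA [0, 1, 2, 3, 4] [6] sQ) (by simp [H30.NW.tA]) (by decide +kernel))
      (pB (tB [0, 1, 2, 5, 6] [4] [4, 3] rQ) (by simp [tB]) (by decide +kernel))
      (by decide +kernel)).elim

theorem jobW2 : JobW2.{u} := by
  intro G _ _ t v s u a σ ρ p q Y X l m h
  have hm := h.hm
  simp only [subs, List.map_cons, List.map_nil, List.cons_append, List.nil_append, List.mem_cons,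
    List.not_mem_nil, or_false] at hm
  have pA := fun fs => prog (S := [0, 1, 2, 3, 4, 5]) (fs := fs) h.pres (fun _ => rfl) h.aσ rfl
    [[7], [7, 8]]
  have pB := fun fs => prog (S := [0, 1, 2, 3, 6, 7]) (fs := fs) h.pres (fun _ => rfl) h.aρ rfl
    [[5], [5, 4], [5, 8]]
  have kA := fun k => kill8 (S := [0, 1, 2, 3, 4, 5]) h.pres h.ind h.wf h.naA h.elA.1
    (pA (g8 [0, 1, 2, 3, 4, 5] [7, 8] sV) (by simp [g8]) k)
  have kB := fun k => kill8 (S := [0, 1, 2, 3, 6, 7]) h.pres h.ind h.wf h.naB h.elB.1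
    (pB (g8 [0, 1, 2, 3, 6, 7] [5, 8] (rV l)) (by simp [g8]) k)
  cases l <;> rcases hm with rfl | rfl | rfl | rfl
  · exact Or.inl ⟨rfl, rfl⟩
  · exact (kB (by decide +kernel) (by decide +kernel)).elim
  · exact (kA (by decide +kernel) (by decide +kernel)).elim
  · exact (killZ (S := [0, 1, 2, 3, 4, 5]) (S' := [0, 1, 2, 3, 6, 7]) (Z := [0, 1, 2, 3]) (p := [3, 2])
      (q := [1, 0]) h.pres h.ind h.wf (fun _ => rfl) h.naA
      h.naB h.elA.1 h.elB.1 (h.elA.2.1.trans h.elB.2.1.symm)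
      (pA (H30.NW.tA [0, 1, 2, 3, 4, 5] [7] sV) (by simp [H30.NW.tA]) (by decide +kernel))
      (pB (tB [0, 1, 2, 3, 6, 7] [5] [5, 4] (rV false)) (by simp [tB]) (by decide +kernel))
      (by decide +kernel)).elim
  · exact (kA (by decide +kernel) (by decide +kernel)).elim
  · exact (kB (by decide +kernel) (by decide +kernel)).elim
  · exact (kA (by decide +kernel) (by decide +kernel)).elim
  · exact Or.inr ⟨rfl, rfl⟩

end H85.DY.N30
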