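import Cfsg.Agent.H58.NW3
import Cfsg.Agent.H85.DYNWSpec

/-! DY: port of `H58/NW3`. -/

set_option autoImplicit false
set_option linter.unusedSectionVars false

namespace H85.DY.N58
open H58.NW

open Subgroup Cfsg H14 H98 H1.Gold H31.S2 H85.FZ H49.D8 H85.DZ
open H49.NW hiding e32 NQ WQ Wr WrN WrW JobN1 JobN2 JobN3 JobN4 JobW1 JobW2 JobW3 JobW4 JobW5 ne_of wa_of noD_tb
open H85.DY.NW

universe u

namespace Dat
open H58.NW.Dat

variable (D : Dat)

end Dat

variable {G : Type u} [Group G] [Finite G] {t v s u a σ ρ g : G} {z : ℕ → G} {D : Dat}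

theorem wr_of (h : H85.DY.Base t v s u a σ ρ) (c : D.Chk) (sq : ∀ s, D.T.sq s = []) (P : Pres D.T z)
    (I : Ind z D.T.n) (A : Act z σ D.L D.f) (B : Act z ρ D.L' D.f') (ea : z 0 = a) (eu : z 1 = u)
    (ev : z D.k = v) (es : z (D.k + 2) = s) (et : z (D.k + 4) = t)
    (EAt : H z (D.k + 2) ⊓ cen1 t = cl [a, u, v]) (sy : IsSyl 2 (H z (D.k + 5)) (nor (H z (D.k + 2))))
    (noD : ∀ g ∈ H z (D.k + 4), ¬ IsConj t g)
    (cls : ∀ g, t * g ∈ H z (D.k + 4) → g * g = 1 → ∃ w ∈ H z (D.k + 4),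
      g = w * t * w⁻¹ ∨ (g = w * (t * a) * w⁻¹ ∧ a * (t * g) ∈ H (nx D z) 6)) :
    Wr t v s u a σ ρ (nx D z) (H z D.k) ∧ H z D.k ⊔ H (nx D z) 6 = H z (D.k + 4) := by
  obtain ⟨wf, hn, hk, c1, c2, ⟨c3, c4, c5, c6⟩, c7, c8, c9, c10, c11, c12⟩ := c
  have wR : tbR.wf = true := by decide
  have P' : Pres tbR (nx D z) := P.derive tbR D.ws c1
  have mem : ∀ e ∈ H z D.k, ∃ w ∈ subs D.k, e = W z w := fun e he => P.mem wf (by omega) he
  have e23 : nx D z 2 * nx D z 3 = z D.k := by simpa [app_pair, nx] using P.W_eq c4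
  have e45 : nx D z 4 * nx D z 5 = z (D.k + 2) := by simpa [app_pair, nx] using P.W_eq c5
  have eY : ∀ j < 2, ∀ M : Subgroup G, H z D.k ≤ M → nx D z (2 + 2 * j) ∈ M → z (D.k + 1 + 2 * j) ∈ M :=
    fun j hj M h1 h2 => by
      obtain ⟨w, hw, e⟩ := (c10 j hj).2.2.2.2.2.2.2
      have := P.W_eq e
      rw [W_cons, W_nil, mul_one, W_append] at this
      exact this ▸ mul_mem h2 (h1 (W_mem (subs_lt hw)))
  have mA : ∀ M : Subgroup G, H z D.k ≤ M → nx D z 2 ∈ M → nx D z 3 ∈ M → H z (D.k + 2) ≤ M :=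
    fun M h1 h2 h3 => by
      rw [H_succ, H_succ]
      exact sup_le (sup_le h1 (zpowers_le.2 (e23 ▸ mul_mem h2 h3))) (zpowers_le.2 (eY 0 two_pos M h1 h2))
  have EA : H z D.k ⊔ cl [nx D z 2, nx D z 3] = H z (D.k + 2) := le_antisymm
    (sup_le (H_mono (by omega)) (cl_le.2 (by
      simpa using ⟨W_mem (c10 0 two_pos).2.1, W_mem (c10 1 one_lt_two).2.1⟩)))
    (mA _ le_sup_left (mem_sup_right (mem_cl (by simp))) (mem_sup_right (mem_cl (by simp))))
  have LB : ∀ {M : Subgroup G}, (∀ r ∈ D.LB, z r ∈ M) → ∀ j < 2, nx D z (j + 4) ∈ M := fun hM j hj =>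
    W_mem_of fun r hr => hM r (of_decide_eq_true (List.all_eq_true.1 (c10 j hj).2.2.1 r hr))
  have EU : H z D.k ⊔ H (nx D z) 6 = H z (D.k + 4) := by
    refine le_antisymm (sup_le (H_mono (by omega)) (H_le fun i hi => ?_)) ?_
    · rcases (by omega : i < 2 ∨ (i - 2 < 2 ∧ i = i - 2 + 2) ∨ (i - 4 < 2 ∧ i = i - 4 + 4)) with
        k | ⟨k, e⟩ | ⟨k, e⟩
      · exact H_mono (by omega) (W_mem (c10 i k).1)
      · exact e ▸ H_mono (by omega) (W_mem (c10 _ k).2.1)
      · exact e ▸ LB (fun r hr => x_mem (by simp [Dat.LB] at hr; omega)) _ k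
    · have m : ∀ i < 6, nx D z i ∈ H z D.k ⊔ H (nx D z) 6 := fun i hi => mem_sup_right (x_mem hi)
      rw [H_succ, H_succ]
      exact sup_le (sup_le (mA _ le_sup_left (m 2 (by omega)) (m 3 (by omega)))
        (zpowers_le.2 (e45 ▸ mul_mem (m 4 (by omega)) (m 5 (by omega)))))
        (zpowers_le.2 (eY 1 one_lt_two _ le_sup_left (m 4 (by omega))))
  refine ⟨{ h with
    pres := P'
    ind := P.ind_derive I P' wR (fun _ _ => rfl) c2
    et := by simpa [et, nx] using P.W_eq c3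
    ev := e23.trans ev
    es := e45.trans es
    ez := by simpa [app_pair, ea, eu, nx] using P.W_eq c6
    Z2 := fun e he => by
      obtain ⟨w, hw, rfl⟩ := mem e he
      simpa using P.W_eq (c7 w hw).1
    Zc := H_le fun i hi => mem_cen_iff.2 fun y hy => (mem_cen1.1 (H_le (K := cen1 (z i)) (fun j hj =>
      mem_cen1.2 (by simpa [nx] using (P.W_eq ((c8 i hi).1 j hj)).symm)) hy)).symm
    ΦZ := H_le fun i hi => W_mem (c10 i hi).1
    aZ := ea ▸ x_mem (by omega)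
    ZD := fun e he => by
      obtain ⟨w, hw, rfl⟩ := mem e he.1
      obtain ⟨w', hw', e⟩ := P'.mem wR (show 6 ≤ 7 by decide) he.2
      obtain ⟨c, hc, k⟩ := (c7 w hw).2.2.1 w' hw' (P.eqv I (e.trans (W_nx hw')))
      exact mem_nx P hc k
    aD := fun k => by
      obtain ⟨w, hw, e⟩ := P'.mem wR (show 6 ≤ 7 by decide) k
      exact P.ne I (c9 w hw) (by simpa [ea, W_nx hw] using e)
    tZ := mem_normalizer_fintype fun y hy => H_le (K := (H z D.k).comap (MulAut.conj t).toMonoidHom)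
      (fun i hi => by
        have := (P.conj sq (w := [D.k + 4]) (by simp [hn]) [i]).trans (P.W_col _).symm
        rw [W_cons, W_cons, W_nil, mul_one, mul_one, et] at this
        exact this.symm ▸ W_mem (c8 i hi).2 : ∀ i < D.k, t * z i * t⁻¹ ∈ H z D.k) hy
    Zt := fun e he => by
      obtain ⟨w, hw, rfl⟩ := mem e he.1
      refine H_le (fun i hi => ?_) (W_mem ((c7 w hw).2.1 (P.eqv I (by simpa [et] using mem_cen1.1 he.2))))
      interval_cases i <;> exact mem_cl (by simp [ea, eu])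
    EAt := EA ▸ EAt
    syA := by rw [EA, EU, ← et, ← H_succ]; exact sy
    σA := EA ▸ nor_of_act A c11 (fun r hr => x_mem (List.mem_range.1 hr))
      fun M hM => H_le fun i hi => hM i (List.mem_range.2 hi)
    ρB := nor_of_act B c12 (fun r hr => by
        simp only [Dat.LB, List.mem_append, List.mem_range, List.mem_cons, List.not_mem_nil, or_false] at hr
        rcases hr with k | rfl | rfl
        · exact mem_sup_left (x_mem k)
        · exact e45 ▸ mem_sup_right (mul_mem (mem_cl (by simp)) (mem_cl (by simp)))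
        · exact eY 1 one_lt_two _ le_sup_left (mem_sup_right (mem_cl (by simp))))
      fun M hM => sup_le (H_le fun i hi => hM i (by simp [Dat.LB, hi]))
        (cl_le.2 (by simpa using ⟨LB hM 0 two_pos, LB hM 1 one_lt_two⟩))
    noD := EU ▸ noD
    cls := EU ▸ cls
    fz := fun i hi => by
      interval_cases i
      exacts [isConj_iff.2 ⟨σ, (A.w (c10 0 two_pos).2.2.2.1).trans (P.W_eq (c10 0 two_pos).2.2.2.2.2.1)⟩,
        isConj_iff.2 ⟨σ, (A.w (c10 1 one_lt_two).2.2.2.1).trans (P.W_eq (c10 1 one_lt_two).2.2.2.2.2.1)⟩,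
        isConj_iff.2 ⟨ρ, (B.w (c10 0 two_pos).2.2.2.2.1).trans (P.W_eq (c10 0 two_pos).2.2.2.2.2.2.1)⟩,
        isConj_iff.2 ⟨ρ, (B.w (c10 1 one_lt_two).2.2.2.2.1).trans
          (P.W_eq (c10 1 one_lt_two).2.2.2.2.2.2.1)⟩]
    fus := fun i hi e he => by
      obtain ⟨w, hw, rfl⟩ := mem e he
      obtain ⟨ms, -, k1, k2⟩ := (c7 w hw).2.2.2 i hi
      exact ⟨_, W_mem k1, W_append z _ w ▸ run_conj P sq A B ms _, fun k =>
        (k2 (k.imp (P.eqv I) (P.eqv I))).imp P.W_eq P.W_eq⟩ }, EU⟩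

theorem jobN3 : H85.DY.NW.JobN3.{u} := by
  intro G _ _ t v s u a σ ρ y Y X h
  have P : Pres dN.T _ := h.pres
  obtain ⟨k, -⟩ := wr_of (D := dN) h.toBase keyN.1 (fun _ => rfl) P h.ind h.aσ h.aρ rfl rfl rfl rfl rfl
    (by rw [H_val]; exact h.EAt) (by rw [H_val _ (dN.k + 2)]; exact h.naA) (fun _ => h.noD) fun g hg gg => by
      obtain ⟨w, hw, e⟩ := h.cls hg gg
      refine ⟨w, hw, e.imp_right fun e => ⟨e, ?_⟩⟩
      obtain ⟨w, hw', rfl⟩ := P.mem h.wf (show 7 ≤ 8 by decide) hw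
      obtain ⟨c, hc, k⟩ := keyN.2.1 w hw'
      have := mem_nx P hc k
      rw [W_append, ← P.conj (fun _ => rfl) (List.all_eq_true.2 fun r hr => decide_eq_true
        ((nf_lt (nf_of_mem_subs hw') r hr).trans (by decide)))] at this
      simpa [e, mul_assoc] using this
  refine ⟨_, _, k, h.narA, h.narB, fun e he => ?_⟩
  obtain ⟨w, hw, rfl⟩ := P.mem h.wf (show 3 ≤ 8 by decide) he
  obtain ⟨c, hc, k⟩ := keyN.2.2 w hw
  exact k.imp (mem_nx P hc) (mem_nx P hc)

theorem jobW3 : H85.DY.NW.JobW3.{u} := by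
  intro G _ _ t v s u a σ ρ p q Y X h
  have P : Pres dW.T _ := h.pres
  obtain ⟨k, e⟩ := wr_of (D := dW) h.toBase keyW.1 (fun _ => rfl) P h.ind h.aσ h.aρ rfl rfl rfl rfl rfl
    (by rw [H_val]; exact h.EAt) (by rw [H_val _ (dW.k + 2)]; exact h.naA) (fun _ => h.noD)
    fun g hg gg => (h.cls hg gg).imp fun w k => ⟨k.1, .inl k.2⟩
  refine ⟨_, _, k, x_mem (x := val [a, u, p, q, v, Y, s, X, t]) (i := 3) (by decide), ?_, ?_,
    fun e he => ?_, fun e he k => ?_, e ▸ P.card h.wf (by decide) (h.ind.mono (by decide))⟩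
  · rw [inv_eq_of_mul_eq_one_right h.tt]
    simpa [mul_assoc] using P.W_eq (w := [8, 3, 8]) (w' := [3, 0]) (by decide +kernel)
  · have := P.W_eq (w := [3, 3, 2]) (w' := [2]) (by decide +kernel)
    have k := h.aσ 2 (by simp)
    rw [show q * nx dW (val [a, u, p, q, v, Y, s, X, t]) 0 = p from this.trans (mul_one p)]
    simpa [app, sV] using k
  · obtain ⟨w, hw, rfl⟩ := P.mem h.wf (show 4 ≤ 9 by decide) he
    obtain ⟨c, hc, k⟩ := (keyW.2 w hw).1
    exact k.imp (mem_nx P hc) (Or.imp (mem_nx P hc)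
      (Or.imp (mem_nx P hc) fun k => by simpa [mul_assoc] using mem_nx P hc k))
  · obtain ⟨w, hw, rfl⟩ := P.mem h.wf (show 4 ≤ 9 by decide) he
    obtain ⟨c, hc, e⟩ := P.mem h.wf (show 4 ≤ 9 by decide) k
    exact ((keyW.2 w hw).2.2 c hc (P.eqv h.ind ((h.aρ.w (keyW.2 w hw).2.1).symm.trans e))).imp P.W_eq
      (Or.imp (fun k => by simpa using P.W_eq k) (Or.imp (fun k => by simpa using P.W_eq k)
        fun k => by simpa using P.W_eq k))

end H85.DY.N58
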