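import Cfsg.Agent.H57.DZW
import Cfsg.Agent.H85.DYN

/-! DY: the wide data (port of `H57/DZW`). -/

set_option autoImplicit false
set_option linter.unusedSectionVars false
set_option linter.unusedSimpArgs false

namespace H85.DY.C57
open H57.DZ

open Subgroup Cfsg H14 H98 H1.Gold H31.S2 H85.FZ H49.D8 H85.DZ H62.FZ
open H34.FZ (Pd fp fq SR sR sI fR fT ty)

universe u

variable {G : Type u} [Group G] [Finite G] {t v s u a σ ρ p q y d g x c n : G} {P Q R : Subgroup G}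

/-- An element of `N₀` that maps `t` to `t u` fixes `u`. -/
theorem fix_u (h : H85.DY.Base t v s u a σ ρ) (hg : g ∈ N0 t v s u a) (e : g * t * g⁻¹ = t * u) :
    g * u * g⁻¹ = u := by
  have k := (nA_fix h.toLc (tw (σtu h.A) e)
    (mul_mem (mul_mem (inv_mem hg.1.2) (hnorA h.A)) hg.1.2)).1
  obtain ⟨w, hw, e1⟩ := h.conj_zw hg.1.1 (c := [1]) (by decide)
  simp only [W_cons, W_nil, val_zero, val_succ, mul_one] at e1
  obtain ⟨k1, k2⟩ := (by decide +kernel : ∀ w ∈ ZW, w.all (· ∈ [0, 1, 2, 3]) = true ∧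
    (tbT.eqv (app sg w) w = true → w = [] ∨ w = [1] ∨ w = [3] ∨ w = [3, 1])) w hw
  rcases k2 (h.pres.eqv h.ind (by
      rw [← (hact h.A [s]).w k1, ← e1]
      nth_rw 2 [← k]
      group)) with rfl | rfl | rfl | rfl <;>
    simp only [W_cons, W_nil, val_zero, val_succ, mul_one] at e1
  · exact absurd (conj_eq_one_iff.1 e1) fun e =>
      h.pres.ne h.ind (w := [1]) (w' := []) rfl (by simpa using e)
  · exact e1
  · exact absurd (isConj_iff.2 ⟨g, e1⟩).symm h.nu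
  · exact absurd ((isConj_iff.2 ⟨g, e⟩).trans (isConj_iff.2 ⟨g, e1⟩).symm) h.nu

theorem n0_t4 (h : H85.DY.Base t v s u a σ ρ) (hg : g ∈ nor (cl [a, u, v, t, s])) :
    g * t * g⁻¹ = t ∨ g * t * g⁻¹ = t * a ∨ g * t * g⁻¹ = t * u ∨ g * t * g⁻¹ = t * (u * a) := by
  obtain ⟨w, hw, e⟩ := h.conj_zw hg (c := [3]) (by decide)
  have c : IsConj t (W (val [a, u, v, t, s]) w) := isConj_iff.2 ⟨g, by simpa using e⟩
  simp only [ZW, List.mem_cons, List.not_mem_nil, or_false] at hw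
  rcases hw with rfl | rfl | rfl | rfl | rfl | rfl | rfl | rfl <;>
    simp only [W_cons, W_nil, val_zero, val_succ, mul_one] at c e
  · exact (h.notD (one_mem _) c).elim
  · exact (h.na c).elim
  · exact (h.nu c).elim
  · exact (h.toLoc.nz c).elim
  all_goals simp [e]

/-- Decomposition along `p` and `q`. -/
theorem split4 (h : H85.DY.Base t v s u a σ ρ) (hg : g ∈ nor (cl [a, u, v, t, s]))
    (hp : p * t * p⁻¹ = t * u) (pa : p * a * p⁻¹ = a) (hq : q * t * q⁻¹ = t * a) :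
    ∃ r, (r = 1 ∨ r = p ∨ r = q ∨ r = p * q) ∧ r⁻¹ * g * t = t * (r⁻¹ * g) := by
  rcases n0_t4 h hg with e | e | e | e
  · exact ⟨1, by simp, back (by rw [e]; simp)⟩
  · exact ⟨q, by simp, back (by rw [e, hq])⟩
  · exact ⟨p, by simp, back (by rw [e, hp])⟩
  · refine ⟨p * q, by simp, back ?_⟩
    rw [e, show p * q * t * (p * q)⁻¹ = p * (q * t * q⁻¹) * p⁻¹ by group, hq, ← conj_mul, hp, pa,
      mul_assoc]

theorem n0_u (h : H85.DY.Wid t v s u a σ ρ) (hn : n ∈ N0 t v s u a) : n * u * n⁻¹ = u := by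
  obtain ⟨p, hp, e⟩ := h.exu
  obtain ⟨q, hq, e'⟩ := h.exa
  have pu := fix_u h.toBase hp e
  have qu : q * u * q⁻¹ = u := fix_a h.toTr.swap (cl_swap a u v t s ▸ hq.1.1)
    (fix_u h.toBase.swap (N0_swap t v s u a ▸ hq) e')
  obtain ⟨r, hr, k⟩ := split4 h.toBase hn.1.1 e (fix_a h.toTr hp.1.1 pu) e'
  have m : r ∈ N0 t v s u a ⊓ cen1 u := by
    have p1 : p ∈ N0 t v s u a ⊓ cen1 u := ⟨hp, mem_cen1.2 (mul_inv_eq_iff_eq_mul.1 pu)⟩
    have q1 : q ∈ N0 t v s u a ⊓ cen1 u := ⟨hq, mem_cen1.2 (mul_inv_eq_iff_eq_mul.1 qu)⟩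
    rcases hr with rfl | rfl | rfl | rfl
    exacts [one_mem _, p1, q1, mul_mem p1 q1]
  have := mem_cen1.2 (mul_inv_eq_iff_eq_mul.1
    (nA_fix h.toLc k (mul_mem (inv_mem m.1.1.2) hn.1.2)).1)
  exact mul_inv_eq_iff_eq_mul.2 (mem_cen1.1 ((mul_mem_cancel_left (inv_mem (mem_inf.1 m).2)).1 this))

/-- `D ∩ A = t A₀`. -/
theorem memD (h : H85.DY.Wid t v s u a σ ρ) (hx : x ∈ cl [a, u, v, t]) :
    x ∈ cl [a, u, v] ∨ IsConj t x := by
  obtain ⟨p, hp, e⟩ := h.exu
  obtain ⟨q, hq, e'⟩ := h.exa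
  obtain ⟨w, hw, rfl⟩ := h.pres.mem_cl rfl 4 (by decide) hx
  refine ((by decide +kernel : ∀ w ∈ subs 4, w.all (· < 3) = true ∨ ∃ f ∈ [[], sg, sgi],
    ∃ c ∈ [[3], [3, 0], [3, 1], [3, 1, 0]], c.all (· ∈ [0, 1, 2, 3]) = true ∧
      tbT.same (app f c) w = true) w hw).imp (W_mem_cl [a, u, v, t, s] 3) ?_
  rintro ⟨f, hf, c, hc, k1, k2⟩
  have c1 : IsConj t (W (val [a, u, v, t, s]) c) := by
    simp only [List.mem_cons, List.not_mem_nil, or_false] at hc
    rcases hc with rfl | rfl | rfl | rfl <;>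
      simp only [W_cons, W_nil, val_zero, val_succ, mul_one]
    · exact IsConj.refl t
    · exact isConj_iff.2 ⟨q, e'⟩
    · exact isConj_iff.2 ⟨p, e⟩
    · refine isConj_iff.2 ⟨p * q, ?_⟩
      rw [show p * q * t * (p * q)⁻¹ = p * (q * t * q⁻¹) * p⁻¹ by group, e', ← conj_mul, e,
        fix_a h.toTr hp.1.1 (n0_u h hp), mul_assoc]
  rw [← h.pres.W_eq k2]
  simp only [List.mem_cons, List.not_mem_nil, or_false] at hf
  rcases hf with rfl | rfl | rfl
  · simpa [app] using c1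
  · exact c1.trans (isConj_iff.2 ⟨_, (hact h.A [s]).w k1⟩)
  · exact c1.trans (isConj_iff.2 ⟨_, (hacti h.A h.toTr [s]).w k1⟩)

theorem nor0 (h : H85.DY.Wid t v s u a σ ρ) (hn : n ∈ nor (cl [a, u, v, t])) :
    n ∈ nor (cl [a, u, v]) :=
  mem_normalizer_fintype fun x hx =>
    (memD h (conj_mem_of_mem_normalizer hn (cl_mono (l := [a, u, v]) (by simp) hx))).resolve_right
      fun c => h.toBase.notD hx (c.trans (isConj_iff.2 ⟨n, rfl⟩).symm)

theorem exTU (h : H85.DY.Wid t v s u a σ ρ) (hP : IsSyl 2 P (N0 t v s u a)) :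
    ∃ p ∈ P, p * t * p⁻¹ = t * u := by
  obtain ⟨g, hg, e⟩ := h.exu
  obtain ⟨m, hm, n, hn, k⟩ := ex2 hP hg
  refine ⟨_, k, ?_⟩
  have y2 : Commute (g ^ 2) t := by
    rw [Commute, SemiconjBy, ← mul_inv_eq_iff_eq_mul, pow_two,
      show g * g * t * (g * g)⁻¹ = g * (g * t * g⁻¹) * g⁻¹ by group, e, ← conj_mul, e, n0_u h hg,
      mul_assoc, h.uu, mul_one]
  have ym : g ^ m * t * (g ^ m)⁻¹ = t * u := by
    rw [show m = 1 + 2 * (m / 2) by omega, pow_add, pow_mul, pow_one, mul_assoc g,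
      (y2.pow_left _).eq, ← e]
    group
  have hm0 : g ^ m ∈ N0 t v s u a := pow_mem hg m
  generalize g ^ m = y at ym hm0
  have yu := n0_u h hm0
  have ya := fix_a h.toTr hm0.1.1 yu
  obtain ⟨c, c1, c2, c3⟩ : ∃ c, n⁻¹ * t * n⁻¹⁻¹ = t * c ∧ y * c * y⁻¹ = c ∧ u * c = c * u := by
    rcases n0_t4 h.toBase (inv_mem hn.1.1) with k | k | k | k
    · exact ⟨1, by rw [k, mul_one], by simp, by simp⟩
    · exact ⟨a, k, ya, h.au.symm⟩
    · exact ⟨u, k, yu, rfl⟩
    · exact ⟨u * a, k, by rw [← conj_mul, yu, ya], by rw [mul_assoc, h.au]⟩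
  calc _ = n * (y * (n⁻¹ * t * n⁻¹⁻¹) * y⁻¹) * n⁻¹ := by group
    _ = n * (t * c) * n⁻¹ * (n * u * n⁻¹) := by
      rw [c1, show y * (t * c) * y⁻¹ = y * t * y⁻¹ * (y * c * y⁻¹) by group, ym, c2, mul_assoc t, c3]
      group
    _ = _ := by rw [← c1, n0_u h hn]; group

/-- The action of `p` on `T`. -/
theorem exAct (h : H85.DY.Wid t v s u a σ ρ) (hP : IsSyl 2 P (N0 t v s u a))
    (hT : cl [a, u, v, t, s] ≤ P) :
    ∃ p ∈ P, ∃ β, Act (val [a, u, v, t, s]) p [0, 1, 2, 3, 4] (fp β) := by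
  obtain ⟨p, pP, e⟩ := exTU h hP
  have hp := hP.le pP
  have pu := n0_u h hp
  have pa := fix_a h.toTr hp.1.1 pu
  have pz := h.gz hp.1.1
  obtain ⟨i, ei⟩ : ∃ i, p * v * p⁻¹ = W (val [a, u, v, t, s]) (2 :: ow i [1, 0]) := by
    have k := (nA_fix h.toLc (tw (σtu h.A) e)
      (mul_mem (mul_mem (inv_mem hp.1.2) (hnorA h.A)) hp.1.2)).2.2
    have e1 : p⁻¹ * σ * p * (u * a) * (p⁻¹ * σ * p)⁻¹ = p⁻¹ * v * p := by
      rw [← σz h.toTr h.A]
      nth_rw 2 [← pz]
      group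
    rw [e1] at k
    rcases k with k | k | k
    · exact ⟨false, by nth_rw 1 [← k]; simp [ow, mul_assoc]⟩
    · refine absurd ?_ (h.pres.ne h.ind (w := [2]) (w' := [1, 0]) rfl)
      simp only [W_cons, W_nil, val_zero, val_succ, mul_one]
      rw [← pz, ← k]; group
    · refine ⟨true, ?_⟩
      have : p * (v * (u * a)) * p⁻¹ = v := by rw [← k]; group
      rw [← conj_mul, pz] at this
      simp only [ow, cond_true, W_cons, W_nil, val_zero, val_succ, mul_one]
      nth_rw 2 [← this]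
      rw [mul_assoc _ (u * a), zz h.toTr, mul_one]
  obtain ⟨j, β, ej⟩ : ∃ j β, p * s * p⁻¹ =
      W (val [a, u, v, t, s]) (4 :: (ow j [1, 0] ++ ow β [0])) := by
    have n0 := nor0 h.swap hp.2
    obtain ⟨w, hw, e1⟩ := h.toTr.swap.pres.mem_cl rfl 3 (by decide)
      (conj_mem_of_mem_normalizer n0 (mem_cl (l := [u, a, s]) (y := s) (by simp)))
    rcases (by decide +kernel : ∀ w ∈ subs 3, w.all (· ∈ [0, 1, 3]) = true ∨
      w = [2] ∨ w = [2, 0] ∨ w = [2, 1] ∨ w = [2, 1, 0]) w hw with k | rfl | rfl | rfl | rfl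
    · refine (h.s_notMem ((mem_normalizer_iff.1 hp.1.2 s).2 ?_)).elim
      rw [e1]
      refine W_mem_of fun r hr => mem_cl ?_
      have := of_decide_eq_true (List.all_eq_true.1 k r hr)
      simp only [List.mem_cons, List.not_mem_nil, or_false] at this
      rcases this with rfl | rfl | rfl <;> simp
    · exact ⟨false, false, by simpa [ow] using e1⟩
    · exact ⟨true, true, by simpa [ow, h.aa] using e1⟩
    · exact ⟨false, true, by simpa [ow] using e1⟩
    · exact ⟨true, false, by simpa [ow, h.au] using e1⟩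
  have ay : Act (val [a, u, v, t, s]) p [0, 1, 2, 3, 4]
      [(2, 2 :: ow i [1, 0]), (3, [3, 1]), (4, 4 :: (ow j [1, 0] ++ ow β [0]))] := by
    simp only [Act, List.mem_cons, List.not_mem_nil, or_false, forall_eq_or_imp, forall_eq]
    exact ⟨by simpa [app] using pa, by simpa [app] using pu, by simpa [app] using ei,
      by simpa [app] using e, by simpa [app] using ej⟩
  obtain ⟨w, hw, γ, k1, k2⟩ := (by decide +kernel : ∀ i j β, ∃ w ∈ subs 5, ∃ γ,
    ok tbT [0, 1, 2, 3, 4] [0, 1, 2, 3, 4] (inn [0, 1, 2, 3, 4] w) = true ∧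
    agree tbT [0, 1, 2, 3, 4] (cp tbT [0, 1, 2, 3, 4]
      [(2, 2 :: ow i [1, 0]), (3, [3, 1]), (4, 4 :: (ow j [1, 0] ++ ow β [0]))]
      (inn [0, 1, 2, 3, 4] w)) (fp γ) = true) i j β
  have hw5 : w.all (· < 5) = true := List.all_eq_true.2 fun r hr =>
    decide_eq_true (nf_lt (nf_of_mem_subs hw) r hr)
  exact ⟨_, mul_mem pP (hT (W_mem_cl [a, u, v, t, s] 5 hw5)), γ,
    act_agree h.pres (act_cp h.pres ay (act_inn h.pres (fun _ => rfl) hw5 _) k1) k2⟩

theorem exPd {σ' : G} (h : H85.DY.Wid t v s u a σ ρ) (hP : IsSyl 2 P (N0 t v s u a))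
    (hT : cl [a, u, v, t, s] ≤ P) (S : Sd t v s u a σ' P R) :
    ∃ p ∈ P, ∃ β, Pd t v s u a σ' p β := by
  have P5 := h.pres
  have I := h.ind
  have aσ := hact S.half [s]
  obtain ⟨p, pP, β, A, pp⟩ : ∃ p ∈ P, ∃ β,
      Act (val [a, u, v, t, s]) p [0, 1, 2, 3, 4] (fp β) ∧ p * p = 1 := by
    obtain ⟨p, pP, β, A⟩ := exAct h hP hT
    have ai := act_inv P5 A (by cases β <;> rfl) (by cases β <;> rfl)
    have a2 := act_agree P5 (act_cp P5 A A (by cases β <;> rfl)) (f' := []) (by cases β <;> rfl)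
    have m := mul_mem pP pP
    obtain ⟨w, hw, e⟩ := P5.mem_cl rfl 5 le_rfl (two h.toLc hP.isPGroup hT m
      (mul_inv_eq_iff_eq_mul.1 (by simpa [app] using a2 3 (by decide))) (hP.le m).1.2)
    have k : ∀ r ∈ [0, 1, 2, 3, 4], tbT.eqv (w ++ [r]) (r :: w) = true := fun r hr => P5.eqv I (by
      rw [W_append, W_cons _ r w, ← e]
      exact mul_inv_eq_iff_eq_mul.1 (by simpa [app] using a2 r hr))
    obtain ⟨c, hc, ec⟩ := exC h.toLc S pP A
    have k1 := (by decide +kernel : ∀ c ∈ subs 4, c.all (· ∈ [0, 1, 2, 3, 4]) = true) c hc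
    have k2 := (by decide +kernel : ∀ c ∈ subs 5, c.all (· ∈ [0, 1, 2, 3, 4]) = true) w hw
    have hw2 := (by decide +kernel : ∀ β, ∀ w ∈ subs 5, tbT.eqv (w ++ [2]) (2 :: w) = true →
      tbT.eqv (w ++ [4]) (4 :: w) = true → tbT.eqv (app (fp β) w) w = true → w ∈ subs 2) β w hw
      (k 2 (by simp)) (k 4 (by simp)) (P5.eqv I (by rw [← A.w k2, ← e]; group))
    obtain ⟨k4, k5⟩ := (by decide +kernel : ∀ β, ∀ c ∈ subs 4, ∀ w ∈ subs 2,
      w.all (· ∈ [0, 1, 2, 3]) = true ∧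
        (tbT.eqv (app sg w) (w ++ (app (fp β) c ++ c)) = true → w = [] ∨ w = [1])) β c hc w hw2
    rcases k5 (P5.eqv I (by
      rw [← aσ.w k4, W_append, W_append, ← ai.w k1, ← e, ← conj_mul, ec]; group)) with rfl | rfl
    · exact ⟨p, pP, β, A, e⟩
    · refine ⟨p * W (val [a, u, v, t, s]) [3], mul_mem pP (hT (W_mem_cl [a, u, v, t, s] 5 rfl)), β,
        act_cen h.toTr A (by decide), ?_⟩
      have e3 := ai 3 (by simp)
      simp only [app, fp, List.flatMap_cons, List.flatMap_nil, List.find?, Nat.reduceBEq,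
        Option.map_some, Option.getD_some, List.append_nil, W_cons, W_nil, val_zero, val_succ,
        mul_one] at e e3 ⊢
      calc p * t * (p * t) = p * p * (p⁻¹ * t * p⁻¹⁻¹) * t := by group
        _ = 1 := by
          rw [e, e3]
          simpa [mul_assoc] using P5.W_eq (w := [1, 3, 1, 3]) (w' := []) rfl
  have ai := A.inv pp
  have pR := S.mem p pP (fp_tv A h.toTr)
  obtain ⟨c, hc, ec⟩ := exC h.toLc S pP A
  have as := act_s h.toTr [s]
  have sp : s * p * s⁻¹ = p * W (val [a, u, v, t, s]) (ow β [0]) := by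
    have e4 := ai 4 (by simp)
    have : s * p * s⁻¹ = p * (p⁻¹ * s * p⁻¹⁻¹) * s⁻¹ := by group
    rw [this]
    change p * (p⁻¹ * val [a, u, v, t, s] 4 * p⁻¹⁻¹) * s⁻¹ = _
    rw [e4, mul_assoc, mul_right_inj, mul_inv_eq_iff_eq_mul]
    cases β
    · simp [app, fp, ow]
    · simp [app, fp, ow, h.sa]
  obtain ⟨k1, k2, k3, k4, k5, k6⟩ := (by decide +kernel : ∀ β, ∀ c ∈ subs 4,
    c.all (· ∈ [0, 1, 2, 3]) = true ∧ c.all (· ∈ [0, 1, 2, 3, 4]) = true ∧
    (app sg c).all (· ∈ [0, 1, 2, 3]) = true ∧ (ow β [0]).all (· ∈ [0, 1, 2, 3]) = true ∧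
    (app [(2, [2, 1, 0])] c).all (· ∈ [0, 1, 2, 3]) = true ∧
    (tbT.eqv (app (fp β) c ++ c) [] = true → tbT.eqv (c ++ app sg c ++ app sg (app sg c)) [] = true →
      tbT.eqv (c ++ app sg (ow β [0]) ++ app sg (app [(2, [2, 1, 0])] c)) (ow β [0]) = true →
      ∃ i, (ow i [1, 0]).all (· ∈ [0, 1, 2, 3]) = true ∧
        tbT.same (c ++ app sg (ow i [1, 0])) (ow i [1, 0] ++ ow β [1, 0]) = true)) β c hc
  obtain ⟨i, l1, l2⟩ := k6
    (P5.eqv I (by
      rw [W_append, ← ai.w k2, W_nil]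
      calc _ = p⁻¹ * p⁻¹ * (p * W (val [a, u, v, t, s]) c * (p * W (val [a, u, v, t, s]) c)) := by
            group
        _ = 1 := by rw [← ec, conj_mul, ← mul_inv_rev, pp]; simp))
    (P5.eqv I (by
      rw [W_append, W_append, ← aσ.w k3, ← aσ.w k1, W_nil]
      have e1 := mem_cen_iff.1 S.σ3 p pR
      have e2 : W (val [a, u, v, t, s]) c = p⁻¹ * (σ' * p * σ'⁻¹) := by rw [ec, inv_mul_cancel_left]
      rw [e2]
      calc _ = p⁻¹ * (σ' * σ' * σ' * p) * (σ' * σ' * σ')⁻¹ := by group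
        _ = 1 := by rw [e1]; group))
    (P5.eqv I (by
      rw [W_append, W_append, ← aσ.w k5, ← aσ.w k4, ← as.w k1]
      have si : s⁻¹ = s := inv_eq_of_mul_eq_one_right h.ss
      have e1 : σ' * s * σ' = s := by rw [mul_assoc, ← mul_inv_cancel_right (s * σ') s, S.σs, si]; group
      have e2 : W (val [a, u, v, t, s]) c = p⁻¹ * (σ' * p * σ'⁻¹) := by rw [ec, inv_mul_cancel_left]
      have e3 : W (val [a, u, v, t, s]) (ow β [0]) = p⁻¹ * (s * p * s⁻¹) := by
        rw [sp, inv_mul_cancel_left]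
      rw [e2, e3]
      calc _ = p⁻¹ * (σ' * s * σ' * p * (σ' * s * σ')⁻¹) := by group
        _ = _ := by rw [e1]))
  have hz : ow i [1, 0] ∈ ZW := by cases i <;> decide
  have A' := act_cen h.toTr A hz
  have e5 : σ' * (p * W (val [a, u, v, t, s]) (ow i [1, 0])) * σ'⁻¹ =
      p * W (val [a, u, v, t, s]) (ow i [1, 0]) * W (val [a, u, v, t, s]) (ow β [1, 0]) := by
    rw [← conj_mul, ec, aσ.w l1, mul_assoc, mul_assoc, ← W_append, ← W_append, P5.W_eq l2]
  have e6 : p * W (val [a, u, v, t, s]) (ow i [1, 0]) * (p * W (val [a, u, v, t, s]) (ow i [1, 0])) =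
      1 := by
    calc _ = p * p * (p⁻¹ * W (val [a, u, v, t, s]) (ow i [1, 0]) * p⁻¹⁻¹ *
          W (val [a, u, v, t, s]) (ow i [1, 0])) := by group
      _ = 1 := by
        rw [pp, one_mul, ai.w (by cases i <;> rfl), ← W_append]
        exact P5.W_eq (w' := []) (by cases i <;> cases β <;> rfl)
  have m := mul_mem pP (hT (W_mem_l (l := [a, u, v, t, s]) (fun _ => mem_cl) (ow i [1, 0])))
  generalize p * W (val [a, u, v, t, s]) (ow i [1, 0]) = p' at A' e5 e6 m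
  have fl : ∀ r ∈ [0, 1, 2, 3, 4], val [a, u, v, t, s] r * p' =
      p' * W (val [a, u, v, t, s]) (app (fp β) [r]) := fun r hr => by
    rw [← A'.inv e6 r hr]; group
  exact ⟨p', m, β, e6, by simpa [app, fp] using fl 0 (by simp),
    by simpa [app, fp] using fl 1 (by simp), by simpa [app, fp] using fl 2 (by simp),
    by simpa [app, fp] using fl 3 (by simp),
    by cases β <;> simpa [app, fp, ow] using fl 4 (by simp),
    by cases β <;> simpa [ow] using e5⟩

theorem exW1 {α β : Bool} (h : H85.DY.Base t v s u a σ ρ) (hp : Pd t v s u a σ p β)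
    (hq : Pd t s v a u ρ q α) (hP : IsPGroup 2 P) (hT : cl [a, u, v, t, s] ≤ P) (pP : p ∈ P)
    (qP : q ∈ P) (nA : P ≤ nor (cl [a, u, v, t])) (nd : Nd t v s u a (cl [a, u, v, t, s, p, q])) :
    ∃ γa γu, H85.DY.W1 t v s u a σ ρ p q α β γa γu := by
  have ap : Act (val [a, u, v, t, s]) p (List.range 5) (fp β) := fun r hr => by
    have hr := List.mem_range.1 hr
    interval_cases r <;> simp only [fp] <;> wsimp
    exacts [H34.FZ.flip hp.pp hp.pa, H34.FZ.flip hp.pp hp.pu, H34.FZ.flip hp.pp hp.pv, H34.FZ.flip hp.pp hp.pt,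
      (H34.FZ.flip hp.pp hp.ps).trans (by cases β <;> simp [ow])]
  have aq : Act (val [a, u, v, t, s]) q (List.range 5) (fq α) := fun r hr => by
    have hr := List.mem_range.1 hr
    interval_cases r <;> simp only [fq] <;> wsimp
    exacts [H34.FZ.flip hq.pp hq.pu, H34.FZ.flip hq.pp hq.pa, (H34.FZ.flip hq.pp hq.ps).trans (by cases α <;> simp [ow]),
      H34.FZ.flip hq.pp hq.pt, H34.FZ.flip hq.pp hq.pv]
  have k1 : ∀ α β, ∀ r ∈ List.range 5, (app (fq α) [r]).all (· ∈ List.range 5) = true ∧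
      (app (fp β) (app (fq α) [r])).all (· ∈ List.range 5) = true ∧
      (app (fq α) (app (fp β) (app (fq α) [r]))).all (· ∈ List.range 5) = true ∧
      tbT.same (app (fp β) (app (fq α) (app (fp β) (app (fq α) [r])))) [r] = true := by
    decide +kernel
  have ac : Act (val [a, u, v, t, s]) (p * q * (p * q)) (List.range 5) [] := fun r hr => by
    obtain ⟨l1, l2, l3, l4⟩ := k1 α β r hr
    have e1 := ap.mul aq (w := [r]) (by simpa using hr) l1
    rw [W_cons, W_nil, mul_one] at e1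
    rw [show app [] [r] = [r] from rfl, ← h.pres.W_eq l4, ← ap.mul aq l2 l3, ← e1]
    group
  have cm : ∀ r < 5, p * q * (p * q) * val [a, u, v, t, s] r = val [a, u, v, t, s] r * (p * q * (p * q)) :=
    fun r hr => mul_inv_eq_iff_eq_mul.1 ((ac r (List.mem_range.2 hr)).trans (by simp [app]))
  have m := mul_mem (mul_mem pP qP) (mul_mem pP qP)
  have hc := two h.toLc hP hT m (cm 3 (by decide)) (nA m)
  obtain ⟨w, hw, e⟩ := h.pres.mem_cl rfl 5 le_rfl hc
  have k2 : ∀ α β, ∀ w ∈ subs 5, w.all (· ∈ List.range 5) = true ∧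
      (app (fq α) w).all (· ∈ List.range 5) = true ∧ (tbT.eqv (w ++ [2]) ([2] ++ w) = true →
      tbT.eqv (w ++ [4]) ([4] ++ w) = true → tbT.eqv (app (fp β) (app (fq α) w)) w = true →
      ∃ γa γu, w = ow γu [1] ++ ow γa [0]) := by decide +kernel
  obtain ⟨l1, l2, l3⟩ := k2 α β w hw
  obtain ⟨γa, γu, rfl⟩ := l3
    (h.pres.eqv h.ind (by rw [W_append, W_append, ← e]; simpa using cm 2 (by decide)))
    (h.pres.eqv h.ind (by rw [W_append, W_append, ← e]; simpa using cm 4 (by decide)))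
    (h.pres.eqv h.ind (by rw [← ap.mul aq l1 l2, ← e]; group))
  refine ⟨γa, γu, h, ⟨fun i hi j hj => ?_, fun i hi => ?_⟩, hp.σp.trans (by cases β <;> simp [ow]),
    hq.σp.trans (by cases α <;> simp [ow, h.au]), nd⟩ <;> change i < 7 at hi
  · interval_cases i <;> interval_cases j <;> simp only [tbW] <;> wsimp
    exacts [h.au, h.av, h.uv, h.ta, h.ut, h.vt, h.sa, h.us, h.vs, h.st.symm, hp.pa, hp.pu, hp.pv,
      hp.pt, hp.ps.trans (by cases β <;> simp [ow]), hq.pu, hq.pa,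
      hq.ps.trans (by cases α <;> simp [ow]), hq.pt, hq.pv, by
        have : W (val [a, u, v, t, s, p, q]) (ow γu [1] ++ ow γa [0]) =
            W (val [a, u, v, t, s]) (ow γu [1] ++ ow γa [0]) := by cases γa <;> cases γu <;> rfl
        rw [this, ← e, ← mul_assoc p, ← mul_assoc p, hp.pp, one_mul, ← mul_assoc, ← mul_assoc,
          hq.pp, one_mul]]
  · interval_cases i <;> simp only [tbW] <;> wsimp
    exacts [h.aa, h.uu, h.vv, h.tt, h.ss, hp.pp, hq.pp]

theorem sideW {α β γa γu : Bool} (h : H85.DY.W1 t v s u a σ ρ p q α β γa γu)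
    (S : Sd t v s u a σ P R) (AR : cl [a, u, v, t] ≤ R) (pR : p ∈ R) (qR : q ∈ R) :
    (bif α then γu == β else (γa ^^ γu) == β) = true ∧
      ((bif α then γa else !(β && γa)) = true → ∃ k, SdW t v s u a σ p q (ty α β γa) k) := by
  have PP := h.pres
  have I := h.ind
  have wf : (tbW α β γa γu).wf = true :=
    (by decide +kernel : ∀ α β γa γu, (tbW α β γa γu).wf = true) _ _ _ _
  set x := val [a, u, v, t, s, p, q] with hx
  have qq : q * q = 1 := PP.sq 6 (show 6 < 7 by decide)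
  have qi : q⁻¹ = q := inv_eq_of_mul_eq_one_right qq
  have a1 : Act x σ SR (sR β) := fun r hr => by
    simp only [SR, List.mem_cons, List.not_mem_nil, or_false] at hr
    rcases hr with rfl | rfl | rfl | rfl | rfl
    iterate 4 exact hact h.A [s, p, q] _ (by simp)
    exact h.σp.trans (by cases β <;> simp [hx, sR, ow, app])
  have k1 : ∀ α β γa γu, ∀ r ∈ SR, (app (sR β) [r]).all (· ∈ SR) = true ∧
      (tbW α β γa γu).same (app (sR β) (app (sR β) [r])) (app (sI β) [r]) = true ∧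
      ((tbW α β γa γu).col ([6] ++ app (sI β) [r] ++ [6])).all (· ∈ SR) = true ∧
      (tbW α β γa γu).same (app (sR β) ((tbW α β γa γu).col ([6] ++ app (sI β) [r] ++ [6])))
        (app (fR α β γa γu) [r]) = true := by decide +kernel
  have s3 : ∀ y ∈ R, σ⁻¹ * y * σ⁻¹⁻¹ = σ * σ * y * (σ * σ)⁻¹ := fun y hy => by
    calc _ = σ⁻¹ * (y * (σ * σ * σ)) * (σ * σ)⁻¹ := by group
      _ = _ := by rw [← mem_cen_iff.1 S.σ3 y hy]; group
  have xR : ∀ r ∈ SR, x r ∈ R := fun r hr => by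
    simp only [SR, List.mem_cons, List.not_mem_nil, or_false] at hr
    rcases hr with rfl | rfl | rfl | rfl | rfl
    iterate 4 exact AR (mem_cl (by simp [hx]))
    exact pR
  have a2 : Act x σ⁻¹ SR (sI β) := fun r hr => by
    obtain ⟨l1, l2, -⟩ := k1 α β γa γu r hr
    have := a1.mul a1 (w := [r]) (by simpa using hr) l1
    rw [W_cons, W_nil, mul_one] at this
    rw [s3 _ (xR r hr), this, PP.W_eq l2]
  have a3 : Act x (σ * q * σ⁻¹) SR (fR α β γa γu) := fun r hr => by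
    obtain ⟨-, -, l1, l2⟩ := k1 α β γa γu r hr
    rw [← PP.W_eq l2, ← a1.w l1, PP.W_col, W_append, W_append, ← a2 r hr]
    simp only [W_cons, W_nil, mul_one, show x 6 = q from rfl, mul_inv_rev, qi, inv_inv, mul_assoc]
  obtain ⟨Y, hY⟩ : ∃ Y, Y = σ * q * σ⁻¹ := ⟨_, rfl⟩
  rw [← hY] at a3
  have YR : Y ∈ R := hY ▸ conj_mem_of_mem_normalizer S.σR qR
  have qσ : σ⁻¹ * q * σ = σ * Y * σ⁻¹ := by
    have := s3 q qR
    rw [inv_inv] at this
    rw [this, hY]; group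
  have YY : Y * Y = 1 := by rw [hY, conj_mul, qq]; simp
  have k2 : ∀ α β γa γu, ∀ r ∈ [0, 1, 2, 3], (app (sI β) [r]).all (· ∈ SR) = true ∧
      (app (fR α β γa γu) (app (sI β) [r])).all (· ∈ SR) = true ∧
      (app (sR β) (app (fR α β γa γu) (app (sI β) [r]))).all (· ∈ SR) = true ∧
      (ow (!α) [5] ++ [6]).all (· < 7) = true ∧
      (tbW α β γa γu).same (ow (!α) [5] ++ [6] ++ app (fR α β γa γu) (app (sR β) (app (fR α β γa γu)
        (app (sI β) [r]))) ++ (ow (!α) [5] ++ [6]).reverse) [r] = true := by decide +kernel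
  have c1 : ∀ r ∈ [0, 1, 2, 3], W x (ow (!α) [5] ++ [6]) * Y * (σ * Y * σ⁻¹) * x r =
      x r * (W x (ow (!α) [5] ++ [6]) * Y * (σ * Y * σ⁻¹)) := fun r hr => by
    obtain ⟨l1, l2, l3, l4, l5⟩ := k2 α β γa γu r hr
    have l6 := PP.W_eq l5
    rw [← PP.conj (fun _ => rfl) l4, ← a3.w l3, ← a1.w l2, ← a3.w l1, ← a2 r (by
      simp only [SR, List.mem_cons] at hr ⊢; tauto), W_cons, W_nil, mul_one] at l6
    rw [← mul_inv_eq_iff_eq_mul]
    refine Eq.trans ?_ l6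
    group
  obtain ⟨w, hw, e⟩ := PP.mem_cl wf 4 (show 4 ≤ 7 by decide)
    (ca2' (g := W x (ow (!α) [5] ++ [6]) * Y * (σ * Y * σ⁻¹)) h.toLc S.two (mul_mem (mul_mem (W_mem_of fun r hr => by
      rcases (by decide : ∀ α, ∀ r ∈ ow (!α) [5] ++ [6], r = 5 ∨ r = 6) α r hr with rfl | rfl
      exacts [pR, qR]) YR)
      (conj_mem_of_mem_normalizer S.σR YR)) (l := [s, p, q]) fun r hr => by
        rw [c1 r hr, mul_inv_cancel_right]; simp [app, hx])
  have pp : W x (ow (!α) [5]) * W x (ow (!α) [5]) = 1 := by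
    cases α
    · simpa [ow] using (show x 5 * x 5 = 1 from PP.sq 5 (show 5 < 7 by decide))
    · simp [ow]
  have he : q * Y * (σ * Y * σ⁻¹) = W x (ow (!α) [5] ++ w) := by
    rw [W_append, ← show _ = W x w from e, W_append]
    simp only [W_cons, W_nil, mul_one, show x 6 = q from rfl, ← mul_assoc, pp, one_mul]
  have k3 : ∀ α β γa γu, ∀ w ∈ subs 4, ∀ e, e = ow (!α) [5] ++ w → e.all (· ∈ SR) = true ∧
      (app (fR α β γa γu) e).all (· < 7) = true ∧
      ((tbW α β γa γu).eqv (app (fT α β γa γu e) [4, 4]) [] = true →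
      (tbW α β γa γu).eqv (app (fT α β γa γu e) [4, 5])
        (app (fT α β γa γu e) (5 :: 4 :: ow β [0])) = true →
      (tbW α β γa γu).eqv (6 :: app (fT α β γa γu e) [6]) (e ++ app (sI β) e) = true →
      (bif α then γu == β else (γa ^^ γu) == β) = true ∧ ((bif α then γa else !(β && γa)) = true →
        ∃ k, (∀ r ∈ List.range 7, (tbW α β γa γu).same (app (fT α β γa γu e) [r])
          (app (fY (ty α β γa) k) [r]) = true) ∧
          (tbW α β γa γu).same (6 :: e) (eY (ty α β γa) k) = true)) := by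
    intro α β γa γu w hw e he
    subst he
    revert α β γa γu w
    decide +kernel
  generalize hw' : ow (!α) [5] ++ w = e' at he
  obtain ⟨l1, l2, l3⟩ := k3 α β γa γu w hw e' hw'.symm
  have sq : s * q = q * s := by simpa [hx, tbW, Tb.of] using PP.cj 6 (show 6 < 7 by decide) 4 (by decide)
  have si : s⁻¹ = s := inv_eq_of_mul_eq_one_right h.ss
  have Yi : Y⁻¹ = Y := inv_eq_of_mul_eq_one_right YY
  have d1 : σ * Y * σ⁻¹ = Y * W x (6 :: e') := by
    rw [W_cons, ← he, show x 6 = q from rfl]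
    simp only [← mul_assoc, mul_assoc Y q q, qq, mul_one, YY, one_mul]
  have d2 : s * Y * s = σ * Y * σ⁻¹ := by
    calc s * Y * s = s * σ * s * (s⁻¹ * q * s) * (s⁻¹ * σ⁻¹ * s) := by rw [hY]; group
      _ = s * σ * s * q * (s * σ * s)⁻¹ := by
        rw [mul_assoc s⁻¹ q, ← sq, inv_mul_cancel_left, mul_inv_rev, mul_inv_rev, si, mul_assoc s σ⁻¹]
      _ = _ := by rw [S.σs, inv_inv, qσ]
  have d3 : Y * s * Y⁻¹ = W x (6 :: e' ++ [4]) := by
    rw [W_append, W_cons (r := 4), W_nil, mul_one, show x 4 = s from rfl, ← mul_right_inj Y,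
      ← mul_assoc Y (W x _), ← d1, ← d2, Yi, ← mul_assoc, ← mul_assoc, YY, one_mul, mul_assoc, h.ss,
      mul_one]
  have a4 : Act x Y (List.range 7) (fT α β γa γu e') := fun r hr => by
    have hr := List.mem_range.1 hr
    have : r ∈ SR ∨ r = 4 ∨ r = 6 := by interval_cases r <;> simp [SR]
    rcases this with h1 | rfl | rfl
    · refine (a3 r h1).trans ?_
      simp only [SR, List.mem_cons, List.not_mem_nil, or_false] at h1
      rcases h1 with rfl | rfl | rfl | rfl | rfl <;> rfl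
    · exact d3.trans (by simp [fT, app])
    · have e1 : app (fT α β γa γu e') [6] = 4 :: ((6 :: e' ++ [4]) ++ (app (fR α β γa γu) e').reverse) := by
        simp [fT, app]
      rw [e1, W_cons, W_append, PP.W_rev (fun _ => rfl) l2, ← a3.w l1, ← d3, ← he, ← d2,
        show x 4 = s from rfl, show x 6 = q from rfl]
      simp only [mul_inv_rev, Yi, si, qi, mul_assoc]
      simp only [← mul_assoc, mul_assoc _ Y Y, mul_assoc _ s s, YY, h.ss, mul_one, one_mul]
  obtain ⟨m1, m2⟩ := l3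
    (PP.eqv I (by
      rw [← a4.w (by decide), PP.W_eq (w := [4, 4]) (w' := []) (by cases β <;> rfl)]; simp))
    (PP.eqv I (by
      rw [← a4.w (by decide), ← a4.w (by cases β <;> decide),
        PP.W_eq (w := [4, 5]) (w' := 5 :: 4 :: ow β [0]) (by cases β <;> rfl)]))
    (PP.eqv I (by
      rw [W_cons, ← a4 6 (by decide), W_append, ← a2.w l1, ← he, show x 6 = q from rfl]
      have e1 := qσ
      have e2 : σ⁻¹ * Y * σ = q := by rw [hY]; group
      rw [show σ⁻¹ * (q * Y * (σ * Y * σ⁻¹)) * σ⁻¹⁻¹ = σ⁻¹ * q * σ * (σ⁻¹ * Y * σ) * Y by group, e1, e2,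
        mul_assoc (q * Y), ← mul_assoc (σ * Y * σ⁻¹), ← mul_assoc (σ * Y * σ⁻¹), conj_mul, YY, Yi]
      group))
  refine ⟨m1, fun c => ?_⟩
  obtain ⟨k, m3, m4⟩ := m2 c
  subst hY
  exact ⟨k, fun r hr => (a4 r hr).trans (PP.W_eq (m3 r hr)), d1.trans (by rw [PP.W_eq m4])⟩

theorem exSide (h : H85.DY.Wid t v s u a σ ρ) (hP : IsSyl 2 P (N0 t v s u a))
    (hT : cl [a, u, v, t, s] ≤ P) : ∃ σ' R, Sd t v s u a σ' P R ∧ cl [a, u, v, t] ≤ R := by
  obtain ⟨σ', R, S⟩ := exSd h.toLc hP.isPGroup hT (fun _ hx => (hP.le hx).1.2)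
    (fun _ hx => nor0 h (hP.le hx).1.2) fun _ hx => n0_u h (hP.le hx)
  refine ⟨σ', R, S, fun x hx => S.mem x (hT (cl_mono (by simp) hx)) ?_⟩
  have k : ∀ y ∈ [a, u, v, t], x * y * x⁻¹ = y := fun y hy => by
    rw [h.A_comm hx (mem_cl hy), mul_inv_cancel_right]
  exact ⟨k u (by simp), Or.inl (k a (by simp)), Or.inl (k v (by simp)), by
    rw [k t (by simp), mul_inv_cancel]; exact one_mem _⟩

theorem jobW : H85.DY.JobW.{u} := by
  intro G _ _ t v s u a σ ρ h
  obtain ⟨P, hP, hT, nd⟩ := exP1 h.toLoc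
  have hP' : IsSyl 2 P (N0 t s v a u) := N0_swap t v s u a ▸ hP
  have hT' : cl [u, a, s, t, v] ≤ P := cl_swap a u v t s ▸ hT
  obtain ⟨σ', R, S, AR⟩ := exSide h hP hT
  obtain ⟨ρ', R', S', AR'⟩ := exSide h.swap hP' hT'
  obtain ⟨p, pP, β, hp⟩ := exPd h hP hT S
  obtain ⟨q, qP, α, hq⟩ := exPd h.swap hP' hT' S'
  have tp := pd_tv h.toTr hp
  have tq := pd_tv h.toTr.swap hq
  have eP : cl [a, u, v, t, s, p, q] = P := by
    refine le_antisymm (cl_le.2 fun x hx => ?_) fun x hx => ?_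
    · rcases List.mem_append.1 (show x ∈ [a, u, v, t, s] ++ [p, q] from hx) with hx | hx
      · exact hT (mem_cl hx)
      · simp only [List.mem_cons, List.not_mem_nil, or_false] at hx
        rcases hx with rfl | rfl
        exacts [pP, qP]
    · obtain ⟨r, hr, k⟩ := split4 h.toBase (hP.le hx).1.1 (H34.FZ.flip hp.pp hp.pt)
        (H34.FZ.flip hp.pp hp.pa) (H34.FZ.flip hq.pp hq.pt)
      have m : r ∈ P ⊓ cl [a, u, v, t, s, p, q] := by
        have p1 : p ∈ P ⊓ cl [a, u, v, t, s, p, q] := ⟨pP, mem_cl (by simp)⟩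
        have q1 : q ∈ P ⊓ cl [a, u, v, t, s, p, q] := ⟨qP, mem_cl (by simp)⟩
        rcases hr with rfl | rfl | rfl | rfl
        exacts [one_mem _, p1, q1, mul_mem p1 q1]
      have m2 := mul_mem (inv_mem (mem_inf.1 m).1) hx
      exact (mul_mem_cancel_left (inv_mem (mem_inf.1 m).2)).1
        (cl_mono (by simp) (two h.toLc hP.isPGroup hT m2 k (hP.le m2).1.2))
  have hB : H85.DY.Base t v s u a σ' ρ' := ⟨⟨⟨h.toTr, S.half, S'.half⟩, h.top, h.nsyl⟩, h.nu, h.na⟩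
  obtain ⟨γa, γu, w⟩ := exW1 hB hp hq hP.isPGroup hT pP qP (fun _ hx => (hP.le hx).1.2) (eP ▸ nd)
  obtain ⟨c1, s1⟩ := sideW w S AR (S.mem p pP tp.1) (S.mem q qP tq.2)
  obtain ⟨c2, s2⟩ := sideW w.swap S' AR' (S'.mem q qP tq.1) (S'.mem p pP tp.2)
  cases α <;> cases β <;> cases γa <;> cases γu <;> simp at c1 c2
  all_goals
    obtain ⟨k, hk⟩ := s1 rfl
    obtain ⟨l, hl⟩ := s2 rfl
  · exact ⟨σ', ρ', p, q, k, l, Or.inl ⟨w, hk, hl⟩⟩
  · exact ⟨σ', ρ', p, q, k, l, Or.inr (Or.inl ⟨w, hk, hl⟩)⟩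
  · exact ⟨σ', ρ', p, q, k, l, Or.inr (Or.inr (Or.inl ⟨w, hk, hl⟩))⟩
  · exact ⟨σ', ρ', p, q, l, k, Or.inr (Or.inr (Or.inr (Or.inl ⟨w.swap, hl, hk⟩)))⟩
  · exact ⟨σ', ρ', p, q, k, l, Or.inr (Or.inr (Or.inr (Or.inr ⟨w, hk, hl⟩)))⟩

end H85.DY.C57
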