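import Cfsg.Agent.H85.DZWBd

/-! DZ, branch WB with `d`: the computations for one pair of parameters. -/

set_option Elab.async false

namespace H85.DZ.WB

open H85.FZ H85.En

theorem a00 (q : Bool) : run T1 (lv7 false false q) = true := by cases q <;> decide +kernel

theorem b00 (j : Bool) : run (T3 false false j) (lv9 false false j) = true := by cases j <;> decide +kernel

theorem c00 (i j : Bool) : run (T4 false false i j) (lv10 false) = true := by
  cases i <;> cases j <;> decide +kernel

end H85.DZ.WB
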