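import Cfsg.Agent.H85.DZWBe
import Cfsg.Agent.H85.DZWB00
import Cfsg.Agent.H85.DZWB01
import Cfsg.Agent.H85.DZWB10
import Cfsg.Agent.H85.DZWB11

/-! DZ, branch WB with `d`: the construction of the Sylow subgroup. -/

set_option autoImplicit false
set_option linter.unusedSectionVars false

namespace H85.DZ.WB

open Subgroup Cfsg H14 H98 H1.Gold H31.S2 H85.FZ H85.En H49.D8

universe u

variable {G : Type u} [Group G] [Finite G] {t v s u a σ ρ p q Y d X : G} {X₀ : Subgroup G} {k b j : Bool}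

theorem key7 (k b q : Bool) : run T1 (lv7 k b q) = true := by
  cases k <;> cases b
  exacts [a00 q, a01 q, a10 q, a11 q]

theorem key9 (k b j : Bool) : run (T3 k b j) (lv9 k b j) = true := by
  cases k <;> cases b
  exacts [b00 j, b01 j, b10 j, b11 j]

theorem key10 (k b i j : Bool) : run (T4 k b i j) (lv10 k) = true := by
  cases k <;> cases b
  exacts [c00 i j, c01 i j, c10 i j, c11 i j]

theorem key8 (k : Bool) : chk (T2 k) (mk (T2 k)) = true := by cases k <;> decide +kernel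

theorem key0 : run T1 lv0 = true := by decide +kernel

theorem l9 (hX : AS X₀ t) (h : Base t v s u a σ ρ) (P : Pres (T3 k b j) (val [a, u, v, t, s, p, q, Y, d]))
    (I : Ind (val [a, u, v, t, s, p, q, Y, d]) 9) (dd : d * d = 1)
    (AX : Ap (val [a, u, v, t, s, p, q, Y, d]) 7 X (eX k))
    (Aσ : Ap (val [a, u, v, t, s, p, q, Y, d]) 9 σ (eσ k))
    (e0 : E (val [a, u, v, t, s, p, q, Y, d]) 7 25 = X * t * X⁻¹)
    (N : Nt t (cl [a, u, v, t, s]) (X * t * X⁻¹) d) : False := by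
  have key := run_spec (key9 k b j)
  have M := md P I key.1
  replace key := key.2
  generalize mk (T3 k b j) = L at M key
  simp only [lv9, fM_eq, forceL_eq, force_eq, Bool.and_eq_true, Nat.beq_eq] at key
  obtain ⟨⟨k1, k2⟩, ⟨k3, k4⟩, k5, k6, k7⟩ := key
  obtain ⟨R, c, -, r1, -, r2, -, A, r3⟩ := M.lift H30.DZ.jobL Aσ (Qs := ch.map fun gs =>
    cl (gs.map (E (val [a, u, v, t, s, p, q, Y, d]) 9))) (List.forall₂_map_left_iff.2
      (List.forall₂_map_right_iff.2 (List.forall₂_same.2 fun gs e => M.sg (List.all_eq_true.1 k1 gs e))))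
    (M.sg k2) k4
  rw [show resM (gm L RA) (eσ k) = eσ k by rw [resM, fM_eq, k3]] at A
  have e256 : E (val [a, u, v, t, s, p, q, Y, d]) 9 256 = d := E_pow _ (k := 8) (by decide)
  have m := conj_mem_of_mem_normalizer r2 (r3 256 (show 256 < 2 ^ 9 by decide) k5)
  have A2 := M.cj A (M.inr (show 256 < 2 ^ 9 by decide))
  change Ap _ 9 (_ * E _ 9 256 * _) _ at A2
  change _ * E _ 9 256 * _ ∈ _ at m
  rw [e256] at m A2
  obtain ⟨im, i1, P', I'⟩ := stp_spec M (M.inv A2) (M.act_nor A2 le_sup_left (mem_sup_right m)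
    (scA h.toLc (n := 9) (by decide) r1) k6) (conj_sq dd) k7
  simp only [Bool.and_eq_true, List.any_eq_true, beq_iff_eq] at i1
  obtain ⟨rfl, i, -, j, -, rfl⟩ := i1
  have e := ext_val [a, u, v, t, s, p, q, Y, d] (c * σ * d * (c * σ)⁻¹)
  have f : ∀ i < 9, val [a, u, v, t, s, p, q, Y, d, c * σ * d * (c * σ)⁻¹] i =
      val [a, u, v, t, s, p, q, Y, d] i := fun i hi => by interval_cases i <;> rfl
  have key := run_spec (key10 k b i j)
  exact l10 hX h (T := T4 k b i j) rfl (md (e ▸ P') (e ▸ I') key.1)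
    (ap_fun AX (fun i hi => f i (by omega)) le_rfl) (ap_fun (k := 9) A f (by decide)) rfl
    (by rw [E_mono _ (k := 7) (by decide) (by decide), E_fun fun i hi => f i (by omega), e0]) N key.2

theorem main (hX : AS X₀ t) (h : WD t v s u a σ ρ p q false false true true 1 1 k k)
    (hd : Dd t v s u a d) (dn : d ∈ nor (cl [a, u, v, t, s, p, q]))
    (dp : d * p * d⁻¹ = W (val [a, u, v, t, s, p, q]) (6 :: (ow b [1] ++ ow (k ^^ b) [0]))) : False := by
  have P1 : Pres T1 (val [a, u, v, t, s, p, q]) := h.pres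
  obtain ⟨sq, -, dd⟩ := hd.pres h.toTr
  have key := run_spec (key7 k b sq)
  have M := md P1 h.ind key.1
  have e7 : H (val [a, u, v, t, s, p, q]) 7 = cl [a, u, v, t, s, p, q] := H_val _ 7
  have e5 : H (val [a, u, v, t, s, p, q]) 5 = cl [a, u, v, t, s] := H_val _ 5
  have e4 : H (val [a, u, v, t, s, p, q]) 4 = cl [a, u, v, t] := H_val _ 4
  have e8 : E (val [a, u, v, t, s, p, q]) 7 8 = t := E_pow _ (k := 3) (by decide)
  have aY := h.sA.act
  have aX : Act _ _ _ (fX k) := h.sB.act' (by decide)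
  have YY := conj_sq (g := σ) (q := q) (P1.sq 6 (by decide))
  have aσ : Act (val [a, u, v, t, s, p, q, σ * q * σ⁻¹]) σ [0, 1, 2, 3, 5, 6, 7] (fσ k) := by
    have e := h.sA.nxt
    have e' := h.σp
    cases k <;>
    · simp only [Act, fσ, sg, eY, ow, cond, List.mem_cons, List.not_mem_nil, or_false, forall_eq_or_imp,
        forall_eq, List.cons_append, List.nil_append] at e e' ⊢
      wsimp at e e' ⊢
      exact ⟨h.A.σa, h.A.σu, h.A.σv, h.A.σt, e', trivial, e⟩
  generalize σ * q * σ⁻¹ = Y at aY YY aσ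
  generalize ρ * p * ρ⁻¹ = X at aX
  have nY : Y ∈ nor (H _ 7) := aY.nor (by cases k <;> decide)
  have nX : X ∈ nor (H _ 7) := aX.nor (by cases k <;> decide)
  rw [← e7] at dn
  have AY := M.ac aY (by cases k <;> decide)
  have AX : Ap (val [a, u, v, t, s, p, q]) 7 X (eX k) := by rw [eX, forceL_eq]; exact M.ac aX (by cases k <;> decide)
  have ad : Act (val [a, u, v, t, s, p, q]) d (List.range 6) (fp k b) := fun r hr => by
    rcases Nat.lt_succ_iff_lt_or_eq.1 (List.mem_range.1 hr) with l | rfl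
    · rw [hd.act [p, q] r (List.mem_range.2 l)]; interval_cases r <;> rfl
    · exact dp.trans (congrArg _ (List.append_nil _).symm)
  obtain ⟨im, i1, Ad⟩ := M.axs_ap (M.ac ad (by cases k <;> cases b <;> decide)) dn []
  replace key := key.2
  simp only [lv7, fM_eq, Bool.and_eq_true, Bool.or_eq_true, List.all_eq_true (l := axs _ _ _ _),
    Nat.beq_eq, Bool.not_eq_true'] at key
  obtain ⟨⟨x1, x2⟩, key⟩ := key
  obtain ⟨⟨⟨⟨⟨k1, k2⟩, k3⟩, k4⟩, k5⟩, key⟩ := key im i1
  have Ah := M.cmp AY (M.cj Ad AX)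
  have ht : Y * (d * X * d⁻¹) * t = t * (Y * (d * X * d⁻¹)) := by
    have := (Ah 8 (List.all_eq_true.1 k2 8 (by decide))).2.2
    change E _ 7 (lk (cmpM 7 _ (cjM 7 (imM _ 7 im) _)).2 8) = _ * E _ 7 8 * _ at this
    rw [k5, e8] at this
    exact mul_inv_eq_iff_eq_mul.1 this.symm
  have k6 := M.sup_inn Ah (k := 5) (j := 7) (by decide) le_rfl ((H_mono (by decide)).trans le_normalizer)
    (e5 ▸ inner h.toLc M.two (e5 ▸ H_mono (show 5 ≤ 7 by decide)) (mul_mem nY (mul_mem (mul_mem dn nX) (inv_mem dn)))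
      (mem_N0 h.toTr (e5 ▸ M.nrm_spec Ah (M.sgH (k := 5) (by decide)) k3)
        (e4 ▸ M.nrm_spec Ah (M.sgH (k := 4) (by decide)) k4)) ht) k2
  have k7 := (M.agr_iff (M.cmp Ad Ad) (b := bif sq then 8 else 0) (cs := lts 7) (by cases sq <;> decide)).2
    fun c hc => ⟨List.all_eq_true.1 k1 c hc, by
      change (E _ 7 _)⁻¹ * _ * _ = _ * ((E _ 7 _)⁻¹ * _)
      cases sq <;> simp [dd, e8]⟩
  rcases key with (e | e) | ⟨rfl, k8, k9⟩
  · exact Bool.noConfusion (e.symm.trans k7)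
  · exact Bool.noConfusion (e.symm.trans k6)
  have A1 := M.cj AX Ad
  have d1 := conj_sq (g := X) dd
  obtain ⟨c, c1, c2⟩ := H30.DZ.jobL.adj1 G (H (val [a, u, v, t, s, p, q]) 7) Y (X * d * X⁻¹) 1 M.two nY
    (mul_mem (mul_mem nX dn) (inv_mem nX)) (YY ▸ one_mem _) (d1 ▸ one_mem _) (by
      rw [pow_one, pow_two]; exact M.inn_sup (M.cmp (M.cmp AY A1) (M.cmp AY A1)) le_rfl le_rfl k8)
  have P2 : Pres (T2 k) (val [a, u, v, t, s, p, q, Y]) :=
    P1.snoc rfl rfl (aY.inv YY) (q := []) YY (by cases k <;> decide)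
  have I2 : Ind (val [a, u, v, t, s, p, q, Y]) 8 := h.ind.snoc (l := [a, u, v, t, s, p, q]) fun e => by
    obtain ⟨w, hw, e⟩ := P1.mem rfl le_rfl (e7 ▸ e : Y ∈ H _ 7)
    have := aY 3 (by decide)
    rw [e, ← mul_one (val _ 3)] at this
    replace this := (P1.conj (fun _ => rfl) (subs_lt hw) [3]).symm.trans this
    exact P1.ne h.ind ((by decide +kernel : ∀ k, ∀ w ∈ subs 7,
      T1.eqv (w ++ [3] ++ w.reverse) (app (fY 1 k) [3]) = false) k w hw) this
  have f : ∀ i < 7, val [a, u, v, t, s, p, q, Y] i = val [a, u, v, t, s, p, q] i :=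
    fun i hi => by interval_cases i <;> rfl
  have M2 := md P2 I2 (key8 k)
  have A2 := ap_fun (n := 8) (M.ap_cen' A1 c1) f (by decide)
  have Aσ : Ap (val [a, u, v, t, s, p, q, Y]) 8 σ (eσ k) := by rw [eσ, forceL_eq]; exact M2.ac aσ (by cases k <;> decide)
  have k10 := (run_spec k9).2
  rw [lv8, Bool.and_eq_true] at k10
  obtain ⟨im, i1, P', I'⟩ := stp_spec M2 (M2.inv A2) (M2.act_nor A2 (H_le fun i hi =>
    (Nat.lt_succ_iff_lt_or_eq.1 hi).elim (fun l => mem_sup_left (f i l ▸ x_mem l))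
      fun e => e ▸ mem_sup_right (mem_cl List.mem_cons_self)) (mem_sup_right (mem_cl (by simp)))
    (scA h.toLc (n := 8) (by decide) c2) k10.1) (conj_sq d1) k10.2
  simp only [List.any_eq_true, beq_iff_eq] at i1
  obtain ⟨j, -, rfl⟩ := i1
  have e := ext_val [a, u, v, t, s, p, q, Y] (c * (X * d * X⁻¹) * c⁻¹)
  have f' : ∀ i < 8, val [a, u, v, t, s, p, q, Y, c * (X * d * X⁻¹) * c⁻¹] i =
      val [a, u, v, t, s, p, q, Y] i := fun i hi => by interval_cases i <;> rfl
  have g : ∀ i < 7, val [a, u, v, t, s, p, q, Y, c * (X * d * X⁻¹) * c⁻¹] i =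
      val [a, u, v, t, s, p, q] i := fun i hi => by interval_cases i <;> rfl
  have AX' := M.ap_cen AX c1
  refine l9 hX h.toBase (e ▸ P') (e ▸ I') (conj_sq d1) (X := c * X) (ap_fun AX' g le_rfl)
    (ap_fun Aσ f' (by decide)) ?_ ?_
  · have := (AX' 8 x1).2.2
    rw [x2] at this
    rw [E_fun g]; exact this.trans (congrArg (fun z => c * X * z * (c * X)⁻¹) e8)
  · have := hd.nt.cj (c * X)
    rwa [show c * X * d * (c * X)⁻¹ = c * (X * d * X⁻¹) * c⁻¹ by group] at this

/-- The branch WB with `d`. -/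
theorem wbd (hX : AS X₀ t) (h : WD t v s u a σ ρ p q false false true true 1 1 k k)
    (hd : Dd t v s u a d) (dn : d ∈ nor (cl [a, u, v, t, s, p, q])) : False := by
  have P1 : Pres T1 (val [a, u, v, t, s, p, q]) := h.pres
  have key := run_spec key0
  have M := md P1 h.ind key.1
  obtain ⟨im, i1, -, i2⟩ := M.axs_spec (M.ac (hd.act [p, q]) (by decide)) (by rwa [H_val]) []
  have e := mem_iff.1 (List.all_eq_true.1 key.2 im i1)
  have e1 : E _ 7 _ = d * p * d⁻¹ := (i2 5 (by decide)).2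
  have tp : t * p * t⁻¹ = p * u := by
    have := P1.W_eq (w := [3, 5]) (w' := [5, 1, 3]) rfl
    rw [mul_inv_eq_iff_eq_mul]; simpa [mul_assoc] using this
  have e2 : d * t * p * (d * t)⁻¹ = d * p * d⁻¹ * a := by
    rw [← hd.du, conj_mul, ← tp]; group
  obtain ⟨b, hb⟩ : ∃ b : Bool, d * p * d⁻¹ = W (val [a, u, v, t, s, p, q]) (6 :: (ow b [1] ++ ow (k ^^ b) [0])) ∨
      d * p * d⁻¹ * a = W (val [a, u, v, t, s, p, q]) (6 :: (ow b [1] ++ ow (k ^^ b) [0])) := by
    rw [← e1, ← (W_wd _ 7 _).1]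
    obtain ⟨b, hb⟩ := (by decide +kernel : ∀ k : Bool, ∀ c ∈ [64, 65, 66, 67], ∃ b : Bool,
      T1.same (wd 7 c) (6 :: (ow b [1] ++ ow (k ^^ b) [0])) = true ∨
      T1.same (wd 7 c ++ [0]) (6 :: (ow b [1] ++ ow (k ^^ b) [0])) = true) k _ e
    exact ⟨b, hb.imp P1.W_eq fun e => by simpa using P1.W_eq e⟩
  exact hb.elim (main hX h hd dn) fun e => main hX h (hd.mul_t h.toTr)
    (mul_mem dn (le_normalizer (mem_cl (by simp)))) (e2.trans e)

end H85.DZ.WB
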