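import Cfsg.Agent.H30.WB0
import Cfsg.Agent.H85.DZWBf
import Cfsg.Agent.H85.DYSpec

/-! DY: branch WB (ports of `H30/WB0`, `H85/DZWBe`, `H85/DZWBf`). -/

set_option autoImplicit false
set_option linter.unusedSectionVars false

namespace H85.DY.W30
open H30.WB

open Subgroup Cfsg H14 H98 H1.Gold H31.S2 H85.FZ H49.D8 H86.FZ H86.FZ.WB

universe u

variable {G : Type u} [Group G] [Finite G] {t v s u a σ ρ p q : G} {T : Tb} {g : ℕ → G}
  {ms : List Mv} {k l : Bool} {L : List G}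

/-- The moves of `H86.FZ.WB.mv`. -/
theorem moves (h : H85.DY.WD t v s u a σ ρ p q false false true true 1 1 k l) : ∃ n, ∃ m ∈ subs 7,
    (∀ i ∈ [2, 3, 4, 5, 6], T1.eqv (yx k l (yx k l (yx k l [i]))) (m ++ [i] ++ m.reverse) = true) ∧
    Pres (T2 k) (val [a, u, v, t, s, p, q, σ * q * σ⁻¹, ρ * p * ρ⁻¹]) ∧
    Mvs (val [a, u, v, t, s, p, q, σ * q * σ⁻¹, ρ * p * ρ⁻¹])
      (val [σ, ρ, n, n⁻¹, t, p, q, σ * q * σ⁻¹]) (mv k l m) := by
  have P1 : Pres T1 _ := h.pres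
  have I1 := h.ind
  have aY := h.sA.act
  have aX : Act _ _ _ (fX l) := h.sB.act' (by decide)
  have YY := conj_sq (g := σ) (q := q) (P1.sq 6 (by decide))
  have XX := conj_sq (g := ρ) (q := p) (P1.sq 5 (by decide))
  have aσ : Act (val [a, u, v, t, s, p, q, σ * q * σ⁻¹, ρ * p * ρ⁻¹]) σ (mσ false 1 k).1
      (mσ false 1 k).2 := by
    have e := h.sA.nxt
    have e' := h.σp
    cases k <;>
    · simp only [Act, mσ, sg, eY, ow, cond, List.mem_cons, List.not_mem_nil, or_false,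
        forall_eq_or_imp, forall_eq, List.cons_append, List.nil_append] at e e' ⊢
      wsimp at e e' ⊢
      exact ⟨h.A.σa, h.A.σu, h.A.σv, h.A.σt, e', trivial, e⟩
  have aρ : Act (val [a, u, v, t, s, p, q, σ * q * σ⁻¹, ρ * p * ρ⁻¹]) ρ (mρ l).1 (mρ l).2 := by
    have e := h.sB.nxt
    have e' := h.ρq
    cases l <;>
    · simp only [Act, mρ, sg, swp, swW, eY, ow, cond, List.map, List.getD, List.mem_cons,
        List.not_mem_nil, or_false, forall_eq_or_imp, forall_eq, List.getElem?_cons_succ,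
        List.getElem?_cons_zero, List.cons_append, List.nil_append] at e e' ⊢
      wsimp at e e' ⊢
      exact ⟨h.B.σu, h.B.σa, h.B.σv, h.B.σt, trivial, e', e⟩
  generalize σ * q * σ⁻¹ = Y at aY YY aσ aρ ⊢
  generalize ρ * p * ρ⁻¹ = X at aX XX aσ aρ ⊢
  have lt : ∀ w : List ℕ, w.all (· < 7) = true → w.all (· ∈ List.range 7) = true := fun w hw => by
    simpa using hw
  have c1 : ∀ k l : Bool, ∀ w ∈ subs 7, (app (fX l) w).all (· ∈ List.range 7) = true ∧
      (app (fY 1 k) w).all (· ∈ List.range 7) = true ∧ yx k l w ∈ subs 7 ∧ xy k l w ∈ subs 7 := by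
    decide +kernel
  have i7 : ∀ i < 7, [i] ∈ subs 7 := by decide
  have ev : ∀ w ∈ subs 7, W (val [a, u, v, t, s, p, q, Y, X]) w = W (val [a, u, v, t, s, p, q]) w :=
    fun w hw => W_val [a, u, v, t, s, p, q] [Y, X] (subs_lt hw)
  have b1 : ∀ i < 7, val [a, u, v, t, s, p, q, Y, X] i = W (val [a, u, v, t, s, p, q]) [i] :=
    fun i hi => by rw [← ev _ (i7 i hi), W_cons, W_nil, mul_one]
  have P2 : Pres (T2 k) (val [a, u, v, t, s, p, q, Y]) :=
    P1.snoc rfl rfl (aY.inv YY) (q := []) YY (by cases k <;> decide)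
  have P3 : Pres (T2 k) (val [a, u, v, t, s, p, q, Y, X]) := P2.derive' _ []
    (fun i hi => by change i < 8 at hi; interval_cases i <;> wsimp) (by cases k <;> decide)
    (by cases k <;> decide +kernel)
  have AQ : cl [a, u, v, t] ≤ H (val [a, u, v, t, s, p, q]) 7 := by
    rw [H_val]; exact cl_mono (by simp)
  generalize val [a, u, v, t, s, p, q] = x at P1 I1 aY aX ev b1 AQ
  have a1 : ∀ w ∈ subs 7, Y * X * W x w * (Y * X)⁻¹ = W x (yx k l w) := fun w hw => by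
    rw [yx, P1.W_col, aY.mul aX (lt w (subs_lt hw)) (c1 k l w hw).1]
  have a2 : ∀ w ∈ subs 7, X * Y * W x w * (X * Y)⁻¹ = W x (xy k l w) := fun w hw => by
    rw [xy, P1.W_col, aX.mul aY (lt w (subs_lt hw)) (c1 k l w hw).2.1]
  have an : ∀ i < 7, Y * X * (Y * X * (Y * X)) * W x [i] * (Y * X * (Y * X * (Y * X)))⁻¹ =
      W x (yx k l (yx k l (yx k l [i]))) := fun i hi => by
    have h1 := (c1 k l _ (i7 i hi)).2.2.1
    rw [← a1 _ (c1 k l _ h1).2.2.1, ← a1 _ h1, ← a1 _ (i7 i hi)]; group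
  obtain ⟨m, hm, c, hc, e1, e2⟩ := H30.DZ.jobL.adj3 G (H x 7) Y X (P1.isPGroup rfl le_rfl)
    (fun R h1 h2 => (H85.DZ.ca2 h.toLc h2 (h1.trans (centralizer_le AQ))).trans AQ)
    (aY.nor (by cases k <;> decide)) (aX.nor (by cases l <;> decide)) YY XX (by
      obtain ⟨r, hr, e⟩ := (by decide +kernel : ∀ k l : Bool, ∃ r ∈ subs 7, ∀ i < 7,
        T1.same (yx k l (yx k l (yx k l [i]))) (r ++ [i] ++ r.reverse) = true) k l
      rw [← mul_inv_cancel_left (W x r) (Y * X * (Y * X * (Y * X)))]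
      refine mul_mem_sup (W_mem (subs_lt hr)) (le_cen1_iff.1 (H_le fun i hi => mem_cen1.2 ?_))
      have := (an i hi).trans ((P1.W_eq (e i hi)).trans (P1.conj (fun _ => rfl) (subs_lt hr) [i]).symm)
      rw [W_cons, W_nil, mul_one, mul_inv_eq_iff_eq_mul] at this
      rw [mul_assoc (W x r)⁻¹, this]; group)
  obtain ⟨m, hw, rfl⟩ := P1.mem rfl le_rfl hm
  have cc : ∀ {c}, c ∈ cen (H x 7) → ∀ w ∈ subs 7, c * W x w * c⁻¹ = W x w := fun hc w hw =>
    mul_inv_eq_iff_eq_mul.2 (mem_cen_iff.1 hc _ (W_mem (subs_lt hw)))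
  have a3 : ∀ w ∈ subs 7, (c * (X * Y))⁻¹ * W x w * (c * (X * Y))⁻¹⁻¹ = W x (yx k l w) := fun w hw => by
    rw [show ∀ y, (c * (X * Y))⁻¹ * y * (c * (X * Y))⁻¹⁻¹ = (X * Y)⁻¹ * (c⁻¹ * y * c⁻¹⁻¹) * (X * Y) from
      fun y => by group, cc (inv_mem hc) w hw, ← a1 w hw, mul_inv_rev, mul_inv_rev,
      inv_eq_of_mul_eq_one_right YY, inv_eq_of_mul_eq_one_right XX]
  have s2 : ∀ i, (T2 k).sq i = [] := fun i => ite_self _
  refine ⟨c * (X * Y), m, hw, fun i hi => P1.eqv I1 ?_, P3, .cons aσ (.cons aρ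
    (.cons (fun r hr => ?_) (.cons (fun r hr => ?_) (.cons (act_inn P3 (r := 3) (show 3 < 8 by decide) (s2 _))
    (.cons (act_inn P3 (r := 5) (show 5 < 8 by decide) (s2 _))
    (.cons (act_inn P3 (r := 6) (show 6 < 8 by decide) (s2 _))
    (.cons (act_inn P3 (r := 7) (show 7 < 8 by decide) (s2 _)) .nil)))))))⟩
  · have hi : i < 7 := by simp at hi; omega
    have := mem_cen_iff.1 e1 _ (conj_mem_of_mem_normalizer (le_normalizer hm) (W_mem (subs_lt (i7 i hi))))
    rw [← an i hi, ← P1.conj (fun _ => rfl) (subs_lt hw), ← mul_inv_eq_iff_eq_mul.2 this]; group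
  · rcases List.mem_cons.1 hr with rfl | hr
    · change c * (X * Y) * X * (c * (X * Y))⁻¹ = W _ ((7 :: m) ++ [])
      rw [List.append_nil, W_cons, ev m hw, e2]; rfl
    · have hr := List.mem_range.1 hr
      have h1 := (c1 k l _ (i7 r hr)).2.2.2
      rw [b1 r hr, show ∀ y, c * (X * Y) * y * (c * (X * Y))⁻¹ = c * (X * Y * y * (X * Y)⁻¹) * c⁻¹ from
        fun y => by group, a2 _ (i7 r hr), cc hc _ h1, ← ev _ h1]
      exact congrArg _ (app_tab _ (fun i => xy k l [i]) hr).2.symm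
  · rcases Nat.lt_succ_iff_lt_or_eq.1 (List.mem_range.1 hr) with hr | rfl
    · rw [b1 r hr, a3 _ (i7 r hr), ← ev _ (c1 k l _ (i7 r hr)).2.2.1]
      exact congrArg _ (app_tab _ (fun i => yx k l [i]) hr).1.symm
    · have h1 := (c1 k l m hw).2.2.1
      change (c * (X * Y))⁻¹ * Y * (c * (X * Y))⁻¹⁻¹ = W _ ((8 :: (yx k l m).reverse) ++ [])
      rw [List.append_nil, W_cons, P3.W_rev s2 (List.all_eq_true.2 fun r hr => decide_eq_true
        ((nf_lt (nf_of_mem_subs h1) r hr).trans (show 7 < 8 by decide))), ev _ h1, ← a3 m hw]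
      change _ = X * _
      generalize c * (X * Y) = n at e2 ⊢
      rw [eq_mul_inv_of_mul_eq e2.symm]; group

theorem wb0 (h : H85.DY.WD t v s u a σ ρ p q false false true true 1 1 k l) :
    k = l ∧ ∃ d ∈ nor (cl [a, u, v, t, s, p, q]), H85.DY.Dd t v s u a d := by
  obtain ⟨n, m, hm, e, P, M⟩ := moves h
  refine ⟨by_contra fun ne => ?_, h.nd.resolve_left fun hS => ?_⟩
  · obtain ⟨c, -, hc⟩ := key2 k l ne m hm e
    exact fx_chk h.toLc P M hc
  · obtain ⟨c₁, -, i, -, r, -, hc⟩ := key k l m hm e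
    exact pab_chk h.toLc hS P M hc

end H85.DY.W30

namespace H85.DY.WB

open H85.DZ H85.DZ.WB Subgroup Cfsg H14 H98 H1.Gold H31.S2 H85.FZ H85.En H49.D8

universe u

section

variable {G : Type u} [Group G] [Finite G] {T : Tb} {L : List ℕ} {x x' : ℕ → G} {g y : G} {e : Mv}
  {n k K : ℕ} {t v s u a σ ρ : G} {X₀ P : Subgroup G}

theorem _root_.H85.DY.Dd.mul_t {d : G} (h : Dd t v s u a d) (r : Tr t v s u a) :
    Dd t v s u a (d * t) := by
  have k : ∀ y, y * t = t * y → d * t * y * (d * t)⁻¹ = d * y * d⁻¹ := fun y e => by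
    rw [mul_assoc d, ← e]; group
  have dt := mul_inv_eq_iff_eq_mul.1 h.dt
  refine ⟨(k t rfl).trans h.dt, (k v r.vt).trans h.dv, (k s r.st).trans h.ds, (k a r.ta).trans h.da,
    (k u r.ut).trans h.du, ?_, ?_⟩
  · rw [mul_assoc, ← mul_assoc t, ← dt, mul_assoc, r.tt, mul_one]; exact h.dd
  · have m : ∀ z : G, t ∈ cl [a, u, v, t, s, z] := fun _ => mem_cl (by simp)
    have n : ∀ z z' : G, z ∈ cl [a, u, v, t, s, z'] → cl [a, u, v, t, s, z] ≤ cl [a, u, v, t, s, z'] :=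
      fun z z' e => cl_le.2 fun y hy => by
        rcases (by simpa [or_assoc] using hy : y ∈ [a, u, v, t, s] ∨ y = z) with k | rfl
        exacts [mem_cl (List.mem_append_left [z'] k), e]
    rw [le_antisymm (n _ d (mul_mem (mem_cl (by simp)) (m _)))
      (n _ _ ((mul_mem_cancel_right (m _)).1 (mem_cl (by simp))))]
    exact h.syl

theorem l10 (h : Base t v s u a σ ρ) {p q Y d d' X σ' : G} {k : Bool} (hn : T.n = 10)
    (M : Md T L (val [a, u, v, t, s, p, q, Y, d, d']))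
    (AX : Ap (val [a, u, v, t, s, p, q, Y, d, d']) 7 X (eX k))
    (Aσ : Ap (val [a, u, v, t, s, p, q, Y, d, d']) 10 σ' (eσ k)) (ed : d' = σ' * d * σ'⁻¹)
    (e0 : E (val [a, u, v, t, s, p, q, Y, d, d']) 10 25 = X * t * X⁻¹)
    (key : lv10 k L = true) : Out2 X₀ t := by
  obtain ⟨n, cj', sq'⟩ := T
  obtain rfl : n = 10 := hn
  have Aρ : Act (val [a, u, v, t, s, p, q, Y, d, d']) ρ [0, 1, 3, 4] fρ := by
    simp only [Act, fρ, List.mem_cons, List.not_mem_nil, or_false, forall_eq_or_imp, forall_eq]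
    wsimp
    exact ⟨h.B.σu, h.B.σa, h.B.σt, h.B.σv⟩
  have e8 : E (val [a, u, v, t, s, p, q, Y, d, d']) 10 8 = t := E_pow _ (k := 3) dz
  have e256 : E (val [a, u, v, t, s, p, q, Y, d, d']) 10 256 = d := E_pow _ (k := 8) dz
  have e512 : E (val [a, u, v, t, s, p, q, Y, d, d']) 10 512 = d' := E_pow _ (k := 9) dz
  generalize val [a, u, v, t, s, p, q, Y, d, d'] = x at *
  have AX' : Ap x 10 X (eX k) := ap_fun AX (fun _ _ => rfl) dz
  rw [lv10, fM_eq] at key
  obtain ⟨C, r, key⟩ := M.withC key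
  simp only [forceL_eq, force_eq, Bool.and_eq_true, Bool.or_eq_true, List.any_eq_true, Nat.beq_eq] at key
  obtain ⟨⟨k1, k2⟩, -⟩ := key
  have hP := M.prs (.cons (M.ad (c := 256) (d := 512) Aσ (by rw [e256, e512, ed]))
    (.cons AX' (.cons (M.ac Aρ dz) .nil))) C
  have c0 : IsConj t (E x 10 25) := e0 ▸ isConj_of _ _
  have s0 := sylD M h.toLoc dz c0 k1
  have B := fun K' => Lab.nil.cons (iv_conj t) (r.fz (iv_conj t) hP (r.seed (R := [8]) (iv_conj t)
    fun _ e => List.mem_singleton.1 e ▸ e8.symm ▸ .refl _) 3) (r.fz (iv_conj t).not hP ((M.ncj_spec (ts := [[]]) .nil r dz s0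
      ((nin M h.tt fun e => h.toLoc.ne_one (e ▸ IsConj.refl _)).mono fun _ k j => k (c0.trans j)) K').mono
        fun _ k j => k (c0.symm.trans j)) 3)
  have hS := M.syl (B _) r s0 k2
  exact out1 hS M.card.le

end

variable {G : Type u} [Group G] [Finite G] {t v s u a σ ρ p q Y d X : G} {X₀ : Subgroup G} {k b j : Bool}

theorem l9 (h : Base t v s u a σ ρ) (P : Pres (T3 k b j) (val [a, u, v, t, s, p, q, Y, d]))
    (I : Ind (val [a, u, v, t, s, p, q, Y, d]) 9) (dd : d * d = 1)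
    (AX : Ap (val [a, u, v, t, s, p, q, Y, d]) 7 X (eX k))
    (Aσ : Ap (val [a, u, v, t, s, p, q, Y, d]) 9 σ (eσ k))
    (e0 : E (val [a, u, v, t, s, p, q, Y, d]) 7 25 = X * t * X⁻¹) : Out2 X₀ t := by
  have key := run_spec (key9 k b j)
  have M := md P I key.1
  replace key := key.2
  generalize mk (T3 k b j) = L at M key
  simp only [lv9, fM_eq, forceL_eq, force_eq, Bool.and_eq_true, Nat.beq_eq] at key
  obtain ⟨⟨k1, k2⟩, ⟨k3, k4⟩, k5, k6, k7⟩ := key
  obtain ⟨R, c, -, r1, -, r2, -, A, r3⟩ := M.lift H30.DZ.jobL Aσ (Qs := ch.map fun gs =>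
    cl (gs.map (E (val [a, u, v, t, s, p, q, Y, d]) 9))) (List.forall₂_map_left_iff.2
      (List.forall₂_map_right_iff.2 (List.forall₂_same.2 fun gs e => M.sg (List.all_eq_true.1 k1 gs e))))
    (M.sg k2) k4
  rw [show resM (gm L RA) (eσ k) = eσ k by rw [resM, fM_eq, k3]] at A
  have e256 : E (val [a, u, v, t, s, p, q, Y, d]) 9 256 = d := E_pow _ (k := 8) (by decide)
  have m := conj_mem_of_mem_normalizer r2 (r3 256 (show 256 < 2 ^ 9 by decide) k5)
  have A2 := M.cj A (M.inr (show 256 < 2 ^ 9 by decide))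
  change Ap _ 9 (_ * E _ 9 256 * _) _ at A2
  change _ * E _ 9 256 * _ ∈ _ at m
  rw [e256] at m A2
  obtain ⟨im, i1, P', I'⟩ := stp_spec M (M.inv A2) (M.act_nor A2 le_sup_left (mem_sup_right m)
    (scA h.toLc (n := 9) (by decide) r1) k6) (conj_sq dd) k7
  simp only [Bool.and_eq_true, List.any_eq_true, beq_iff_eq] at i1
  obtain ⟨rfl, i, -, j, -, rfl⟩ := i1
  have e := ext_val [a, u, v, t, s, p, q, Y, d] (c * σ * d * (c * σ)⁻¹)
  have f : ∀ i < 9, val [a, u, v, t, s, p, q, Y, d, c * σ * d * (c * σ)⁻¹] i =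
      val [a, u, v, t, s, p, q, Y, d] i := fun i hi => by interval_cases i <;> rfl
  have key := run_spec (key10 k b i j)
  exact l10 h (T := T4 k b i j) rfl (md (e ▸ P') (e ▸ I') key.1)
    (ap_fun AX (fun i hi => f i (by omega)) le_rfl) (ap_fun (k := 9) A f (by decide)) rfl
    (by rw [E_mono _ (k := 7) (by decide) (by decide), E_fun fun i hi => f i (by omega), e0]) key.2

theorem main (h : WD t v s u a σ ρ p q false false true true 1 1 k k)
    (hd : Dd t v s u a d) (dn : d ∈ nor (cl [a, u, v, t, s, p, q]))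
    (dp : d * p * d⁻¹ = W (val [a, u, v, t, s, p, q]) (6 :: (ow b [1] ++ ow (k ^^ b) [0]))) : Out2 X₀ t := by
  have P1 : Pres T1 (val [a, u, v, t, s, p, q]) := h.pres
  obtain ⟨sq, -, dd⟩ := hd.pres h.toTr
  have key := run_spec (key7 k b sq)
  have M := md P1 h.ind key.1
  have e7 : H (val [a, u, v, t, s, p, q]) 7 = cl [a, u, v, t, s, p, q] := H_val _ 7
  have e5 : H (val [a, u, v, t, s, p, q]) 5 = cl [a, u, v, t, s] := H_val _ 5
  have e4 : H (val [a, u, v, t, s, p, q]) 4 = cl [a, u, v, t] := H_val _ 4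
  have e8 : E (val [a, u, v, t, s, p, q]) 7 8 = t := E_pow _ (k := 3) (by decide)
  have aY := h.sA.act
  have aX : Act _ _ _ (fX k) := h.sB.act' (by decide)
  have YY := conj_sq (g := σ) (q := q) (P1.sq 6 (by decide))
  have aσ : Act (val [a, u, v, t, s, p, q, σ * q * σ⁻¹]) σ [0, 1, 2, 3, 5, 6, 7] (fσ k) := by
    have e := h.sA.nxt
    have e' := h.σp
    cases k <;>
    · simp only [Act, fσ, sg, eY, ow, cond, List.mem_cons, List.not_mem_nil, or_false, forall_eq_or_imp,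
        forall_eq, List.cons_append, List.nil_append] at e e' ⊢
      wsimp at e e' ⊢
      exact ⟨h.A.σa, h.A.σu, h.A.σv, h.A.σt, e', trivial, e⟩
  generalize σ * q * σ⁻¹ = Y at aY YY aσ
  generalize ρ * p * ρ⁻¹ = X at aX
  have nY : Y ∈ nor (H _ 7) := aY.nor (by cases k <;> decide)
  have nX : X ∈ nor (H _ 7) := aX.nor (by cases k <;> decide)
  rw [← e7] at dn
  have AY := M.ac aY (by cases k <;> decide)
  have AX : Ap (val [a, u, v, t, s, p, q]) 7 X (eX k) := by rw [eX, forceL_eq]; exact M.ac aX (by cases k <;> decide)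
  have ad : Act (val [a, u, v, t, s, p, q]) d (List.range 6) (fp k b) := fun r hr => by
    rcases Nat.lt_succ_iff_lt_or_eq.1 (List.mem_range.1 hr) with l | rfl
    · rw [hd.act [p, q] r (List.mem_range.2 l)]; interval_cases r <;> rfl
    · exact dp.trans (congrArg _ (List.append_nil _).symm)
  obtain ⟨im, i1, Ad⟩ := M.axs_ap (M.ac ad (by cases k <;> cases b <;> decide)) dn []
  replace key := key.2
  simp only [lv7, fM_eq, Bool.and_eq_true, Bool.or_eq_true, List.all_eq_true (l := axs _ _ _ _),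
    Nat.beq_eq, Bool.not_eq_true'] at key
  obtain ⟨⟨x1, x2⟩, key⟩ := key
  obtain ⟨⟨⟨⟨⟨k1, k2⟩, k3⟩, k4⟩, k5⟩, key⟩ := key im i1
  have Ah := M.cmp AY (M.cj Ad AX)
  have ht : Y * (d * X * d⁻¹) * t = t * (Y * (d * X * d⁻¹)) := by
    have := (Ah 8 (List.all_eq_true.1 k2 8 (by decide))).2.2
    change E _ 7 (lk (cmpM 7 _ (cjM 7 (imM _ 7 im) _)).2 8) = _ * E _ 7 8 * _ at this
    rw [k5, e8] at this
    exact mul_inv_eq_iff_eq_mul.1 this.symm
  have k6 := M.sup_inn Ah (k := 5) (j := 7) (by decide) le_rfl ((H_mono (by decide)).trans le_normalizer)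
    (e5 ▸ inner h.toLc M.two (e5 ▸ H_mono (show 5 ≤ 7 by decide)) (mul_mem nY (mul_mem (mul_mem dn nX) (inv_mem dn)))
      (mem_N0 h.toTr (e5 ▸ M.nrm_spec Ah (M.sgH (k := 5) (by decide)) k3)
        (e4 ▸ M.nrm_spec Ah (M.sgH (k := 4) (by decide)) k4)) ht) k2
  have k7 := (M.agr_iff (M.cmp Ad Ad) (b := bif sq then 8 else 0) (cs := lts 7) (by cases sq <;> decide)).2
    fun c hc => ⟨List.all_eq_true.1 k1 c hc, by
      change (E _ 7 _)⁻¹ * _ * _ = _ * ((E _ 7 _)⁻¹ * _)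
      cases sq <;> simp [dd, e8]⟩
  rcases key with (e | e) | ⟨rfl, k8, k9⟩
  · exact Bool.noConfusion (e.symm.trans k7)
  · exact Bool.noConfusion (e.symm.trans k6)
  have A1 := M.cj AX Ad
  have d1 := conj_sq (g := X) dd
  obtain ⟨c, c1, c2⟩ := H30.DZ.jobL.adj1 G (H (val [a, u, v, t, s, p, q]) 7) Y (X * d * X⁻¹) 1 M.two nY
    (mul_mem (mul_mem nX dn) (inv_mem nX)) (YY ▸ one_mem _) (d1 ▸ one_mem _) (by
      rw [pow_one, pow_two]; exact M.inn_sup (M.cmp (M.cmp AY A1) (M.cmp AY A1)) le_rfl le_rfl k8)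
  have P2 : Pres (T2 k) (val [a, u, v, t, s, p, q, Y]) :=
    P1.snoc rfl rfl (aY.inv YY) (q := []) YY (by cases k <;> decide)
  have I2 : Ind (val [a, u, v, t, s, p, q, Y]) 8 := h.ind.snoc (l := [a, u, v, t, s, p, q]) fun e => by
    obtain ⟨w, hw, e⟩ := P1.mem rfl le_rfl (e7 ▸ e : Y ∈ H _ 7)
    have := aY 3 (by decide)
    rw [e, ← mul_one (val _ 3)] at this
    replace this := (P1.conj (fun _ => rfl) (subs_lt hw) [3]).symm.trans this
    exact P1.ne h.ind ((by decide +kernel : ∀ k, ∀ w ∈ subs 7,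
      T1.eqv (w ++ [3] ++ w.reverse) (app (fY 1 k) [3]) = false) k w hw) this
  have f : ∀ i < 7, val [a, u, v, t, s, p, q, Y] i = val [a, u, v, t, s, p, q] i :=
    fun i hi => by interval_cases i <;> rfl
  have M2 := md P2 I2 (key8 k)
  have A2 := ap_fun (n := 8) (M.ap_cen' A1 c1) f (by decide)
  have Aσ : Ap (val [a, u, v, t, s, p, q, Y]) 8 σ (eσ k) := by rw [eσ, forceL_eq]; exact M2.ac aσ (by cases k <;> decide)
  have k10 := (run_spec k9).2
  rw [lv8, Bool.and_eq_true] at k10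
  obtain ⟨im, i1, P', I'⟩ := stp_spec M2 (M2.inv A2) (M2.act_nor A2 (H_le fun i hi =>
    (Nat.lt_succ_iff_lt_or_eq.1 hi).elim (fun l => mem_sup_left (f i l ▸ x_mem l))
      fun e => e ▸ mem_sup_right (mem_cl List.mem_cons_self)) (mem_sup_right (mem_cl (by simp)))
    (scA h.toLc (n := 8) (by decide) c2) k10.1) (conj_sq d1) k10.2
  simp only [List.any_eq_true, beq_iff_eq] at i1
  obtain ⟨j, -, rfl⟩ := i1
  have e := ext_val [a, u, v, t, s, p, q, Y] (c * (X * d * X⁻¹) * c⁻¹)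
  have f' : ∀ i < 8, val [a, u, v, t, s, p, q, Y, c * (X * d * X⁻¹) * c⁻¹] i =
      val [a, u, v, t, s, p, q, Y] i := fun i hi => by interval_cases i <;> rfl
  have g : ∀ i < 7, val [a, u, v, t, s, p, q, Y, c * (X * d * X⁻¹) * c⁻¹] i =
      val [a, u, v, t, s, p, q] i := fun i hi => by interval_cases i <;> rfl
  have AX' := M.ap_cen AX c1
  refine l9 h.toBase (e ▸ P') (e ▸ I') (conj_sq d1) (X := c * X) (ap_fun AX' g le_rfl)
    (ap_fun Aσ f' (by decide)) ?_
  · have := (AX' 8 x1).2.2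
    rw [x2] at this
    rw [E_fun g]; exact this.trans (congrArg (fun z => c * X * z * (c * X)⁻¹) e8)

/-- The branch WB with `d`. -/
theorem wbd (h : WD t v s u a σ ρ p q false false true true 1 1 k k)
    (hd : Dd t v s u a d) (dn : d ∈ nor (cl [a, u, v, t, s, p, q])) : Out2 X₀ t := by
  have P1 : Pres T1 (val [a, u, v, t, s, p, q]) := h.pres
  have key := run_spec key0
  have M := md P1 h.ind key.1
  obtain ⟨im, i1, -, i2⟩ := M.axs_spec (M.ac (hd.act [p, q]) (by decide)) (by rwa [H_val]) []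
  have e := mem_iff.1 (List.all_eq_true.1 key.2 im i1)
  have e1 : E _ 7 _ = d * p * d⁻¹ := (i2 5 (by decide)).2
  have tp : t * p * t⁻¹ = p * u := by
    have := P1.W_eq (w := [3, 5]) (w' := [5, 1, 3]) rfl
    rw [mul_inv_eq_iff_eq_mul]; simpa [mul_assoc] using this
  have e2 : d * t * p * (d * t)⁻¹ = d * p * d⁻¹ * a := by
    rw [← hd.du, conj_mul, ← tp]; group
  obtain ⟨b, hb⟩ : ∃ b : Bool, d * p * d⁻¹ = W (val [a, u, v, t, s, p, q]) (6 :: (ow b [1] ++ ow (k ^^ b) [0])) ∨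
      d * p * d⁻¹ * a = W (val [a, u, v, t, s, p, q]) (6 :: (ow b [1] ++ ow (k ^^ b) [0])) := by
    rw [← e1, ← (W_wd _ 7 _).1]
    obtain ⟨b, hb⟩ := (by decide +kernel : ∀ k : Bool, ∀ c ∈ [64, 65, 66, 67], ∃ b : Bool,
      T1.same (wd 7 c) (6 :: (ow b [1] ++ ow (k ^^ b) [0])) = true ∨
      T1.same (wd 7 c ++ [0]) (6 :: (ow b [1] ++ ow (k ^^ b) [0])) = true) k _ e
    exact ⟨b, hb.imp P1.W_eq fun e => by simpa using P1.W_eq e⟩
  exact hb.elim (main h hd dn) fun e => main h (hd.mul_t h.toTr)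
    (mul_mem dn (le_normalizer (mem_cl (by simp)))) (e2.trans e)

theorem jobWB : JobWB.{u} := fun _ _ _ _ _ _ _ _ _ _ _ _ _ _ _ _ h => by
  obtain ⟨rfl, d, h1, h2⟩ := W30.wb0 h
  exact wbd h h2 h1

end H85.DY.WB
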