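import Cfsg.Agent.H85.S3Kit
import Cfsg.Agent.H81.D8F

/-! S3: the frame of a Sylow `2`-subgroup of an almost simple group (port of `H81/D8F`). -/

set_option autoImplicit false
set_option linter.unusedSectionVars false

namespace H85.S3

open Subgroup Cfsg H98 H1.Gold H85.FZ H49.D8 H81.D8

universe u

variable {G : Type u} [Group G] [Finite G] {v s z j : G} {X : Subgroup G} [hn : X.Normal]

theorem excl [IsSimpleGroup X] (hc : cen X = ⊥) (D : SD v s z j)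
    (hD : IsSyl 2 (cl [v, s, j]) X) {w : G}
    (ww : w * w = 1) (wX : w ∉ X) (wD : w ∈ cen (cl [v, s, j])) {σ : G} (h1 : σ ∈ X)
    (h2 : Tri σ z v) (h3 : σ * w = w * σ) : False := by
  have h := D.toDH
  have n1 : w ∈ nor (cl [v, s, j]) := centralizer_le_normalizer _ wD
  have n2 : w ∈ nor X := by simp [normalizer_eq_top]
  have wi := inv_eq_of_mul_eq_one_left ww
  have hS := syl_ext hD n1 (ww ▸ one_mem _) n2
  have cS : ∀ u ∈ cen (cl [v, s, j]), u * w = w * u → ext2 _ w n1 (ww ▸ one_mem _) ≤ cen1 u := by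
    rintro u hu r g (hg | hg) <;> refine mem_centralizer_singleton_iff.2 ?_
    · exact hu g hg
    · rw [← inv_mul_cancel_right g w, mul_assoc _ w, ← r, ← mul_assoc, hu _ hg, mul_assoc]
  have zc : z ∈ cen (cl [v, s, j]) := fun x hx => D.cz hx
  have wz : w * z = z * w := (wD z D.z_mem).symm
  refine wX (hc.le (H96.H97.QU.zstar_cen (K := X) (fun r => nc h (congrArg Subtype.val
    (r.is_comm.comm (⟨v, hD.le (D.D_le (vD h))⟩ : X) ⟨s, hD.le (D.D_le (sD h))⟩))) (fun g hg => Or.inl hg)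
    (by simp [normalizer_eq_top]) hS (Or.inr (by simp)) ww fun g hg r => ?_) ▸ one_mem X)
  have r := r.resolve_left fun r => wX (by simpa [mul_assoc] using hn.conj_mem _ (hD.le r) g⁻¹)
  generalize hd : g * w * g⁻¹ * w⁻¹ = d at r
  have e : g * w * g⁻¹ = d * w := by rw [← hd]; simp
  have dd : d * d = 1 := by
    have : d * w * (d * w) = 1 := by rw [← e, conj_mul, ww]; simp
    rwa [mul_assoc, ← mul_assoc w, ← wD d r, mul_assoc, ww, mul_one] at this
  by_contra hne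
  obtain ⟨k, hk, q⟩ : ∃ k ∈ X ⊓ cen1 w, k * d * k⁻¹ = z := by
    rcases invol h (D.inv r dd) dd with q | q | q | q | q | q
    · exact (hne (by rw [e, q, one_mul])).elim
    iterate 3 exact tri_move h h2 (mem_inf.2 ⟨h1, mc1.2 h3⟩) (by simp [q])
    all_goals
      obtain ⟨k, hk, e⟩ := tri_move h h2 (mem_inf.2 ⟨h1, mc1.2 h3⟩) (d := j * d * j⁻¹) (by
        simp [q, ← conj_mul, D.js, mul_inv_eq_iff_eq_mul.2 D.jz])
      exact ⟨k * j, mul_mem hk ⟨hD.le D.j_mem, mc1.2 (wD j D.j_mem)⟩, by rw [← e]; group⟩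
  have e1 : k * g * w * (k * g)⁻¹ = z * w := by
    rw [show k * g * w * (k * g)⁻¹ = k * (g * w * g⁻¹) * k⁻¹ by group, e, ← conj_mul, q,
      mem_centralizer_singleton_iff.1 hk.2, mul_inv_cancel_right]
  obtain ⟨n, hn1, hn2, hn3⟩ := H96.H97.QU.burn hS (mul_mem (.inl hk.1) hg) (cS w wD rfl)
    (e1 ▸ cS _ (mul_mem zc wD) (by rw [mul_assoc, ← mul_assoc w, wz, mul_assoc]))
  rw [e1] at hn3
  have c1 : ∀ x ∈ cl [v, s, j], ∀ m ∈ nor (ext2 _ w n1 (ww ▸ one_mem _)), m * x * m⁻¹ ∈ cl [v, s, j] :=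
    fun x hx m hm => ((mem_normalizer_iff.1 hm x).1 (.inl hx)).resolve_right fun r => wX (by
      simpa [mul_assoc] using X.mul_mem (X.inv_mem (hD.le r)) (hn.conj_mem _ (hD.le hx) m))
  have e2 : n * z * n⁻¹ = z := mul_inv_eq_iff_eq_mul.2 (D.fixz (nor_cl fun y hy =>
    c1 y (mem_cl hy) n hn2))
  have := mem_of_two_pows (K := cen1 w) (y := n) (mem_centralizer_singleton_iff.2 (by
    rw [← mul_inv_eq_iff_eq_mul, show n * n * w * (n * n)⁻¹ = n * (n * w * n⁻¹) * n⁻¹ by group, hn3,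
      ← conj_mul, e2, hn3, zz' h])) fun x hx r => cS w wD rfl (hS.le_of_le_normalizer' r
        ((zpowers_le.2 hx).trans (zpowers_le.2 hn1)) ((zpowers_le.2 hx).trans (zpowers_le.2 hn2))
        (mem_zpowers x))
  rw [mem_centralizer_singleton_iff.1 this, mul_inv_cancel_right, eq_comm, mul_eq_right] at hn3
  exact h.z1 hn3

theorem half (h : DH v s z) (hD : cl [v, s] ≤ X)
    (hV : IsSyl 2 (cl [v, z]) (X ⊓ cen (cl [v, z]))) {c : G} (cX : c ∉ X)
    (cD : c ∈ cen (cl [v, s])) (cc : c * c = 1 ∨ c * c = z) {σ : G} (h1 : σ ∈ X) (h2 : Tri σ z v) :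
    c * c = 1 ∧ ∃ w, (w = c ∨ w = c * z) ∧ ∃ σ ∈ X, Tri σ z v ∧ σ * w = w * σ := by
  have cV : ∀ x ∈ cl [v, z], x * c = c * x := fun x hx => cD x (VD h hx)
  have c2 : c * c ∈ cl [v, z] := cc.elim (fun r => r ▸ one_mem _) fun r => by rw [r]; exact zV h
  have cc' : c ∈ cen (cl [v, z]) := cV
  have hE := syl_ext hV (centralizer_le_normalizer _ cc') c2 (inf_normalizer_le_normalizer_inf
    ⟨by simp [normalizer_eq_top], le_normalizer cc'⟩)
  have tV : ∀ τ, Tri τ z v → τ ∈ nor (cl [v, z]) := fun τ hτ =>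
    nor_cl (by simp [hτ.1, hτ.2, mul_mem, m1, m2])
  have cx : ∀ y ∈ X, y * c * y⁻¹ * c⁻¹ ∈ X := fun y hy => by
    simpa [mul_assoc] using mul_mem hy (hn.conj_mem _ (inv_mem hy) c)
  have c4 : (σ * c * σ⁻¹) ^ 2 ^ 2 = 1 := by
    rw [conj_pow, show c ^ 2 ^ 2 = c * c * (c * c) by simp [pow_succ, mul_assoc], V_sq h c2]; simp
  have cσ : σ * c * σ⁻¹ ∈ cen (cl [v, z]) :=
    (mem_normalizer_iff.1 (normalizer_le_normalizer_centralizer _ (tV σ h2)) c).1 cc'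
  obtain ⟨y, hy, r⟩ := hE.exists_cj_le (isPGroup_zpowers c4) (zpowers_le.2 (Or.inr
    (mem_inf.2 ⟨cx σ h1, mul_mem cσ (inv_mem cc')⟩)))
  have r := r (conj_mem_cj (mem_zpowers _))
  obtain ⟨τ, t1, t2, t3⟩ : ∃ τ ∈ X, Tri τ z v ∧ τ * c * τ⁻¹ * c⁻¹ ∈ cl [v, z] := by
    have k : ∀ y ∈ X ⊓ cen (cl [v, z]), y * (σ * c * σ⁻¹) * y⁻¹ ∈ ext2 _ c
        (centralizer_le_normalizer _ cc') c2 →
        ∃ τ ∈ X, Tri τ z v ∧ τ * c * τ⁻¹ * c⁻¹ ∈ cl [v, z] := fun y hy r => by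
      refine ⟨y * σ, mul_mem hy.1 h1, ⟨?_, ?_⟩, ?_⟩
      · rw [show y * σ * z * (y * σ)⁻¹ = y * (σ * z * σ⁻¹) * y⁻¹ by group, h2.1, ← hy.2 v (vV h),
          mul_inv_cancel_right]
      · rw [show y * σ * v * (y * σ)⁻¹ = y * (σ * v * σ⁻¹) * y⁻¹ by group, h2.2,
          ← hy.2 _ (mul_mem (vV h) (zV h)), mul_inv_cancel_right]
      · simpa [mul_assoc] using r.resolve_left fun q => cX (by
          simpa [mul_assoc] using hn.conj_mem _ (hD (VD h q)) (y * σ)⁻¹)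
    rcases hy with hy | hy
    · exact k y hy r
    · refine k (c⁻¹ * y) ⟨by simpa [mul_assoc] using hn.conj_mem _ hy.1 c⁻¹,
        by simpa [mul_assoc] using mul_mem (mul_mem (inv_mem cc') hy.2) cc'⟩ ?_
      have hc : c ∈ ext2 _ c (centralizer_le_normalizer _ cc') c2 := .inr (by simp)
      simpa [mul_assoc] using mul_mem (mul_mem (inv_mem hc) r) hc
  generalize hu : τ * c * τ⁻¹ * c⁻¹ = u at t3
  have e : τ * c * τ⁻¹ = u * c := by rw [← hu]; simp
  have c1 : c * c = 1 := cc.resolve_right fun r => vnz h (by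
    rw [← t2.1, ← r, ← conj_mul, e, mul_assoc, ← mul_assoc c, ← cV u t3, mul_assoc, ← mul_assoc,
      V_sq h t3, one_mul])
  have tzv : τ * (z * v) * τ⁻¹ = z := by rw [← conj_mul, t2.1, t2.2, vv' h]
  have uniq : ∀ a ∈ cl [v, z], τ * a * τ⁻¹ = a → a = 1 := fun a ha q => by
    rcases (mem_V h).1 ha with rfl | rfl | rfl | rfl
    · rfl
    · exact (vnz h (t2.1.symm.trans q)).elim
    · exact (h.z1 (by simpa using t2.2.symm.trans q)).elim
    · exact (v1 h (by simpa using q.symm.trans tzv)).elim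
  obtain ⟨a, ha, q⟩ : ∃ a ∈ cl [v, z], τ * a * τ⁻¹ * u = a := by
    rcases (mem_V h).1 t3 with rfl | rfl | rfl | rfl
    · exact ⟨1, one_mem _, by simp⟩
    · exact ⟨v, vV h, by rw [t2.2]; dh h⟩
    · exact ⟨z * u, mul_mem (zV h) t3, by rw [tzv]⟩
    · exact ⟨z, zV h, by rw [t2.1]; dh h⟩
  have e1 : τ * (a * c) * τ⁻¹ = a * c := by rw [← conj_mul, e, ← mul_assoc, q]
  have cs : s * c * s⁻¹ = c := by rw [cD s (sD h), mul_inv_cancel_right]
  have nE : ∀ y ∈ nor (cl [v, z]), y * c * y⁻¹ * c⁻¹ ∈ cl [v, z] → ∀ y' ∈ nor (cl [v, z]),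
      y' * c * y'⁻¹ * c⁻¹ ∈ cl [v, z] → y * y' * c * (y * y')⁻¹ * c⁻¹ ∈ cl [v, z] :=
    fun y p1 p2 y' _ p4 => by
      simpa [mul_assoc] using mul_mem ((mem_normalizer_iff.1 p1 _).1 p4) p2
  have sn := D_nor h (sD h)
  have tn := tV τ t2
  have s0 : s * c * s⁻¹ * c⁻¹ ∈ cl [v, z] := by simp [cs]
  have y1 := nE _ (mul_mem (mul_mem tn sn) tn) (nE _ (mul_mem tn sn)
    (nE _ tn (hu ▸ t3) _ sn s0) _ tn (hu ▸ t3)) _ sn s0
  have y2 : τ * s * τ * s ∈ X ⊓ cen (cl [v, z]) := by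
    refine mem_inf.2 ⟨mul_mem (mul_mem (mul_mem t1 (hD (sD h))) t1) (hD (sD h)),
      cen_cl.2 fun x hx => ?_⟩
    simp only [List.mem_cons, List.not_mem_nil, or_false] at hx
    rw [eq_comm, ← mul_inv_eq_iff_eq_mul, show τ * s * τ * s * x * (τ * s * τ * s)⁻¹ =
      τ * (s * (τ * (s * x * s⁻¹) * τ⁻¹) * s⁻¹) * τ⁻¹ by group]
    rcases hx with rfl | rfl
    · rw [show s * x * s⁻¹ = z * x by dh h, tzv, show s * z * s⁻¹ = z by dh h, t2.1]
    · rw [show s * x * s⁻¹ = x by dh h, t2.1, show s * v * s⁻¹ = x * v by dh h, tzv]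
  have y3 : τ * s * τ * s ∈ cen1 c := by
    generalize τ * s * τ * s = y at y1 y2
    refine mem_of_two_pows (mem_centralizer_singleton_iff.2 ?_) fun x hx r =>
      mem_centralizer_singleton_iff.2 (cV x (hV.le_of_le_normalizer' r
        ((zpowers_le.2 hx).trans (zpowers_le.2 y2)) ((zpowers_le.2 hx).trans
          (zpowers_le.2 (centralizer_le_normalizer _ y2.2))) (mem_zpowers x)))
    generalize hb : y * c * y⁻¹ * c⁻¹ = b at y1
    have e : y * c * y⁻¹ = b * c := by rw [← hb]; simp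
    rw [← mul_inv_eq_iff_eq_mul, show y * y * c * (y * y)⁻¹ = y * (y * c * y⁻¹) * y⁻¹ by group, e,
      ← conj_mul, e, ← y2.2 b y1, mul_inv_cancel_right, ← mul_assoc, V_sq h y1, one_mul]
  have sa : s * a * s⁻¹ ∈ cl [v, z] := (mem_normalizer_iff.1 sn a).1 ha
  have e2 : τ * (s * a * s⁻¹ * c) * τ⁻¹ = s * a * s⁻¹ * c := by
    have p1 : τ * s * τ * s * (s * a * s⁻¹ * c) * (τ * s * τ * s)⁻¹ = s * a * s⁻¹ * c := by
      rw [← conj_mul, ← y2.2 _ sa, mem_centralizer_singleton_iff.1 y3, mul_inv_cancel_right,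
        mul_inv_cancel_right]
    have p2 : s * a * s⁻¹ * c = s * (a * c) * s⁻¹ := by rw [← conj_mul, cs]
    rw [p2] at p1 ⊢
    rwa [show τ * s * τ * s * (s * (a * c) * s⁻¹) * (τ * s * τ * s)⁻¹ =
      τ * (s * (τ * (s * s * (a * c) * (s * s)⁻¹) * τ⁻¹) * s⁻¹) * τ⁻¹ by group, h.ss, one_mul,
      inv_one, mul_one, e1] at p1
  have e3 := uniq (s * a * s⁻¹ * a⁻¹) (mul_mem sa (inv_mem ha)) (by
    rw [show s * a * s⁻¹ * a⁻¹ = s * a * s⁻¹ * c * (a * c)⁻¹ by group, ← conj_mul, ← conj_inv, e1, e2])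
  refine ⟨c1, a * c, ?_, τ, t1, t2, eq_mul_of_mul_inv_eq e1 ▸ rfl⟩
  rcases V_s h ha (by rw [mul_inv_eq_one, mul_inv_eq_iff_eq_mul] at e3; exact e3.symm) with r | r
  · simp [r]
  · rw [r, cV z (zV h)]; simp

theorem jobF0 : JobF0.{u} := by
  intro M _ _ X hn hc K T hT
  have := K.simple
  have nX : ∀ H : Subgroup M, H ≤ nor X := fun _ => by simp [normalizer_eq_top]
  obtain ⟨v, s, z, j, D, hD, σ, σ1, σ2⟩ : ∃ v s z j, SD v s z j ∧ T ⊓ X = cl [v, s, j] ∧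
      ∃ σ ∈ X, Tri σ z v := by
    obtain ⟨v, s, z, j, σ, h, r, k⟩ := K.sd
    have h1 : SD (v : M) s z j := ⟨(map h.toDH X.subtype X.subtype_injective).1,
      congrArg Subtype.val h.jv, congrArg Subtype.val h.js, congrArg Subtype.val h.jj⟩
    have r1 := r.map_of_injective X.subtype_injective
    rw [← MonoidHom.range_eq_map, range_subtype, show (cl [v, s, j]).map X.subtype = cl [(v : M), s, j] by
      rw [cl, cl, MonoidHom.map_closure]; congr 1; ext; simp [eq_comm]] at r1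
    obtain ⟨g, hg, r2⟩ := r1.exists_cj_eq (hT.inf_of_le_normalizer le_top (nX _))
    exact ⟨_, _, _, _, h1.cj g, r2.symm.trans (cj_cl _ _), _, hn.conj_mem _ σ.2 g,
      Tri.cj ⟨congrArg Subtype.val k.1, congrArg Subtype.val k.2⟩ g⟩
  have h := D.toDH
  have hS : IsSyl 2 (cl [v, s, j]) X := hD ▸ hT.inf_of_le_normalizer le_top (nX _)
  have hV : IsSyl 2 (cl [v, z]) (X ⊓ cen (cl [v, z])) :=
    ⟨le_inf ((VD h).trans (D.D_le.trans hS.le)) fun x hx y hy => V_comm h hy hx,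
      h.two.to_le (VD h), fun Q hQ l1 l2 => le_antisymm (fun x hx => by
        obtain ⟨g, -, k⟩ := hS.exists_cj_le hQ (l2.trans inf_le_left)
        refine conj_mem_cj_iff.1 (D.four ((cj_mono g l1).trans k) (fun e he => ?_)
          (by rw [card_cj, h.cardV]) ⟨k (conj_mem_cj hx), ?_⟩)
        · simpa [mul_assoc] using congrArg (fun r => g * r * g⁻¹) (V_sq h (mem_cj.1 he))
        · rw [cen, ← cj_centralizer]; exact conj_mem_cj (l2 hx).2) l1⟩
  have inn : ∀ c, In ⊥ z c ↔ c = 1 ∨ c = z := fun c => by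
    rw [In, mem_bot, mem_bot, mul_eq_one_iff_eq_inv, zi h]
  have iX : ∀ c ∈ T ⊓ cen (cl [v, s]), c ∈ X → In ⊥ z c := fun c h1 r =>
    (inn c).2 (D.cenD (hD.le ⟨h1.1, r⟩) h1.2)
  have i2 : ∀ c ∈ T, c ∉ X → ∀ c' ∈ T, c' ∉ X → c * c' ∈ X := fun c h1 h2 c' h3 h4 => by
    have inj : Function.Injective (MulAut.conjNormal : M →* MulAut X) :=
      (injective_iff_map_eq_one _).2 fun g hg => mem_bot.1 (hc.le fun x hx => by
        have := congrArg Subtype.val (MulEquiv.congr_fun hg ⟨x, hx⟩)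
        exact (eq_mul_of_mul_inv_eq this).symm ▸ rfl)
    have d1 : Nat.card T ∣ Nat.card (MulAut X) :=
      card_map_of_injective (K := T) inj ▸ card_subgroup_dvd_card _
    obtain ⟨n, e⟩ := hT.isPGroup.exists_card_eq
    have e1 := (X.subgroupOf T).index_mul_card
    rw [← inf_subgroupOf_left, Nat.card_congr (subgroupOfEquivOfLe inf_le_left).toEquiv, hD, D.card,
      ← hD, inf_subgroupOf_left, e] at e1
    have n5 : n ≤ 5 := by
      by_contra k
      exact K.aut ((pow_dvd_pow 2 (show 6 ≤ n by omega)).trans (e ▸ d1))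
    have e2 : (X.subgroupOf T).index ≠ 1 := fun k => h2 (subgroupOf_eq_top.1 (index_eq_one.1 k) h1)
    have e3 : (X.subgroupOf T).index = 2 := by interval_cases n <;> omega
    exact (mul_mem_iff_of_index_two e3 (a := ⟨c, h1⟩) (b := ⟨c', h3⟩)).2 (iff_of_false h2 h4)
  refine ⟨v, s, z, j, D, hT, hD, ⟨σ, σ1, σ2⟩, fun c h1 c' h2 => ?_, fun c h1 h2 => ?_⟩
  · by_contra k
    push Not at k
    exact k.2.2 (iX _ (mul_mem h1 h2) (i2 c h1.1 (mt (iX c h1) k.1) c' h2.1 (mt (iX c' h2) k.2.1)))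
  have cX := mt (iX c h1) h2
  obtain ⟨c1, w, hw, τ, t1, t2, t3⟩ := half h (D.D_le.trans hS.le) hV cX h1.2
    ((inn _).1 (iX _ (mul_mem h1 h1) (i2 c h1.1 cX c h1.1 cX))) σ1 σ2
  refine ⟨c1, ?_, w, hw, τ, t1, t2, t3⟩
  have jT := (hD.ge D.j_mem).1
  have zc := h1.2 z (zD h)
  rcases (inn _).1 (iX (j * c * j⁻¹ * c⁻¹) ⟨T.mul_mem (mul_mem (T.mul_mem jT h1.1) (inv_mem jT))
    (T.inv_mem h1.1), mul_mem ((mem_normalizer_iff.1 (normalizer_le_normalizer_centralizer _ D.j_nor) c).1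
      h1.2) ((cen _).inv_mem h1.2)⟩ (by
        simpa [mul_assoc] using mul_mem (hS.le D.j_mem) (hn.conj_mem _ (inv_mem (hS.le D.j_mem)) c)))
    with e | e
  · have cS : c ∈ cen (cl [v, s, j]) := cen_cl.2 (by
      simp [h1.2 v (vD h), h1.2 s (sD h), mul_inv_eq_iff_eq_mul.1 (mul_inv_eq_one.1 e)])
    exfalso
    rcases hw with rfl | rfl
    · exact excl hc D hS c1 cX cS t1 t2 t3
    · exact excl hc D hS (by rw [mul_assoc, ← mul_assoc z, zc, mul_assoc, h.zz, mul_one, c1])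
        (fun r => cX ((X.mul_mem_cancel_right (hS.le D.z_mem)).1 r))
        (mul_mem cS fun x hx => D.cz hx) t1 t2 t3
  · rw [← zc, ← e, inv_mul_cancel_right]

end H85.S3
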