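import Cfsg.Agent.H85.DZSpec
import Cfsg.Agent.H85.FZZ
import Cfsg.Agent.H62.FZN1

/-! DZ: the general lemmas. -/

set_option autoImplicit false
set_option linter.unusedSectionVars false

namespace H85.DZ

open Subgroup Cfsg H14 H98 H1.Gold H31.S2 H85.FZ H49.D8 H62.FZ

universe u

variable {G : Type u} [Group G] [Finite G] {t v s u a σ ρ p q y g x d n : G}
  {P Q R E M : Subgroup G}

/-! ### Elements of odd order and `2`-elements -/

theorem two_odd (g : G) (k : ℕ) : ∃ m, m % 2 ^ (k + 1) = 1 ∧ IsPGroup 2 (zpowers (g ^ m)) := by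
  obtain ⟨e, r, hr, q⟩ := Nat.exists_eq_two_pow_mul_odd (orderOf_pos g).ne'
  have c : Nat.Coprime r (2 ^ (k + 1)) := (Nat.coprime_two_right.2 hr).pow_right _
  obtain ⟨j, -, hj⟩ := Nat.exists_mul_mod_eq_one_of_coprime c (Nat.one_lt_two_pow k.succ_ne_zero)
  refine ⟨r * j, hj, isPGroup_zpowers (k := e) ?_⟩
  rw [← pow_mul, show r * j * 2 ^ e = 2 ^ e * r * j by ring, ← q, pow_mul, pow_orderOf_eq_one, one_pow]

theorem odd_part (g : G) : ∃ k, Odd (orderOf (g ^ 2 ^ k)) := by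
  obtain ⟨e, r, hr, q⟩ := Nat.exists_eq_two_pow_mul_odd (orderOf_pos g).ne'
  refine ⟨e, hr.of_dvd_nat (orderOf_dvd_of_pow_eq_one ?_)⟩
  rw [← pow_mul, ← q, pow_orderOf_eq_one]

theorem mem_of_odd {K : Subgroup G} {k : ℕ} (ho : Odd (orderOf x)) (h : x ^ 2 ^ k ∈ K) : x ∈ K :=
  mem_of_pow_mem_of_coprime h ((Nat.coprime_two_right.2 ho).pow_right k)

/-- `g` lies in `K` if a `2`-element and an element of odd order among its powers do. -/
theorem mem_of_parts {K : Subgroup G} (h1 : ∀ m, IsPGroup 2 (zpowers (g ^ m)) → g ^ m ∈ K)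
    (h2 : ∀ m, Odd (orderOf (g ^ m)) → g ^ m ∈ K) : g ∈ K := by
  obtain ⟨k, hk⟩ := odd_part g
  obtain ⟨m, hm, e⟩ := two_odd g k
  have := mul_mem (h1 m e) (inv_mem (pow_mem (h2 _ hk) (2 * (m / 2 ^ (k + 1)))))
  rwa [← pow_mul, ← mul_assoc, ← pow_succ, ← Nat.div_add_mod m (2 ^ (k + 1)), hm, Nat.mul_add_div
    (by positivity), Nat.div_eq_of_lt (Nat.one_lt_two_pow k.succ_ne_zero), add_zero, pow_succ',
    mul_inv_cancel_right] at this

theorem mem_of_sq {K : Subgroup G} {m : ℕ} (hm : m % 2 ^ (0 + 1) = 1) (h1 : g ^ m ∈ K)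
    (h2 : g * g ∈ K) : g ∈ K := by
  obtain ⟨j, rfl⟩ : ∃ j, m = 2 * j + 1 := ⟨m / 2, by omega⟩
  rwa [pow_succ, pow_mul, pow_two, mul_mem_cancel_left (pow_mem h2 j)] at h1

theorem comm_of_stab {B : Subgroup G} (hB : IsPGroup 2 B) {θ v : G} (ho : Odd (orderOf θ))
    (h1 : θ ∈ cen B) (h2 : v⁻¹ * (θ * v * θ⁻¹) ∈ B) : θ * v = v * θ := by
  obtain ⟨δ, hδ, e0⟩ : ∃ δ ∈ B, θ * v * θ⁻¹ = v * δ := ⟨_, h2, by group⟩
  obtain ⟨k, hk⟩ := isPGroup_iff_forall.1 hB _ hδ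
  have key : ∀ n : ℕ, θ ^ n * v * (θ ^ n)⁻¹ = v * δ ^ n := fun n => by
    induction n with
    | zero => simp
    | succ n ih =>
      calc θ ^ (n + 1) * v * (θ ^ (n + 1))⁻¹ = θ * (θ ^ n * v * (θ ^ n)⁻¹) * θ⁻¹ := by group
        _ = θ * v * θ⁻¹ * (θ * δ ^ n) * θ⁻¹ := by rw [ih]; group
        _ = _ := by rw [mem_cen_iff.1 h1 _ (pow_mem hδ n), e0]; group
  refine mem_cen1.1 (mem_of_odd (k := k) ho (mem_cen1.2 ?_))
  have := key (2 ^ k)
  rwa [hk, mul_one, mul_inv_eq_iff_eq_mul] at this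

/-- An element of odd order that centralizes a self-centralizing subgroup of `R`. -/
theorem copr (hR : IsPGroup 2 R) (hg : g ∈ nor R) (ho : Odd (orderOf g)) (hQ : Q ≤ R)
    (hc : g ∈ cen Q) (sc : ∀ x ∈ R, x ∈ cen Q → x ∈ Q) : g ∈ cen R := by
  by_contra hn
  have QC : Q ≤ R ⊓ cen1 g := le_inf hQ (le_cen1_iff.2 hc)
  have lt : R ⊓ cen1 g < R := inf_le_left.lt_of_ne fun e => hn (le_cen1_iff.1 (e ▸ inf_le_right))
  obtain ⟨w, ⟨w1, w2⟩, w3⟩ := SetLike.exists_of_lt (lt_inf_normalizer hR lt)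
  refine w3 ⟨w1, mem_cen1.2 (comm_of_stab (hR.to_le hQ) ho hc (sc _ (mul_mem (inv_mem w1)
    (conj_mem_of_mem_normalizer hg w1)) (mem_cen_iff.2 fun c hc' => ?_))).symm⟩
  have c1 := mem_cen1.1 (QC hc').2
  have c2 := mem_cen1.1 (conj_mem_of_mem_normalizer w2 (QC hc')).2
  calc w⁻¹ * (g * w * g⁻¹) * c = w⁻¹ * (g * (w * (g⁻¹ * (c * g)) * w⁻¹)) * w * g⁻¹ := by group
    _ = w⁻¹ * (w * c * w⁻¹ * g) * w * g⁻¹ := by rw [c1, inv_mul_cancel_left, c2]
    _ = _ := by group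

theorem ext_of_not_syl (hQ : IsPGroup 2 Q) (hM : Q ≤ M) (h : ¬ IsSyl 2 Q M) :
    ∃ n ∈ M, n ∈ nor Q ∧ n ∉ Q ∧ n * n ∈ Q := by
  obtain ⟨S, hS, e⟩ := exists_isSyl_le hQ hM
  obtain ⟨w, ⟨w1, w2⟩, w3⟩ := SetLike.exists_of_lt (lt_inf_normalizer hS.isPGroup
    (e.lt_of_ne fun k => h (k ▸ hS)))
  obtain ⟨k, hk⟩ := isPGroup_iff_forall.1 hS.isPGroup w w1
  have key : ∀ k, w ^ 2 ^ k ∈ Q → ∃ j, w ^ j ∉ Q ∧ w ^ j * w ^ j ∈ Q := fun k => by
    induction k with
    | zero => exact fun h => absurd (by simpa using h) w3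
    | succ k ih => exact fun h => (em (w ^ 2 ^ k ∈ Q)).elim ih fun e =>
        ⟨2 ^ k, e, by rwa [← pow_add, ← two_mul, ← pow_succ']⟩
  obtain ⟨j, j1, j2⟩ := key k (hk ▸ one_mem _)
  exact ⟨_, hS.le (pow_mem w1 j), pow_mem w2 j, j1, j2⟩

theorem isPGroup_ext (hQ : IsPGroup 2 Q) (hn : n ∈ nor Q) (h2 : n * n ∈ Q) :
    IsPGroup 2 ↥(zpowers n ⊔ Q) := by
  obtain ⟨k, hk⟩ := isPGroup_iff_forall.1 hQ _ h2
  exact IsPGroup.to_sup_of_normal_right' (isPGroup_zpowers (k := k + 1) (by rw [pow_succ', pow_mul, pow_two, hk])) hQ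
    (zpowers_le.2 hn)

/-- A `2`-element that normalizes `Q` and fixes the `Q`-class of an extremal element. -/
theorem mem_of_ext (hQ : IsPGroup 2 Q) (hS : IsSyl 2 (Q ⊓ cen1 x) (cen1 x)) (hn : n ∈ nor Q)
    (h2 : n * n ∈ Q) {r : G} (hr : r ∈ Q) (e : n * x * n⁻¹ = r * x * r⁻¹) : n ∈ Q := by
  have := hS.eq_of_le ((isPGroup_ext hQ hn h2).to_le (inf_le_left (b := cen1 x)))
    (inf_le_inf_right _ le_sup_right) inf_le_right
  refine (mul_mem_cancel_left (inv_mem hr)).1 (this.le ⟨mul_mem (mem_sup_right (inv_mem hr))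
    (mem_sup_left (mem_zpowers n)), mem_cen1.2 ?_⟩).1
  calc r⁻¹ * n * x = r⁻¹ * (n * x * n⁻¹) * n := by group
    _ = _ := by rw [e]; group

theorem syl_of (hQ : IsPGroup 2 Q) (hS : IsSyl 2 (Q ⊓ cen1 x) (cen1 x))
    (h : ∀ n ∈ nor Q, n * n ∈ Q → ∃ r ∈ Q, n * x * n⁻¹ = r * x * r⁻¹) : IsSyl 2 Q ⊤ := by
  by_contra hn
  obtain ⟨n, -, n1, n2, n3⟩ := ext_of_not_syl hQ le_top hn
  obtain ⟨r, hr, e⟩ := h n n1 n3
  exact n2 (mem_of_ext hQ hS n1 n3 hr e)

/-! ### One side -/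

theorem hact (h : Half' t v s u a σ) (l : List G) :
    Act (val (a :: u :: v :: t :: l)) σ [0, 1, 2, 3] sg := by
  simp only [Act, sg, List.mem_cons, List.not_mem_nil, or_false, forall_eq_or_imp, forall_eq]
  wsimp
  exact ⟨h.σa, h.σu, h.σv, h.σt⟩

theorem hacti (h : Half' t v s u a σ) (r : Tr t v s u a) (l : List G) :
    Act (val (a :: u :: v :: t :: l)) σ⁻¹ [0, 1, 2, 3] sgi := fun i hi => by
  obtain ⟨k1, k2⟩ := (by decide +kernel : ∀ i ∈ [0, 1, 2, 3], (app sgi [i]).all (· ∈ [0, 1, 2, 3]) = true ∧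
    tA.same (app sg (app sgi [i])) [i] = true) i hi
  have := ((hact h l).w k1).trans ((presA r l).W_eq k2)
  rw [W_cons, W_nil, mul_one] at this
  rw [← this]; group

theorem hnorA (h : Half' t v s u a σ) : σ ∈ nor (cl [a, u, v, t]) := by
  have := Act.nor (k := 4) (hact h []) (by decide)
  rwa [H_val] at this

theorem hnorA0 (h : Half' t v s u a σ) : σ ∈ nor (cl [a, u, v]) := by
  have := Act.nor (k := 3) (f := sg) (fun r hr => hact h [] r (by
    have := List.mem_range.1 hr; interval_cases r <;> simp)) (by decide)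
  rwa [H_val] at this

theorem hnorV (h : Half' t v s u a σ) : σ ∈ nor (cl [v, u * a]) :=
  h.nV σ (mul_inv_eq_iff_eq_mul.1 h.σt) (hnorA h)

theorem cen_of_act {l : List G} (hg : Act (val (a :: u :: v :: t :: l)) g [0, 1, 2, 3] []) :
    g ∈ cen (cl [a, u, v, t]) := by
  have k : ∀ r ∈ [0, 1, 2, 3], g * val (a :: u :: v :: t :: l) r = val (a :: u :: v :: t :: l) r * g :=
    fun r hr => mul_inv_eq_iff_eq_mul.1 (by simpa [app] using hg r hr)
  refine le_cen1_iff.1 (cl_le.2 fun y hy => mem_cen1.2 ?_)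
  simp only [List.mem_cons, List.not_mem_nil, or_false] at hy
  rcases hy with rfl | rfl | rfl | rfl
  exacts [(k 0 (by simp)).symm, (k 1 (by simp)).symm, (k 2 (by simp)).symm, (k 3 (by simp)).symm]

theorem presV (h : Tr t v s u a) : Pres (.of 2 []) (val [v, u * a]) := by
  refine ⟨fun i hi j hj => ?_, fun i hi => ?_⟩ <;> change i < 2 at hi
  · interval_cases i <;> interval_cases j
    wsimp
    simpa [mul_assoc] using h.pres.W_eq (w := [2, 1, 0]) (w' := [1, 0, 2]) rfl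
  · interval_cases i <;> wsimp
    exacts [h.vv, zz h]

theorem memV (h : Tr t v s u a) (hx : x ∈ cl [v, u * a]) :
    ∃ w ∈ [[], [2], [1, 0], [2, 1, 0]], x = W (val [a, u, v, t, s]) w := by
  obtain ⟨w, hw, rfl⟩ := (presV h).mem_cl rfl 2 le_rfl hx
  simp only [subs, List.map_cons, List.map_nil, List.cons_append, List.nil_append, List.mem_cons,
    List.not_mem_nil, or_false] at hw
  rcases hw with rfl | rfl | rfl | rfl
  · exact ⟨[], by simp, rfl⟩
  · exact ⟨[2], by simp, by simp⟩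
  · exact ⟨[1, 0], by simp, by simp⟩
  · exact ⟨[2, 1, 0], by simp, by
      simpa [mul_assoc] using h.pres.W_eq (w := [1, 0, 2]) (w' := [2, 1, 0]) rfl⟩

theorem memA_of_v (h : Tr t v s u a) (hx : x ∈ cl [a, u, v, t, s]) (e : x * v = v * x) :
    x ∈ cl [a, u, v, t] := by
  obtain ⟨w, hw, rfl⟩ := h.pres.mem_cl rfl 5 le_rfl hx
  exact W_mem_cl [a, u, v, t, s] 4 ((by decide +kernel : ∀ w ∈ subs 5,
    tbT.eqv (w ++ [2]) (2 :: w) = true → w.all (· < 4) = true) w hw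
    (h.pres.eqv h.ind (by simpa using e)))

section
variable (h : Lc t v s u a σ ρ)
include h

theorem two (hQ : IsPGroup 2 Q) (TQ : cl [a, u, v, t, s] ≤ Q) (hx : x ∈ Q) (xt : x * t = t * x)
    (xA : x ∈ nor (cl [a, u, v, t])) : x ∈ cl [a, u, v, t, s] :=
  (h.A.syl.eq_of_le (hQ.to_le (inf_le_left (b := cen1 t ⊓ nor (cl [a, u, v, t]))))
    (le_inf TQ h.A.syl.le) inf_le_right).le ⟨hx, mem_cen1.2 xt, xA⟩

/-- A `2`-subgroup of `N_C(A)` that centralizes `V` lies in `A`. -/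
theorem le_A (hQ : IsPGroup 2 Q) (h1 : Q ≤ cen1 t ⊓ nor (cl [a, u, v, t]))
    (h2 : Q ≤ cen (cl [v, u * a])) : Q ≤ cl [a, u, v, t] := by
  obtain ⟨c, c1, c2⟩ := h.A.syl.exists_cj_le hQ h1
  rw [← cj_le_cj_iff (g := c), cj_eq_self c1.2]
  refine fun y hy => memA_of_v h.toTr (c2 hy) ?_
  have := cj_mono c h2 hy
  rw [cj_centralizer, cj_eq_self (h.A.nV c (mem_cen1.1 c1.1) c1.2)] at this
  exact mem_cen_iff.1 this v (mem_cl (by simp))

theorem V_le : cl [v, u * a] ≤ cl [a, u, v, t] :=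
  cl_le.2 fun y hy => by
    simp only [List.mem_cons, List.not_mem_nil, or_false] at hy
    rcases hy with rfl | rfl
    exacts [mem_cl (by simp), mul_mem (mem_cl (by simp)) (mem_cl (by simp))]

theorem ca2 (hQ : IsPGroup 2 Q) (hc : Q ≤ cen (cl [a, u, v, t])) : Q ≤ cl [a, u, v, t] :=
  le_A h hQ (le_inf (fun y hy => mem_cen1.2 (mem_cen_iff.1 (hc hy) t (mem_cl (by simp))))
    (hc.trans (centralizer_le_normalizer _))) (hc.trans (centralizer_le (V_le h)))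

theorem ca2m (hQ : IsPGroup 2 Q) (hg : g ∈ Q) (hc : g ∈ cen (cl [a, u, v, t])) :
    g ∈ cl [a, u, v, t] :=
  ca2 h (hQ.to_le (zpowers_le.2 hg)) (zpowers_le.2 hc) (mem_zpowers g)

theorem ca2' (hQ : IsPGroup 2 Q) (hg : g ∈ Q) {l : List G}
    (hc : Act (val (a :: u :: v :: t :: l)) g [0, 1, 2, 3] []) : g ∈ cl [a, u, v, t] :=
  ca2m h hQ hg (cen_of_act hc)

/-- An element of `N_C(A)` that centralizes `V` centralizes `A`. -/
theorem cenA_of_V (h1 : g * t = t * g) (h2 : g ∈ nor (cl [a, u, v, t])) (hv : g * v = v * g)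
    (hz : g * (u * a) = u * a * g) : g ∈ cen (cl [a, u, v, t]) := by
  have cV : g ∈ cen (cl [v, u * a]) := le_cen1_iff.1 (cl_le.2 (by simp [mem_cen1, hv, hz]))
  have AA : cl [a, u, v, t] ≤ cen (cl [a, u, v, t]) := fun x hx =>
    mem_cen_iff.2 fun y hy => h.A_comm hx hy
  refine mem_of_parts (fun m hm => AA (le_A h hm (zpowers_le.2 (pow_mem (mem_inf.2 ⟨mem_cen1.2 h1, h2⟩) m))
    (zpowers_le.2 (pow_mem cV m)) (mem_zpowers _))) fun m hm => ?_
  have k1 := mem_cen1.1 (pow_mem (mem_cen1.2 h1) m)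
  have k2 := pow_mem h2 m
  have k3 := mem_cen1.1 (pow_mem (mem_cen1.2 hv) m)
  have k4 := mem_cen1.1 (pow_mem (mem_cen1.2 hz) m)
  generalize g ^ m = o at hm k1 k2 k3 k4
  have c : o ∈ cen (cl [v, u * a, t]) := le_cen1_iff.1 (cl_le.2 (by simp [mem_cen1, k1, k3, k4]))
  have le : cl [v, u * a, t] ≤ cl [a, u, v, t, s] := cl_le.2 fun y hy => by
    simp only [List.mem_cons, List.not_mem_nil, or_false] at hy
    rcases hy with rfl | rfl | rfl
    exacts [mem_cl (by simp), mul_mem (mem_cl (by simp)) (mem_cl (by simp)), mem_cl (by simp)]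
  have hu : o * u = u * o := by
    refine comm_of_stab (h.isPGroup.to_le le) hm c ?_
    obtain ⟨w, hw, e⟩ := h.pres.mem_cl rfl 4 (by decide)
      (conj_mem_of_mem_normalizer k2 (mem_cl (l := [a, u, v, t]) (y := u) (by simp)))
    rcases (by decide +kernel : ∀ w ∈ subs 4, (∃ w' ∈ subs 3, tbT.same w
        (app [(0, [2]), (1, [1, 0]), (2, [3])] w') = true) ∨ ∃ w' ∈ subs 3, tbT.same w
        (1 :: app [(0, [2]), (1, [1, 0]), (2, [3])] w') = true) w hw with ⟨w', hw', k⟩ | ⟨w', hw', k⟩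
    all_goals
      have m : W (val [a, u, v, t, s]) (app [(0, [2]), (1, [1, 0]), (2, [3])] w') ∈
          cl [v, u * a, t] := by
        simp only [subs, List.map_cons, List.map_nil, List.cons_append, List.nil_append,
          List.mem_cons, List.not_mem_nil, or_false] at hw'
        have m1 : v ∈ cl [v, u * a, t] := mem_cl (by simp)
        have m2 : u * a ∈ cl [v, u * a, t] := mem_cl (by simp)
        have m3 : t ∈ cl [v, u * a, t] := mem_cl (by simp)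
        rcases hw' with rfl | rfl | rfl | rfl | rfl | rfl | rfl | rfl <;> wsimp
        exacts [one_mem _, m1, m2, by simpa [mul_assoc] using mul_mem m2 m1, m3, mul_mem m3 m1,
          mul_mem m3 m2, by simpa [mul_assoc] using mul_mem m3 (mul_mem m2 m1)]
    · rw [← h.pres.W_eq k, ← e] at m
      have := mem_cen_iff.1 c _ m
      rw [show o * u * o⁻¹ * o = o * u by group, mul_right_inj] at this
      rw [this, inv_mul_cancel]; exact one_mem _
    · rw [e, h.pres.W_eq k, W_cons]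
      simpa using m
  have ha : o * a = a * o := by
    rw [← mul_assoc, hu, mul_assoc, mul_assoc, mul_right_inj] at k4; exact k4
  exact le_cen1_iff.1 (cl_le.2 (by simp [mem_cen1, k1, k3, hu, ha]))

/-- The action of `N_C(A)` on words of `A`. -/
theorem nA_act (h1 : g * t = t * g) (h2 : g ∈ nor (cl [a, u, v, t])) :
    ∃ w ∈ [[], [4]], ∃ f ∈ [[], sg, sgi], ∀ w' : List ℕ, w'.all (· ∈ [0, 1, 2, 3]) = true →
      g * W (val [a, u, v, t, s]) w' * g⁻¹ = W (val [a, u, v, t, s]) (w ++ app f w' ++ w.reverse) := by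
  have nV := h.A.nV g h1 h2
  obtain ⟨w1, m1, e1⟩ := memV h.toTr (conj_mem_of_mem_normalizer nV (mem_cl (y := v) (by simp)))
  obtain ⟨w2, m2, e2⟩ := memV h.toTr (conj_mem_of_mem_normalizer nV (mem_cl (y := u * a) (by simp)))
  have ne : ∀ {c : List ℕ}, tbT.eqv c [] = false → W (val [a, u, v, t, s]) c ≠ 1 := fun k =>
    h.pres.ne h.ind k
  obtain ⟨w, hw, f, hf, k1, k2⟩ := (by decide +kernel : ∀ w1 ∈ [[], [2], [1, 0], [2, 1, 0]],
      ∀ w2 ∈ [[], [2], [1, 0], [2, 1, 0]], w1 ≠ [] → w2 ≠ [] → w1 ≠ w2 → ∃ w ∈ [[], [4]],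
      ∃ f ∈ [[], sg, sgi], tbT.same (w ++ app f [2] ++ w.reverse) w1 = true ∧
        tbT.same (w ++ app f [1, 0] ++ w.reverse) w2 = true) w1 m1 w2 m2
    (fun e => ne (c := [2]) rfl (by rw [e, W_nil, conj_eq_one_iff] at e1; simpa using e1))
    (fun e => ne (c := [1, 0]) rfl (by rw [e, W_nil, conj_eq_one_iff] at e2; simpa using e2))
    (fun e => h.pres.ne h.ind (w := [2]) (w' := [1, 0]) rfl (by
      rw [e, ← e2] at e1; simpa using e1))
  obtain ⟨c, c1, c2, c3⟩ : ∃ c, c * t = t * c ∧ c ∈ nor (cl [a, u, v, t]) ∧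
      ∀ w' : List ℕ, w'.all (· ∈ [0, 1, 2, 3]) = true → c * W (val [a, u, v, t, s]) w' * c⁻¹ =
        W (val [a, u, v, t, s]) (w ++ app f w' ++ w.reverse) := by
    have lw : w.all (· < 5) = true := by
      simp only [List.mem_cons, List.not_mem_nil, or_false] at hw
      rcases hw with rfl | rfl <;> rfl
    have wT := W_mem_cl [a, u, v, t, s] 5 lw
    have cc := h.pres.conj (fun _ => rfl) (w := w) lw
    have σt := mul_inv_eq_iff_eq_mul.1 h.A.σt
    simp only [List.mem_cons, List.not_mem_nil, or_false] at hf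
    rcases hf with rfl | rfl | rfl
    · exact ⟨_, mem_cen1.1 (h.A.syl.le wT).1, (h.A.syl.le wT).2, fun w' _ => by rw [cc]; simp [app]⟩
    · exact ⟨_ * σ, mem_cen1.1 (mul_mem (h.A.syl.le wT).1 (mem_cen1.2 σt)),
        mul_mem (h.A.syl.le wT).2 (hnorA h.A), fun w' hw' => by
          rw [← cc, ← (hact h.A [s]).w hw']; group⟩
    · exact ⟨_ * σ⁻¹, mem_cen1.1 (mul_mem (h.A.syl.le wT).1 (inv_mem (mem_cen1.2 σt))),
        mul_mem (h.A.syl.le wT).2 (inv_mem (hnorA h.A)), fun w' hw' => by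
          rw [← cc, ← (hacti h.A h.toTr [s]).w hw']; group⟩
  have f1 := (c3 [2] rfl).trans ((h.pres.W_eq k1).trans e1.symm)
  have f2 := (c3 [1, 0] rfl).trans ((h.pres.W_eq k2).trans e2.symm)
  simp only [W_cons, W_nil, val_zero, val_succ, mul_one] at f1 f2
  have fl : ∀ {b : G}, c * b * c⁻¹ = g * b * g⁻¹ → c⁻¹ * g * b = b * (c⁻¹ * g) := fun {b} e => by
    calc c⁻¹ * g * b = c⁻¹ * (g * b * g⁻¹) * g := by group
      _ = _ := by rw [← e]; group
  have := cenA_of_V h (mem_cen1.1 (mul_mem (inv_mem (mem_cen1.2 c1)) (mem_cen1.2 h1)))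
    (mul_mem (inv_mem c2) h2) (fl f1) (fl f2)
  refine ⟨w, hw, f, hf, fun w' hw' => ?_⟩
  have m : W (val [a, u, v, t, s]) w' ∈ cl [a, u, v, t] := W_mem_cl [a, u, v, t, s] 4
    (List.all_eq_true.2 fun r hr => by
      have := of_decide_eq_true (List.all_eq_true.1 hw' r hr)
      simp only [List.mem_cons, List.not_mem_nil, or_false] at this
      exact decide_eq_true (by omega))
  rw [← c3 w' hw']
  calc _ = c * (c⁻¹ * g * W (val [a, u, v, t, s]) w') * g⁻¹ := by group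
    _ = _ := by rw [mem_cen_iff.1 this _ m]; group

/-- `N_C(A)` fixes `u` and permutes `z, v, v z`. -/
theorem nA_fix (h1 : g * t = t * g) (h2 : g ∈ nor (cl [a, u, v, t])) : g * u * g⁻¹ = u ∧
    (g * v * g⁻¹ = v ∨ g * v * g⁻¹ = u * a ∨ g * v * g⁻¹ = v * (u * a)) ∧
    (g * (u * a) * g⁻¹ = v ∨ g * (u * a) * g⁻¹ = u * a ∨ g * (u * a) * g⁻¹ = v * (u * a)) := by
  obtain ⟨w, hw, f, hf, e2⟩ := nA_act h h1 h2
  have k : ∀ w ∈ [[], [4]], ∀ f ∈ [[], sg, sgi], tbT.same (w ++ app f [1] ++ w.reverse) [1] = true ∧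
      ∀ c ∈ [[2], [1, 0]], tbT.same (w ++ app f c ++ w.reverse) [2] = true ∨
        tbT.same (w ++ app f c ++ w.reverse) [1, 0] = true ∨
        tbT.same (w ++ app f c ++ w.reverse) [2, 1, 0] = true := by decide +kernel
  obtain ⟨k1, k2⟩ := k w hw f hf
  refine ⟨by simpa using (e2 [1] rfl).trans (h.pres.W_eq k1), ?_, ?_⟩
  · exact (k2 [2] (by simp)).imp (fun e => by simpa using (e2 _ rfl).trans (h.pres.W_eq e))
      (Or.imp (fun e => by simpa using (e2 _ rfl).trans (h.pres.W_eq e))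
        fun e => by simpa using (e2 _ rfl).trans (h.pres.W_eq e))
  · exact (k2 [1, 0] (by simp)).imp (fun e => by simpa using (e2 _ rfl).trans (h.pres.W_eq e))
      (Or.imp (fun e => by simpa using (e2 _ rfl).trans (h.pres.W_eq e))
        fun e => by simpa using (e2 _ rfl).trans (h.pres.W_eq e))

/-- An element of `N_C(T) ∩ N(A)` acts on a `2`-group `P ≥ T` that it normalizes as one of `T`. -/
theorem inner (hP : IsPGroup 2 P) (TP : cl [a, u, v, t, s] ≤ P) (h1 : n ∈ nor P)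
    (h2 : n ∈ N0 t v s u a) (h3 : n * t = t * n) : n ∈ cl [a, u, v, t, s] ⊔ cen P := by
  refine mem_of_parts (fun m hm => mem_sup_left (two h (hm.to_sup_of_normal_right' h.isPGroup
    (zpowers_le.2 (pow_mem h2.1.1 m))) le_sup_right (mem_sup_left (mem_zpowers _))
    (mem_cen1.1 (pow_mem (mem_cen1.2 h3) m)) (pow_mem h2.1.2 m))) fun m hm => mem_sup_right ?_
  have k1 := mem_cen1.1 (pow_mem (mem_cen1.2 h3) m)
  have k2 := pow_mem h2 m
  have k3 := pow_mem h1 m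
  generalize n ^ m = o at hm k1 k2 k3
  have AP : cl [a, u, v, t] ≤ P := (cl_mono (by simp)).trans TP
  refine copr hP k3 hm AP ?_ fun x hx hc => ca2m h hP hx hc
  have ez := h.toTr.gz k2.1.1
  have zm : u * a ∈ cl [u * a] := mem_cl (by simp)
  refine cenA_of_V h k1 k2.1.2 (comm_of_stab (B := cl [u * a]) (h.isPGroup.to_le (cl_le.2 (by
    simpa using mul_mem (mem_cl (by simp)) (mem_cl (by simp))))) hm (le_cen1_iff.1 (cl_le.2 (by
    simpa [mem_cen1] using (mul_inv_eq_iff_eq_mul.1 ez).symm))) ?_) (mul_inv_eq_iff_eq_mul.1 ez)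
  rcases (nA_fix h k1 k2.1.2).2.1 with e | e | e
  · rw [e, inv_mul_cancel]; exact one_mem _
  · exact (h.pres.ne h.ind (w := [2]) (w' := [1, 0]) rfl (by rw [← ez] at e; simpa using e)).elim
  · rwa [e, inv_mul_cancel_left]

end

/-- An element of `N(T)` normalizes `A` and `B` or swaps them. -/
theorem nor_or (h : Tr t v s u a) (hg : g ∈ nor (cl [a, u, v, t, s])) : g ∈ N0 t v s u a ∨
    (cj g (cl [a, u, v, t]) = cl [u, a, s, t] ∧ cj g (cl [u, a, s, t]) = cl [a, u, v, t]) := by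
  have k : ∀ E : Subgroup G, E ≤ cl [a, u, v, t, s] → (∀ e ∈ E, e * e = 1) → Nat.card E = 16 →
      cj g E = cl [a, u, v, t] ∨ cj g E = cl [u, a, s, t] := fun E h1 h2 h3 =>
    (h.le_or (cj_le_of_le h1 hg) fun y hy => by
      simpa [mul_assoc] using congrArg (fun r => g * r * g⁻¹) (h2 _ (mem_cj.1 hy))).imp
      (fun e => eq_of_le_of_card_ge e (by rw [card_cj, h3, h.cardA]))
      fun e => eq_of_le_of_card_ge e (by rw [card_cj, h3, h.swap.cardA])
  have ne : cl [a, u, v, t] ≠ cl [u, a, s, t] := fun e => h.s_notMem (e ▸ mem_cl (by simp))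
  rcases k _ (cl_mono (by simp)) (fun _ => h.A_sq) h.cardA with e | e <;>
    rcases k _ (cl_mono (by simp)) (fun _ => h.swap.A_sq) h.swap.cardA with e' | e'
  · exact (ne (cj_inj.1 (e.trans e'.symm))).elim
  · exact Or.inl ⟨⟨hg, cj_eq_self_iff.1 e⟩, cj_eq_self_iff.1 e'⟩
  · exact Or.inr ⟨e, e'⟩
  · exact (ne (cj_inj.1 (e.trans e'.symm))).elim

theorem mem_N0 (h : Tr t v s u a) (hg : g ∈ nor (cl [a, u, v, t, s]))
    (hA : g ∈ nor (cl [a, u, v, t])) : g ∈ N0 t v s u a :=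
  (nor_or h hg).resolve_right fun e => h.s_notMem (by
    rw [← cj_eq_self hA, e.1]; exact mem_cl (by simp))

/-- `N(T)` normalizes `N0`. -/
theorem nor_N0 (h : Tr t v s u a) (hg : g ∈ nor (cl [a, u, v, t, s])) : g ∈ nor (N0 t v s u a) := by
  rw [← cj_eq_self_iff, N0, cj_inf, cj_inf, cj_normalizer, cj_normalizer, cj_normalizer,
    cj_eq_self hg]
  rcases nor_or h hg with e | e
  · rw [cj_eq_self e.1.2, cj_eq_self e.2]
  · rw [e.1, e.2, inf_right_comm]

theorem mul_N0 (h : Tr t v s u a) (hg : g ∈ nor (cl [a, u, v, t, s]))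
    (hn : n ∈ nor (cl [a, u, v, t, s])) (g0 : g ∉ N0 t v s u a) (n0 : n ∉ N0 t v s u a) :
    g * n ∈ N0 t v s u a :=
  mem_N0 h (mul_mem hg hn) (by
    rw [← cj_eq_self_iff, ← cj_cj, ((nor_or h hn).resolve_left n0).1, ((nor_or h hg).resolve_left g0).2])

theorem pair (h : Lc t v s u a σ ρ) (hg : g ∈ nor (cl [a, u, v, t]))
    (hc : cl [a, u, v, t, s] ≤ cen1 (g * t * g⁻¹)) :
    ∃ n ∈ N0 t v s u a, n * t * n⁻¹ = g * t * g⁻¹ := by
  obtain ⟨d, d1, d2⟩ := h.A.syl.exists_cj_le (isPGroup_cj g⁻¹ h.isPGroup)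
    (le_inf (by rwa [cj_le_iff, inv_inv, cj_cen1]) (cj_le_of_le_of_mem h.le_norA (inv_mem hg)))
  rw [cj_cj] at d2
  refine ⟨g * d⁻¹, mem_N0 h.toTr (by simpa using inv_mem (mem_normalizer_of_cj_le d2))
    (mul_mem hg (inv_mem d1.2)), ?_⟩
  rw [mul_assoc g, mem_cen1.1 (inv_mem d1.1)]; group

/-- Without `d`, `A` and `B` are not conjugate in `C(t)`. -/
theorem not_AB (h : Lc t v s u a σ ρ) (hS : IsSyl 2 (cl [a, u, v, t, s]) (cen1 t))
    (h1 : g * t = t * g) (h2 : cj g (cl [u, a, s, t]) ≤ cl [a, u, v, t]) : False := by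
  have e := eq_of_le_of_card_ge h2 (by rw [card_cj, h.cardA, h.toTr.swap.cardA])
  obtain ⟨d, d1, d2⟩ := h.A.syl.exists_cj_le
    (isPGroup_cj g h.isPGroup) (le_inf (cj_le_of_le_of_mem hS.le (mem_cen1.2 h1))
      (by rw [← e, nor, ← cj_normalizer]; exact cj_mono _ h.le_norB))
  rw [cj_cj] at d2
  have n1 := mem_normalizer_of_cj_le d2
  have n2 := mul_mem d1.1 (mem_cen1.2 h1)
  have n0 : d * g ∉ N0 t v s u a := fun k => by
    have := cj_eq_self k.2
    rw [← cj_cj, e, cj_eq_self d1.2] at this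
    exact h.s_notMem (this ▸ mem_cl (by simp))
  obtain ⟨m, hm, k⟩ := two_odd (d * g) 0
  have := hS.le_of_le_normalizer' k (zpowers_le.2 (pow_mem n2 m)) (zpowers_le.2 (pow_mem n1 m))
    (mem_zpowers _)
  exact n0 (mem_of_sq hm ⟨⟨le_normalizer this, h.le_norA this⟩, h.le_norB this⟩
    (mul_N0 h.toTr n1 n1 n0 n0))

theorem pab (h : Lc t v s u a σ ρ) (hS : IsSyl 2 (cl [a, u, v, t, s]) (cen1 t)) {g₁ g₂ : G}
    (h1 : g₁ ∈ nor (cl [a, u, v])) (h2 : cj g₂ (cl [u, a, s]) ≤ cl [a, u, v])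
    (e : g₁ * t * g₁⁻¹ = g₂ * t * g₂⁻¹) : False := by
  have c : g₁⁻¹ * g₂ * t = t * (g₁⁻¹ * g₂) := by
    calc g₁⁻¹ * g₂ * t = g₁⁻¹ * (g₂ * t * g₂⁻¹) * g₂ := by group
      _ = _ := by rw [← e]; group
  refine not_AB h hS c (cj_le_iff.2 (cl_le.2 fun y hy => mem_cj.2 ?_))
  have k : ∀ y ∈ cl [u, a, s], (g₁⁻¹ * g₂)⁻¹⁻¹ * y * (g₁⁻¹ * g₂)⁻¹ ∈ cl [a, u, v, t] := fun y hy =>
    cl_mono (l := [a, u, v]) (by simp) (by
      simpa [mul_assoc] using (mem_normalizer_iff''.1 h1 _).1 (h2 (conj_mem_cj hy)))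
  simp only [List.mem_cons, List.not_mem_nil, or_false] at hy
  rcases hy with rfl | rfl | rfl | rfl
  iterate 3 exact k _ (mem_cl (by simp))
  rw [inv_inv, c, mul_inv_cancel_right]
  exact mem_cl (by simp)

/-! ### `T* = T ⟨d⟩` -/

def fd : List (ℕ × List ℕ) := [(0, [1]), (1, [0]), (2, [4]), (4, [2])]

/-- Letters `a u v t s d`. -/
def tbD (b : Bool) : Tb := tbT.ext fd (ow b [3])

theorem Dd.act (k : Dd t v s u a d) (l : List G) :
    Act (val (a :: u :: v :: t :: s :: l)) d (List.range 5) fd := fun r hr => by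
  have hr := List.mem_range.1 hr
  interval_cases r <;> simp only [fd] <;> wsimp
  exacts [k.da, k.du, k.dv, k.dt, k.ds]

theorem Dd.norT (k : Dd t v s u a d) : d ∈ nor (cl [a, u, v, t, s]) := by
  have := (k.act []).nor (by decide)
  rwa [H_val] at this

theorem Dd.pres (k : Dd t v s u a d) (h : Tr t v s u a) :
    ∃ b, Pres (tbD b) (val [a, u, v, t, s, d]) ∧ d * d = bif b then t else 1 := by
  have P : Pres tbT (val [a, u, v, t, s, d]) :=
    pres_congr (fun i hi => by change i < 5 at hi; interval_cases i <;> rfl) h.pres rfl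
  have A := act_inv P (k.act [d]) rfl rfl
  rcases k.dd with e | e
  · exact ⟨false, pres_top P A e, e⟩
  · exact ⟨true, pres_top P A (by simpa [ow, tbT, Tb.of] using e), e⟩

theorem Dd.not_norA (k : Dd t v s u a d) (h : Tr t v s u a) : d ∉ nor (cl [a, u, v, t]) := fun e =>
  h.s_notMem (k.dv ▸ conj_mem_of_mem_normalizer e (mem_cl (by simp)))

theorem Dd.ind (k : Dd t v s u a d) (h : Tr t v s u a) : Ind (val [a, u, v, t, s, d]) 6 :=
  h.ind.snoc (l := [a, u, v, t, s]) fun e => k.not_norA h (h.le_norA e)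

theorem Dd.card (k : Dd t v s u a d) (h : Tr t v s u a) : Nat.card (cl [a, u, v, t, s, d]) = 64 := by
  obtain ⟨b, P, -⟩ := k.pres h
  have := P.card (by cases b <;> rfl) (k := 6) le_rfl (k.ind h)
  rwa [H_val] at this

/-- Involutions outside `T` do not lie in an `E₁₆`. -/
theorem Dd.e16 (k : Dd t v s u a d) (h : Tr t v s u a) (hE : E ≤ cl [a, u, v, t, s, d])
    (h2 : ∀ e ∈ E, e * e = 1) (hc : Nat.card E = 16) : E ≤ cl [a, u, v, t, s] := by
  classical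
  obtain ⟨b, P, -⟩ := k.pres h
  have wf : (tbD b).wf = true := by cases b <;> rfl
  intro e he
  obtain ⟨w, hw, e1⟩ := P.mem_cl wf 6 le_rfl (hE he)
  rcases (by decide +kernel : ∀ b, ∀ w ∈ subs 6, w.all (· < 5) = true ∨ ((tbD b).eqv (w ++ w) [] = true →
      ((subs 6).filter fun w' => (tbD b).eqv (w' ++ w') [] && (tbD b).eqv (w ++ w') (w' ++ w)).length
        < 16)) b w hw with k1 | k1
  · exact e1 ▸ cl_mono (by simp) (W_mem_cl [a, u, v, t, s, d] 5 k1)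
  exfalso
  have k1 := k1 (P.eqv (k.ind h) (by rw [W_append, ← e1, h2 e he, W_nil]))
  have : (E : Set G) ⊆ ↑(((subs 6).filter fun w' => (tbD b).eqv (w' ++ w') [] &&
      (tbD b).eqv (w ++ w') (w' ++ w)).map (W (val [a, u, v, t, s, d]))).toFinset := fun y hy => by
    obtain ⟨w', hw', e2⟩ := P.mem_cl wf 6 le_rfl (hE hy)
    refine List.mem_toFinset.2 (List.mem_map.2 ⟨w', List.mem_filter.2 ⟨hw', ?_⟩, e2.symm⟩)
    rw [P.eqv (k.ind h) (by rw [W_append, ← e2, h2 y hy, W_nil]), P.eqv (k.ind h) (by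
      rw [W_append, W_append, ← e1, ← e2, ← inv_eq_of_mul_eq_one_right (h2 _ (mul_mem he hy)),
        mul_inv_rev, inv_eq_of_mul_eq_one_right (h2 _ he), inv_eq_of_mul_eq_one_right (h2 _ hy)])]
    rfl
  have := Set.ncard_le_ncard this
  rw [Set.ncard_coe_finset, ← Nat.card_coe_set_eq, SetLike.coe_sort_coe, hc] at this
  have := this.trans (List.toFinset_card_le _)
  rw [List.length_map] at this
  omega

namespace Loc

variable (h : Loc t v s u a σ ρ)
include h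

theorem exists_cj (hx : IsConj t x) (hQ : IsPGroup 2 Q) (hc : Q ≤ cen1 x) : ∃ g, g * t * g⁻¹ = x ∧
    (cj g⁻¹ Q ≤ cl [a, u, v, t, s] ∨ ∃ d, Dd t v s u a d ∧ cj g⁻¹ Q ≤ cl [a, u, v, t, s, d]) := by
  obtain ⟨c, rfl⟩ := isConj_iff.1 hx
  have k : ∀ S, IsSyl 2 S (cen1 t) → ∃ g, g * t * g⁻¹ = c * t * c⁻¹ ∧ cj g⁻¹ Q ≤ S := fun S hS => by
    obtain ⟨d, d1, d2⟩ := hS.exists_cj_le (isPGroup_cj c⁻¹ hQ) (by rwa [cj_le_iff, inv_inv, cj_cen1])
    refine ⟨c * d⁻¹, ?_, by rwa [mul_inv_rev, inv_inv, ← cj_cj]⟩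
    rw [mul_assoc c, mem_cen1.1 (inv_mem d1)]; group
  rcases h.top with e | ⟨d, e⟩
  · exact (k _ e).imp fun g e => ⟨e.1, Or.inl e.2⟩
  · exact (k _ e.syl).imp fun g e' => ⟨e'.1, Or.inr ⟨d, e, e'.2⟩⟩

theorem card_le (hx : IsConj t x) (hQ : IsPGroup 2 Q) (hc : Q ≤ cen1 x) : Nat.card Q ≤ 64 := by
  obtain ⟨g, -, e | ⟨d, k, e⟩⟩ := h.exists_cj hx hQ hc <;> rw [← card_cj g⁻¹]
  · exact (card_le_of_le e).trans (by rw [h.card]; decide)
  · exact (card_le_of_le e).trans (k.card h.toTr).le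

theorem e16 (hx : IsConj t x) (h2 : ∀ e ∈ E, e * e = 1) (hc : Nat.card E = 16) (hE : x ∈ cen E) :
    ∃ g, g * t * g⁻¹ = x ∧ (E = cj g (cl [a, u, v, t]) ∨ E = cj g (cl [u, a, s, t])) := by
  obtain ⟨g, e1, e⟩ := h.exists_cj hx (IsPGroup.of_card (n := 4) hc) (le_cen1_iff.2 hE)
  have h3 : ∀ y ∈ cj g⁻¹ E, y * y = 1 := fun y hy => by
    simpa [mul_assoc] using congrArg (fun r => g⁻¹ * r * g) (h2 _ (mem_cj.1 hy))
  refine ⟨g, e1, (h.le_or (e.elim id fun ⟨d, k, e⟩ => k.e16 h.toTr e h3 (by rw [card_cj, hc])) h3).imp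
    (fun e => ?_) fun e => ?_⟩
  · rw [← eq_of_le_of_card_ge e (by rw [card_cj, hc, h.cardA]), cj_cj, mul_inv_cancel, cj_one]
  · rw [← eq_of_le_of_card_ge e (by rw [card_cj, hc, h.toTr.swap.cardA]), cj_cj, mul_inv_cancel,
      cj_one]

/-- (SC) -/
theorem sc (hx : IsConj t x) (h2 : ∀ e ∈ E, e * e = 1) (hc : Nat.card E = 16) (hE : x ∈ cen E)
    (hQ : IsPGroup 2 Q) (le : Q ≤ cen E) : Q ≤ E := by
  obtain ⟨g, -, rfl | rfl⟩ := h.e16 hx h2 hc hE <;> rw [← cj_le_cj_iff (g := g⁻¹)] at le ⊢ <;>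
    rw [cj_centralizer] at le <;> rw [cj_cj, inv_mul_cancel, cj_one] at le ⊢
  exacts [ca2 h.toLc (isPGroup_cj _ hQ) le, ca2 (lc_swap h.toLc) (isPGroup_cj _ hQ) le]

/-- (N32) -/
theorem n32 (hx : IsConj t x) (h2 : ∀ e ∈ E, e * e = 1) (hc : Nat.card E = 16) (hE : x ∈ cen E)
    (hQ : IsPGroup 2 Q) (le : Q ≤ cen1 x ⊓ nor E) :
    ∃ g, g * t * g⁻¹ = x ∧ cj g⁻¹ Q ≤ cl [a, u, v, t, s] := by
  have k : ∀ g A, IsSyl 2 (cl [a, u, v, t, s]) (cen1 t ⊓ nor A) → Q ≤ cen1 (g * t * g⁻¹) ⊓ nor (cj g A) →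
      ∃ c, c * t * c⁻¹ = g * t * g⁻¹ ∧ cj c⁻¹ Q ≤ cl [a, u, v, t, s] := fun g A hS le => by
    obtain ⟨d, d1, d2⟩ := hS.exists_cj_le (isPGroup_cj g⁻¹ hQ) (by
      rwa [cj_le_iff, inv_inv, cj_inf, cj_cen1, cj_normalizer])
    refine ⟨g * d⁻¹, ?_, by rwa [mul_inv_rev, inv_inv, ← cj_cj]⟩
    rw [mul_assoc g, mem_cen1.1 (inv_mem d1.1)]; group
  obtain ⟨g, rfl, rfl | rfl⟩ := h.e16 hx h2 hc hE
  exacts [k g _ h.A.syl le, k g _ (cl_swap a u v t s ▸ h.B.syl) le]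

theorem burn (hx : IsConj t x) (hc : cl [a, u, v, t, s] ≤ cen1 x) :
    ∃ n ∈ nor (cl [a, u, v, t, s]), n * t * n⁻¹ = x := by
  obtain ⟨g, e1, e2⟩ := h.n32 hx (fun _ => h.A_sq) h.cardA
    (le_cen1_iff.1 ((cl_mono (by simp)).trans hc)) h.isPGroup (le_inf hc h.le_norA)
  exact ⟨g, by simpa using inv_mem (mem_normalizer_of_cj_le e2), e1⟩

theorem nz : ¬ IsConj t (u * a) := fun c => by
  obtain ⟨n, hn, e⟩ := h.burn c (le_cen1_iff.2 (by simpa using h.toTr.zw_mem (w := [1, 0]) (by decide)))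
  rw [← h.toTr.gz hn] at e
  exact h.pres.ne h.ind (w := [3]) (w' := [1, 0]) rfl (by simpa using e)

theorem ne_one : ¬ IsConj t 1 := fun c =>
  h.pres.ne h.ind (w := [3]) (w' := []) rfl (by simpa using isConj_one_left.1 c)

end Loc

/-- `t` is not a square if there is no `d`. -/
theorem not_sq (h : Tr t v s u a) (hS : IsSyl 2 (cl [a, u, v, t, s]) (cen1 t)) (x : G)
    (hx : IsConj t (x * x)) : False := by
  obtain ⟨c, e⟩ := isConj_iff.1 hx.symm
  rw [← conj_mul] at e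
  generalize c * x * c⁻¹ = y at e
  obtain ⟨d, d1, d2⟩ := hS.exists_cj_le (isPGroup_zpowers (x := y) (k := 2) (by
    rw [show 2 ^ 2 = 2 * 2 by rfl, pow_mul, pow_two y, e, pow_two, h.tt]))
    (zpowers_le.2 (mem_cen1.2 (by rw [← e, mul_assoc])))
  have := h.sq_T (d2 (conj_mem_cj (mem_zpowers y)))
  rw [conj_mul, e, mem_cen1.1 d1, mul_inv_cancel_right] at this
  rcases this with e | e
  · exact h.pres.ne h.ind (w := [3]) (w' := []) rfl (by simpa using e)
  · exact h.pres.ne h.ind (w := [3]) (w' := [1, 0]) rfl (by simpa using e)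

/-- `t` is not a square if `d ^ 2 = 1`. -/
theorem Dd.not_sq (k : Dd t v s u a d) (h : Tr t v s u a) (dd : d * d = 1) (x : G)
    (hx : IsConj t (x * x)) : False := by
  obtain ⟨c, e⟩ := isConj_iff.1 hx.symm
  rw [← conj_mul] at e
  generalize c * x * c⁻¹ = y at e
  obtain ⟨d', d1, d2⟩ := k.syl.exists_cj_le (isPGroup_zpowers (x := y) (k := 2) (by
    rw [show 2 ^ 2 = 2 * 2 by rfl, pow_mul, pow_two y, e, pow_two, h.tt]))
    (zpowers_le.2 (mem_cen1.2 (by rw [← e, mul_assoc])))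
  obtain ⟨b, P, e1⟩ := k.pres h
  cases b
  · obtain ⟨w, hw, e2⟩ := P.mem_cl rfl 6 le_rfl (d2 (conj_mem_cj (mem_zpowers y)))
    refine P.ne (k.ind h) ((by decide +kernel : ∀ w ∈ subs 6,
      (tbD false).eqv (w ++ w) [3] = false) w hw) ?_
    rw [W_append, ← e2, conj_mul, e, mem_cen1.1 d1]; simp
  · exact h.pres.ne h.ind (w := [3]) (w' := []) rfl (by simpa using e1.symm.trans dd)

/-- `A₀` contains no conjugate of `t`. -/
theorem Base.notD (h : Base t v s u a σ ρ) (hx : x ∈ cl [a, u, v]) : ¬ IsConj t x := fun c => by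
  obtain ⟨w, hw, rfl⟩ := h.pres.mem_cl rfl 3 (by decide) hx
  have k : ∀ w ∈ subs 3, w.all (· ∈ [0, 1, 2, 3]) = true ∧ ∃ f ∈ [[], sg, sgi],
      ∃ w' ∈ subs 2, tbT.same (app f w) w' = true := by decide +kernel
  obtain ⟨k1, f, hf, w', hw', e⟩ := k w hw
  have c' : IsConj t (W (val [a, u, v, t, s]) w') := by
    rw [← h.pres.W_eq e]
    simp only [List.mem_cons, List.not_mem_nil, or_false] at hf
    rcases hf with rfl | rfl | rfl
    · simpa [app] using c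
    · exact c.trans (isConj_iff.2 ⟨_, (hact h.A [s]).w k1⟩)
    · exact c.trans (isConj_iff.2 ⟨_, (hacti h.A h.toTr [s]).w k1⟩)
  simp only [subs, List.map_cons, List.map_nil, List.cons_append, List.nil_append, List.mem_cons,
    List.not_mem_nil, or_false] at hw'
  rcases hw' with rfl | rfl | rfl | rfl
  · exact h.ne_one (by simpa using c')
  · exact h.na (by simpa using c')
  · exact h.nu (by simpa using c')
  · exact h.nz (by simpa using c')

theorem N1.ind (h : N1 t v s u a σ ρ y) : Ind (val [a, u, v, t, s, y]) 6 :=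
  h.toTr.ind.snoc (l := [a, u, v, t, s]) fun e => by
    have := h.pres.cj 5 (by decide) 3 (by decide)
    simp only [tbN] at this
    wsimp at this
    rw [← mem_cen1.1 (h.A.syl.le e).1, mul_right_inj] at this
    exact h.toTr.pres.ne h.toTr.ind (w := [3]) (w' := [3, 1, 0]) rfl (by simpa using this)

theorem W1.ind {α β γa γu : Bool} (h : W1 t v s u a σ ρ p q α β γa γu) :
    Ind (val [a, u, v, t, s, p, q]) 7 := by
  have I : Ind (val [a, u, v, t, s, p]) 6 := h.toTr.ind.snoc (l := [a, u, v, t, s]) fun e => by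
    have := h.pres.cj 5 (show 5 < 7 by decide) 3 (by decide)
    simp only [tbW] at this
    wsimp at this
    rw [← mem_cen1.1 (h.A.syl.le e).1, mul_right_inj] at this
    exact h.toTr.pres.ne h.toTr.ind (w := [3]) (w' := [3, 1]) rfl (by simpa using this)
  refine I.snoc (l := [a, u, v, t, s, p]) fun e => ?_
  obtain ⟨w, hw, e⟩ := h.pres.mem_cl ((by decide +kernel : ∀ α β γa γu, (tbW α β γa γu).wf = true)
    _ _ _ _) 6 (show 6 ≤ 7 by decide) e
  have k : ∀ α β γa γu, ∀ w ∈ subs 6, (tbW α β γa γu).same ([3] ++ w) (w ++ [3]) = true ∨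
      (tbW α β γa γu).same ([3] ++ w) (w ++ [3, 1]) = true := by decide +kernel
  have := h.pres.cj 6 (show 6 < 7 by decide) 3 (by decide)
  simp only [tbW] at this
  wsimp at this
  rcases k α β γa γu w hw with k | k <;> have k := h.pres.W_eq k <;> rw [W_append, W_append, ← e] at k
  · exact h.toTr.pres.ne h.toTr.ind (w := [3]) (w' := [3, 0]) rfl (by simpa [this] using k.symm)
  · exact h.toTr.pres.ne h.toTr.ind (w := [3, 1]) (w' := [3, 0]) rfl (by simpa [this] using k.symm)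

end H85.DZ
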