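import Cfsg.Agent.H85.S3Kit
import Cfsg.Agent.H85.DZKit
import Cfsg.Agent.H96.QUTool

/-! S3: the reduction to `|K|₂ = 2` and an element of `N(T)` with `t ↦ t z`. -/

set_option autoImplicit false
set_option linter.unusedSectionVars false

namespace H85.S3

open Subgroup Cfsg H14 H98 H1.Gold H31.S2 H85.FZ H49.D8

universe u

variable {G : Type u} [Group G] [Finite G] {v s z j d e g x y c r n t : G} {A K T X : Subgroup G}

/-- `x ∈ (T ⊓ K) S`. -/
def Inn (K T : Subgroup G) (v s j x : G) : Prop := ∃ r ∈ T ⊓ K, ∃ d ∈ cl [v, s, j], x = r * d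

namespace Fr

variable (f : Fr (cen1 t) A K T v s z j) (h : Ct t A K)
include f h

theorem zT : z ∈ T := f.S_le f.toSD.z_mem

theorem tt : t * t = 1 := by rw [← pow_two, ← h.o, pow_orderOf_eq_one]

theorem tA : t ∉ A := fun k => by simpa [f.one h.toSc (f.tT h) k h.tK] using h.o

theorem cz (hc : c ∈ T ⊓ cen (cl [v, s])) : z * c = c * z := mcen.1 hc.2 z f.toDH.z_mem

theorem com_in (hc : c ∈ T) (i : In K z c) (hd : d ∈ cl [v, s, j]) : d * c = c * d :=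
  i.elim (fun k => f.KS h.toSc hc k hd) fun k => by
    have := f.KS h.toSc (mul_mem hc (f.zT h)) k hd
    rwa [mul_assoc c, ← f.toSD.cz hd, ← mul_assoc, ← mul_assoc, mul_left_inj] at this

theorem com_out (hc : c ∈ T ⊓ cen (cl [v, s])) (i : ¬ In K z c) (hd : d ∈ cl [v, s, j])
    (k : d ∉ cl [v, s]) : d * c = c * z * d := by
  have := mcen.1 hc.2 _ ((f.toSD.mem hd).resolve_left k)
  rw [← (f.out c hc i).2.1]
  calc d * c = j * (j⁻¹ * d * c) := by group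
    _ = _ := by rw [this]; group

theorem sqK (hc : c ∈ T ⊓ cen (cl [v, s])) : c * c ∈ K := by
  by_cases i : In K z c
  · refine i.elim (fun k => mul_mem k k) fun k => ?_
    have := mul_mem k k
    rwa [mul_assoc, ← mul_assoc z, f.cz h hc, mul_assoc, f.zz, mul_one] at this
  · exact (f.out c hc i).1

theorem sq (hc : c ∈ T ⊓ cen (cl [v, s])) (hd : d ∈ cl [v, s, j]) :
    (c * d * (c * d) = c * c * (d * d) ∧ (In K z c ∨ d ∈ cl [v, s])) ∨
      (c * d * (c * d) = c * c * (z * (d * d)) ∧ ¬ In K z c ∧ d ∉ cl [v, s]) := by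
  by_cases i : In K z c ∨ d ∈ cl [v, s]
  · refine Or.inl ⟨?_, i⟩
    rw [mul_assoc, ← mul_assoc d, i.elim (f.com_in h hc.1 · hd) (mcen.1 hc.2 d)]; group
  · rw [not_or] at i
    refine Or.inr ⟨?_, i⟩
    rw [mul_assoc, ← mul_assoc d, f.com_out h hc i.1 hd i.2]; group

theorem split (h1 : r ∈ T) (h2 : r ∈ K) (hd : d ∈ cl [v, s, j]) (k : r * d = 1) : r = 1 ∧ d = 1 := by
  have := f.one h.toSc h1 (eq_inv_of_mul_eq_one_left k ▸ inv_mem (f.S_leA hd)) h2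
  exact ⟨this, by rwa [this, one_mul] at k⟩

theorem inn (hc : c ∈ T) (i : In K z c) (hd : d ∈ cl [v, s, j]) : Inn K T v s j (c * d) :=
  i.elim (fun k => ⟨c, ⟨hc, k⟩, d, hd, rfl⟩) fun k => ⟨c * z, ⟨mul_mem hc (f.zT h), k⟩, z * d,
    mul_mem f.toSD.z_mem hd, by rw [mul_assoc, ← mul_assoc z, f.zz, one_mul]⟩

theorem inn_sq (hx : x ∈ T) : Inn K T v s j (x * x) := by
  obtain ⟨c, hc, d, hd, rfl⟩ := f.dec h.nA hx
  rcases f.sq h hc hd with k | k
  exacts [⟨_, ⟨mul_mem hc.1 hc.1, f.sqK h hc⟩, _, mul_mem hd hd, k.1⟩,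
    ⟨_, ⟨mul_mem hc.1 hc.1, f.sqK h hc⟩, _, mul_mem f.toSD.z_mem (mul_mem hd hd), k.1⟩]

theorem cjt (hn : n ∈ nor T) : T ≤ cen1 (n * t * n⁻¹) := by
  rw [← cj_cen1, ← cj_eq_self hn]; exact cj_mono n f.syl.le

theorem mv (hn : n ∈ nor T) : n * t * n⁻¹ = t ∨ n * t * n⁻¹ = z ∨ n * t * n⁻¹ = t * z :=
  (f.zen h (conj_mem_of_mem_normalizer hn (f.tT h)) (by rw [conj_mul, f.tt h]; simp)
    fun _ hd => mc1.1 (f.cjt h hn (f.S_le hd))).resolve_left fun k => by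
      simpa [conj_eq_one_iff.1 k] using h.o

theorem fix : Fix t K T := by
  intro r rT rK rr n hn
  have tt := f.tt h
  have tc := fun y hy => mc1.1 (f.syl.le (x := y) hy)
  have cy := h.cyc (T ⊓ K) inf_le_right (f.syl.isPGroup.to_le inf_le_left)
  have ab : ∀ a ∈ T ⊓ K, a * r = r * a := fun a ha => congrArg Subtype.val
    (cy.isMulCommutative.is_comm.comm (⟨a, ha⟩ : ↥(T ⊓ K)) ⟨r, rT, rK⟩)
  have cK : ∀ y ∈ T, ∀ a ∈ K, y * a * y⁻¹ ∈ K := fun y hy a =>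
    conj_mem_of_mem_normalizer (h.nK (f.syl.le hy))
  have a1 : ∀ y ∈ T, y * r * y⁻¹ = r ∨ y * r * y⁻¹ = t * r := fun y hy => by
    have m : y * r * y⁻¹ ∈ T ⊓ K := ⟨T.mul_mem (mul_mem hy rT) (inv_mem hy), cK y hy r rK⟩
    refine (h.uniq f.syl.isPGroup (f.tT h) (T.mul_mem m.1 (inv_mem rT))
      (K.mul_mem m.2 (inv_mem rK)) ?_).imp
      mul_inv_eq_one.1 mul_inv_eq_iff_eq_mul.1
    have e : y * r * y⁻¹ * (y * r * y⁻¹) = r * r := by rw [conj_mul, rr, tc y hy]; group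
    calc _ = y * r * y⁻¹ * r⁻¹ * (y * r * y⁻¹ * r) * r⁻¹ * r⁻¹ := by group
      _ = y * r * y⁻¹ * (y * r * y⁻¹) * (r * r)⁻¹ := by rw [ab _ m]; group
      _ = 1 := by rw [e, mul_inv_cancel]
  have i0 : ∀ c ∈ T, In K z c → c * r = r * c := fun c hc i => i.elim (fun k => ab c ⟨hc, k⟩) fun k => by
    have := ab _ ⟨mul_mem hc (f.zT h), k⟩
    rwa [mul_assoc, f.KS h.toSc rT rK f.toSD.z_mem, ← mul_assoc, ← mul_assoc, mul_left_inj] at this
  have r1 : n * r * n⁻¹ ∈ T := conj_mem_of_mem_normalizer hn rT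
  have r2 : n * r * n⁻¹ * (n * r * n⁻¹) = n * t * n⁻¹ := by rw [conj_mul, rr]
  have up : ∀ y, n⁻¹ * y * n * r = r * (n⁻¹ * y * n) ↔ y * (n * r * n⁻¹) = n * r * n⁻¹ * y := fun y =>
    ⟨fun k => by simpa [mul_assoc] using congrArg (fun a => n * a * n⁻¹) k,
      fun k => by simpa [mul_assoc] using congrArg (fun a => n⁻¹ * a * n) k⟩
  have a2 : ∀ y ∈ T, y * (n * r * n⁻¹) = n * r * n⁻¹ * y ∨
      y * (n * r * n⁻¹) * y⁻¹ * (n * r * n⁻¹)⁻¹ = n * t * n⁻¹ := fun y hy =>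
    (a1 _ (conj_mem_of_mem_normalizer' hn hy)).imp (fun k => (up y).1 (mul_inv_eq_iff_eq_mul.1 k))
      fun k => by
        calc _ = n * (n⁻¹ * y * n * r * (n⁻¹ * y * n)⁻¹) * r⁻¹ * n⁻¹ := by group
          _ = _ := by rw [k]; group
  have m := f.mv h hn
  have zn : n * t * n⁻¹ = z → n⁻¹ * z * n = t := fun k => by rw [← k]; group
  generalize n * r * n⁻¹ = q at r1 r2 up a2
  generalize n * t * n⁻¹ = t' at r2 a2 m zn
  by_contra ne
  replace m := m.resolve_left ne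
  have nS : ¬ ∀ d ∈ cl [v, s, j], d * q = q * d := fun k => by
    have := f.sqK h (c := q) ⟨r1, mcen.2 fun d hd => k d (f.toSD.D_le hd)⟩
    rw [r2] at this
    rcases m with rfl | rfl
    exacts [f.zK h.toSc this, f.zK h.toSc ((mul_mem_cancel_left h.tK).1 this)]
  obtain rfl : t' = z := by
    obtain ⟨d, hd, k⟩ : ∃ d ∈ cl [v, s, j], d * q ≠ q * d := by simpa using nS
    have := (a2 d (f.S_le hd)).resolve_left k
    refine m.resolve_right fun e => f.tA h ((mul_mem_cancel_right (f.S_leA f.toSD.z_mem)).1 ?_)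
    rw [← e, ← this, show d * q * d⁻¹ * q⁻¹ = d * (q * d⁻¹ * q⁻¹) by group]
    exact mul_mem (f.S_leA hd) (conj_mem_of_mem_normalizer (h.nA (f.syl.le r1)) (inv_mem (f.S_leA hd)))
  obtain ⟨c, hc, cr⟩ : ∃ c ∈ T ⊓ cen (cl [v, s]), c * r ≠ r * c := by
    by_contra k
    push Not at k
    refine nS fun d hd => (up d).1 ?_
    obtain ⟨c, hc, d', hd', e⟩ := f.dec h.nA (conj_mem_of_mem_normalizer' hn (f.S_le hd))
    rw [e, mul_assoc, f.KS h.toSc rT rK hd', ← mul_assoc, k c hc, mul_assoc]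
  have ci : ¬ In K t' c := fun i => cr (i0 c hc.1 i)
  have i1 : ∀ c' ∈ T ⊓ cen (cl [v, s]), c' * r = r * c' → In K t' c' := fun c' hc' k =>
    ((f.idx c hc c' hc').resolve_left ci).resolve_right fun i => cr (by
      have := i0 _ (mul_mem hc.1 hc'.1) i
      rwa [mul_assoc, k, ← mul_assoc, ← mul_assoc, mul_left_inj] at this)
  have i2 : ∀ y ∈ T, y * r = r * y → Inn K T v s j y := fun y hy k => by
    obtain ⟨c', hc', d, hd, rfl⟩ := f.dec h.nA hy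
    refine f.inn h hc'.1 (i1 c' hc' ?_) hd
    rwa [mul_assoc, f.KS h.toSc rT rK hd, ← mul_assoc, ← mul_assoc, mul_left_inj] at k
  have qr : q * r = r * q := by
    rcases a2 r rT with k | k
    · exact k.symm
    · refine absurd ?_ (f.zK h.toSc)
      rw [← k, show r * q * r⁻¹ * q⁻¹ = r * (q * r⁻¹ * q⁻¹) by group]
      exact mul_mem rK (cK q r1 _ (inv_mem rK))
  obtain ⟨c0, h0, d, hd, rfl⟩ := i2 q r1 qr
  have cd := f.KS h.toSc h0.1 h0.2 hd
  obtain ⟨e1, e2⟩ := f.split h (r := c0 * c0) (d := d * d * t') (mul_mem h0.1 h0.1) (mul_mem h0.2 h0.2)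
    (mul_mem (mul_mem hd hd) f.toSD.z_mem) (by
      rw [← f.zz]; nth_rewrite 2 [← r2]; rw [mul_assoc c0 d, ← mul_assoc d, cd]; group)
  have dD : d ∈ cl [v, s] := f.toSD.of_nv hd (by
    rcases a2 v (f.S_le (f.toSD.D_le (m1 v s))) with k | k
    · rw [← mul_assoc, f.KS h.toSc h0.1 h0.2 (f.toSD.D_le (m1 v s)), mul_assoc, mul_assoc,
        mul_right_inj] at k
      rw [← k, mul_inv_cancel_right]; exact m1 _ _
    · have k' := f.KS h.toSc h0.1 h0.2 (mul_mem (mul_mem hd (inv_mem (f.toSD.D_le (m1 v s)))) (inv_mem hd))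
      rw [show v * (c0 * d) * v⁻¹ * (c0 * d)⁻¹ = v * (c0 * (d * v⁻¹ * d⁻¹)) * c0⁻¹ by group, ← k'] at k
      rw [show d * v * d⁻¹ = (v * (d * v⁻¹ * d⁻¹ * c0) * c0⁻¹)⁻¹ * v by group, k]
      exact mul_mem (inv_mem (m2 _ _)) (m1 _ _))
  have c1 : ∀ y ∈ T, y * c0 = c0 * y := fun y hy => by
    rcases h.uniq f.syl.isPGroup (f.tT h) h0.1 h0.2 e1 with rfl | rfl
    exacts [by simp, tc y hy]
  have jv : j * v ∈ cl [v, s, j] := mul_mem f.toSD.j_mem (f.toSD.D_le (m1 v s))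
  have c2 : j * v * d = d * (j * v) := by
    obtain ⟨w, hw, rfl⟩ := f.toSD.pres.mem_cl rfl 3 (by decide) (f.toDH.cl3 ▸ dD)
    simpa [mul_assoc] using f.toSD.pres.W_eq ((by decide +kernel : ∀ w ∈ subs 3,
      tbS.eqv (w ++ w ++ [0]) [] = true → tbS.same ([3, 1] ++ w) (w ++ [3, 1]) = true) w hw
      (f.toSD.pres.eqv f.toSD.ind (by simpa [mul_assoc] using e2)))
  obtain ⟨r1, m1, d1, n1, e3⟩ := i2 _ (conj_mem_of_mem_normalizer' hn hc.1) ((up c).2 (by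
    rw [← mul_assoc, c1 c hc.1, mul_assoc, mul_assoc, mcen.1 hc.2 d dD]))
  obtain ⟨r2, m2, d2, n2, e4⟩ := i2 _ (conj_mem_of_mem_normalizer' hn (f.S_le jv)) ((up _).2 (by
    rw [← mul_assoc, c1 _ (f.S_le jv), mul_assoc, c2, mul_assoc c0]))
  have e5 := f.com_out h hc ci jv fun k => f.toSD.j_not ((mul_mem_cancel_right (H49.D8.m1 v s)).1 k)
  refine f.tA h ?_
  have e6 : r1 * r2 = r2 * r1 := congrArg Subtype.val
    (cy.isMulCommutative.is_comm.comm (⟨r1, m1⟩ : ↥(T ⊓ K)) ⟨r2, m2⟩)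
  have e7 : t = (r1 * d1)⁻¹ * (r2 * d2 * (r1 * d1) * (r2 * d2)⁻¹) := by
    rw [← e3, ← e4, ← zn rfl]
    calc _ = n⁻¹ * c⁻¹ * (c * t' * (j * v)) * (j * v)⁻¹ * n := by group
      _ = _ := by rw [← e5]; group
  have k1 := fun {d} => f.KS (d := d) h.toSc m1.1 m1.2
  have k2 := fun {d} => f.KS (d := d) h.toSc m2.1 m2.2
  have e8 : r2 * d2 * (r1 * d1) * (r2 * d2)⁻¹ = r1 * (d2 * d1 * d2⁻¹) := by
    rw [mul_assoc r2, ← mul_assoc d2, k1 n2, mul_inv_rev, ← mul_assoc, ← mul_assoc, ← mul_assoc, ← e6]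
    calc _ = r1 * (r2 * (d2 * d1 * d2⁻¹)) * r2⁻¹ := by group
      _ = _ := by rw [← k2 (mul_mem (mul_mem n2 n1) (inv_mem n2))]; group
  rw [e7, e8, show (r1 * d1)⁻¹ * (r1 * (d2 * d1 * d2⁻¹)) = d1⁻¹ * (d2 * d1 * d2⁻¹) by group]
  exact f.S_leA (mul_mem (inv_mem n1) (mul_mem (mul_mem n2 n1) (inv_mem n2)))

theorem fixz (e : T ⊓ K = zpowers t) (hn : n ∈ nor T) : n * z * n⁻¹ = z := by
  have jv : j * v ∈ cl [v, s, j] := mul_mem f.toSD.j_mem (f.toSD.D_le (m1 v s))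
  obtain ⟨r, hr, d, hd, k⟩ := f.inn_sq h (conj_mem_of_mem_normalizer hn (f.S_le jv))
  have e1 : n * z * n⁻¹ = r * r * (d * d) := by
    rw [conj_mul] at k
    rw [← f.toSD.jv4, ← conj_mul, k, mul_assoc r, ← mul_assoc d,
      f.KS h.toSc hr.1 hr.2 hd]
    group
  obtain ⟨i, rfl⟩ := mem_zpowers_iff.1 (e.le hr)
  rw [← (Commute.refl t).mul_zpow, f.tt h, one_zpow, one_mul] at e1
  obtain ⟨w, hw, rfl⟩ := f.toSD.word hd
  rw [← W_append] at e1
  rcases (by decide +kernel : ∀ w ∈ subs 4, tbS.eqv (w ++ w ++ (w ++ w)) [] = true →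
    tbS.same (w ++ w) [] = true ∨ tbS.same (w ++ w) [0] = true) w hw (f.toSD.pres.eqv f.toSD.ind (by
      rw [W_append, ← e1, conj_mul, f.zz]; simp)) with a | a <;> rw [f.toSD.pres.W_eq a] at e1
  · exact absurd (conj_eq_one_iff.1 e1) f.z1
  · simpa using e1

theorem mvz (hd : d ∈ cl [v, s, j]) (dd : d * d = 1) : ∃ y ∈ A, y * d * y⁻¹ = 1 ∨ y * d * y⁻¹ = z := by
  obtain ⟨σ, h1, h2⟩ := f.tri
  have k : ∀ d ∈ cl [v, z], ∃ y ∈ A, y * d * y⁻¹ = 1 ∨ y * d * y⁻¹ = z := fun d hd => by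
    by_cases d1 : d = 1
    · exact ⟨1, one_mem _, Or.inl (by simpa using d1)⟩
    · obtain ⟨y, hy, e⟩ := h2.to_z f.toDH hd d1
      exact ⟨y, zpowers_le.2 h1 hy, Or.inr e⟩
  rcases f.toDH.inv (f.toSD.inv hd dd) dd with a | a
  · exact k d a
  · obtain ⟨y, hy, e⟩ := k _ (f.toDH.sw_V' f.toSD.j_nor f.toSD.j_sw a)
    exact ⟨y * j, mul_mem hy (f.S_leA f.toSD.j_mem), by simpa [mul_assoc] using e⟩

/-- An outer involution `x` is conjugate to one that commutes with a root of `z` and is conjugate to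
its product with `z`. -/
theorem outer (hc : c ∈ T ⊓ cen (cl [v, s])) (i : ¬ In K z c) (hd : d ∈ cl [v, s, j])
    (k : c * d * (c * d) = 1) : c * c = 1 ∧ ∃ x ∈ T, IsConj (c * d) x ∧ IsConj x (x * z) ∧
      ∃ e ∈ T, e * x = x * e ∧ e * e = z := by
  have vs : v * s ∈ cl [v, s] := mul_mem (m1 v s) (m2 v s)
  have iT := f.S_le (f.toSD.D_le vs)
  have jc := (f.out c hc i).2.1
  have jz := f.toSD.jz
  rcases f.sq h hc hd with a | a <;> rw [k] at a
  · obtain ⟨e1, e2⟩ := f.split h (mul_mem hc.1 hc.1) (f.sqK h hc) (mul_mem hd hd) a.1.symm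
    refine ⟨e1, c, hc.1, ?_, isConj_iff.2 ⟨j, jc⟩, _, iT, mcen.1 hc.2 _ vs, f.toDH.vsvs⟩
    obtain ⟨-, -, w, hw, σ, -, h2, h3⟩ := f.out c hc i
    have cw : IsConj w c ∧ IsConj (w * z) c := by
      have := (isConj_iff.2 ⟨j, jc⟩).symm
      rcases hw with rfl | rfl
      exacts [⟨.refl _, this⟩, ⟨this, by rw [mul_assoc, f.zz, mul_one]⟩]
    have k : ∀ d ∈ cl [v, z], IsConj (c * d) c := fun d hd => by
      obtain ⟨d', m, e⟩ : ∃ d' ∈ cl [v, z], c * d = w * d' := by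
        rcases hw with rfl | rfl
        exacts [⟨d, hd, rfl⟩, ⟨z * d, mul_mem (m2 _ _) hd, by
          rw [mul_assoc, ← mul_assoc z, f.zz, one_mul]⟩]
      rw [e]
      by_cases d1 : d' = 1
      · simpa [d1] using cw.1
      · obtain ⟨y, hy, e⟩ := h2.to_z f.toDH m d1
        refine (isConj_iff.2 ⟨y, ?_⟩).trans cw.2
        rw [← conj_mul, e, mc1.1 (zpowers_le.2 (mc1.2 h3) hy), mul_inv_cancel_right]
    rcases f.toDH.inv (f.toSD.inv hd e2) e2 with b | b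
    · exact k d b
    · refine (isConj_iff.2 ⟨j, ?_⟩).trans
        (k _ (mul_mem (m2 v z) (f.toDH.sw_V' f.toSD.j_nor f.toSD.j_sw b)))
      rw [← conj_mul, jc, mul_assoc]
  · obtain ⟨e1, e2⟩ := f.split h (mul_mem hc.1 hc.1) (f.sqK h hc)
      (mul_mem f.toSD.z_mem (mul_mem hd hd)) a.1.symm
    have dz := f.toSD.cz hd
    have ic := mcen.1 hc.2 _ vs
    have di : d * (v * s) = v * s * z * d := ((f.toSD.out hd a.2.2).resolve_right fun b => by
      rw [← inv_eq_of_mul_eq_one_right e2, ← mul_inv_rev, f.zz, inv_one] at b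
      exact f.z1 b.1.symm).2
    have dc := f.com_out h hc a.2.1 hd a.2.2
    have iz := f.toDH.cz vs
    have ii := f.toDH.vsvs
    generalize v * s = i at iT ic di iz ii
    refine ⟨e1, _, mul_mem hc.1 (f.S_le hd), .refl _, isConj_iff.2 ⟨i⁻¹, ?_⟩, c * i, mul_mem hc.1 iT,
      ?_, by rw [mul_assoc, ← mul_assoc i, ic, mul_assoc, ii, ← mul_assoc, e1, one_mul]⟩
    · rw [inv_inv, mul_assoc, mul_assoc, di, mul_assoc i, ← mul_assoc c, ← ic, ← dz]; group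
    · calc c * i * (c * d) = c * (i * c) * d := by group
        _ = c * (c * z * (z * i * d)) := by
          rw [ic, mul_assoc c z, mul_assoc z i, ← mul_assoc z, f.zz]; group
        _ = c * (c * z * d) * i := by rw [← iz, ← di]; group
        _ = _ := by rw [← dc]; group

theorem not_syl (hX : AS X t) (fx : ∀ n ∈ nor T, n * t * n⁻¹ = t) : ¬ IsSyl 2 T ⊤ := fun hS => by
  have tT := f.tT h
  have d0 : ∀ x, Inn K T v s j x → IsConj t x → x = t := by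
    rintro _ ⟨r, hr, d, hd, rfl⟩ cx
    obtain ⟨g, e⟩ := isConj_iff.1 cx
    have rd := fun {d} => f.KS (d := d) h.toSc hr.1 hr.2
    obtain ⟨e1, e2⟩ := f.split h (r := r * r) (d := d * d) (mul_mem hr.1 hr.1) (mul_mem hr.2 hr.2)
      (mul_mem hd hd) (by
        rw [mul_assoc, ← mul_assoc r d, ← mul_assoc r, ← mul_assoc r, mul_assoc r r, ← rd hd, ← mul_assoc,
          mul_assoc _ r, ← e, conj_mul, f.tt h]; simp)
    obtain ⟨y, hy, e3⟩ := f.mvz h hd e2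
    have yt := mc1.1 (h.AN hy)
    have rT : T ≤ cen1 r ∧ y * r * y⁻¹ = r := by
      rcases h.uniq f.syl.isPGroup tT hr.1 hr.2 e1 with rfl | rfl
      exacts [⟨fun _ _ => mc1.2 (by simp), by simp⟩, ⟨f.syl.le, by rw [yt]; group⟩]
    have e4 : y * g * t * (y * g)⁻¹ = r * (y * d * y⁻¹) := by
      rw [← rT.2, conj_mul, ← e]; group
    obtain ⟨n, -, n1, n2⟩ := H96.H97.QU.burn hS (mem_top (y * g)) f.syl.le fun a ha => mc1.2 (by
      rw [e4, ← mul_assoc, mc1.1 (rT.1 ha), mul_assoc, mul_assoc r]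
      rcases e3 with e3 | e3 <;> rw [e3]
      · simp
      · rw [f.toSD.fixz (f.nS h.nA ha)])
    rw [fx n n1] at n2
    rw [← e]
    calc g * t * g⁻¹ = y⁻¹ * (y * g * t * (y * g)⁻¹) * y := by group
      _ = t := by rw [← n2, mul_assoc, ← yt, inv_mul_cancel_left]
  have := hX.simple
  have := hX.normal
  have := hX.cen.le (H96.H97.QU.zstar_cen hX.nab le_top (by simp [normalizer_eq_top]) hS tT (f.tt h)
    fun g _ m => d0 _ ?_ (isConj_iff.2 ⟨g, rfl⟩))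
  · simpa [mem_bot.1 this] using h.o
  obtain ⟨c, hc, d, hd, e⟩ := f.dec h.nA m
  rw [e]
  refine f.inn h hc.1 (by_contra fun i => ?_) hd
  obtain ⟨-, x, hx, c1, c2, y, hy, y1, y2⟩ := f.outer h hc i hd (by rw [← e, conj_mul, f.tt h]; simp)
  have c3 : IsConj t x := (isConj_iff.2 ⟨g, e⟩).trans c1
  obtain ⟨a, ha⟩ := isConj_iff.1 c3.symm
  obtain ⟨b, hb, k⟩ := f.syl.exists_cj_le (H98.isPGroup_cj a (f.syl.isPGroup.to_le
    (inf_le_left (b := cen1 x)))) (by rw [← ha, ← cj_cen1]; exact cj_mono a inf_le_right)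
  rw [cj_cj] at k
  have e1 : b * a * x * (b * a)⁻¹ = t := by
    rw [mul_inv_rev, ← mul_assoc, mul_assoc b, mul_assoc b, ha, mc1.1 hb, mul_inv_cancel_right]
  obtain ⟨r, hr, d', hd', e2⟩ := f.inn_sq h (k (conj_mem_cj ⟨hy, mc1.2 y1⟩))
  rw [conj_mul, y2] at e2
  have := d0 (t * (b * a * z * (b * a)⁻¹)) ⟨t * r, ⟨T.mul_mem tT hr.1, K.mul_mem h.tK hr.2⟩, d', hd', by
    rw [e2, mul_assoc]⟩ ((c3.trans c2).trans (isConj_iff.2 ⟨b * a, by rw [← conj_mul, e1]⟩))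
  exact f.z1 (conj_eq_one_iff.1 (mul_eq_left.1 this))

end Fr

theorem jobR3 : JobR3.{u} := by
  intro G _ _ X t A K T v s z j hX h f fx
  have tT := f.tT h
  have o : T ⊓ K = zpowers t ∨ ∀ n ∈ nor T, n * t * n⁻¹ = t := by
    have le : zpowers t ≤ T ⊓ K := zpowers_le.2 ⟨tT, h.tK⟩
    have p2 := f.syl.isPGroup.to_le (inf_le_left (b := K))
    refine (em (IsSyl 2 (zpowers t) (T ⊓ K))).imp (fun k => (k.eq_of_isPGroup p2).symm) fun k => ?_
    obtain ⟨r, r1, -, r2, r3⟩ := DZ.ext_of_not_syl (p2.to_le le) le k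
    refine fx r r1.1 r1.2 ((h.uniq f.syl.isPGroup tT (le r3).1 (le r3).2 ?_).resolve_left fun e => r2 ?_)
    · obtain ⟨i, e⟩ := mem_zpowers_iff.1 r3
      rw [← e, ← (Commute.refl t).mul_zpow, f.tt h, one_zpow]
    · rcases h.uniq f.syl.isPGroup tT r1.1 r1.2 e with rfl | rfl
      exacts [one_mem _, mem_zpowers _]
  have k : T ⊓ K = zpowers t → ∀ n ∈ nor T, n * t * n⁻¹ = t ∨ n * t * n⁻¹ = t * z := fun e n hn =>
    (f.mv h hn).imp_right fun a => a.resolve_left fun b => f.zK h.toSc (by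
      rw [← f.fixz h e hn, mul_left_inj, mul_right_inj] at b; exact b ▸ h.tK)
  have nS : ¬ IsSyl 2 T ⊤ := fun hS => f.not_syl h hX (o.elim (fun e n hn => by
    obtain ⟨m, m1, m2⟩ := DZ.two_odd n 0
    refine mul_inv_eq_iff_eq_mul.2 (mc1.1 (DZ.mem_of_sq m1 (f.syl.le (hS.le_of_le_normalizer' m2 le_top
      (zpowers_le.2 (pow_mem hn m)) (mem_zpowers _))) (mc1.2 (mul_inv_eq_iff_eq_mul.1 ?_))))
    rw [show n * n * t * (n * n)⁻¹ = n * (n * t * n⁻¹) * n⁻¹ by group]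
    rcases k e n hn with a | a <;> rw [a]
    · exact a
    · rw [← conj_mul, a, f.fixz h e hn, mul_assoc, f.zz, mul_one]) id) hS
  obtain ⟨n, -, n1, n2, n3⟩ := DZ.ext_of_not_syl f.syl.isPGroup le_top nS
  have nt : n * t * n⁻¹ ≠ t := fun e => n2 ((f.syl.eq_of_le (DZ.isPGroup_ext f.syl.isPGroup n1 n3)
    le_sup_right (sup_le (zpowers_le.2 (mc1.2 (mul_inv_eq_iff_eq_mul.1 e))) f.syl.le)).le
    (mem_sup_left (mem_zpowers n)))
  have e := o.resolve_right fun a => nt (a n n1)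
  exact ⟨e, n, n1, (k e n n1).resolve_left nt⟩

theorem jobR2 : JobR2.{u} := fun _ _ _ _ _ _ _ _ _ _ _ h f => f.fix h

end H85.S3
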