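import Cfsg.Agent.H85.S3Spec

/-! S3140 (`blueprints/L33.md`): the input of the chapter LIST. -/

set_option autoImplicit false

namespace H85.L3

open Subgroup Cfsg H98 H1.Gold H85.FZ H85.S3

universe u

/-- The fixed points. -/
def fx {Y : Type*} [Group Y] (σ : MulAut Y) : Subgroup Y := σ.toMonoidHom.eqLocus (MonoidHom.id Y)

theorem mem_fx {Y : Type*} [Group Y] {σ : MulAut Y} {y : Y} : y ∈ fx σ ↔ σ y = y := Iff.rfl

/-- `A ≅ L₃(3)` is normal in the group of fixed points of the involution `σ`. -/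
structure Cf {Y : Type*} [Group Y] (σ : MulAut Y) (A : Subgroup Y) : Prop where
  sq : σ * σ = 1
  ne : σ ≠ 1
  ty : Ty A
  fix : ∀ a ∈ A, σ a = a
  nor : ∀ y, σ y = y → y ∈ normalizer (A : Set Y)
  par : (∀ y, σ ≠ MulAut.conj y) → Odd (Nat.card (centralizer (A : Set Y)))
  cyc : ¬ 4 ∣ Nat.card ↥(centralizer (A : Set Y) ⊓ fx σ)
  tw : ∃ (T : Subgroup Y) (v s z j : Y) (ν : MulAut Y), SD v s z j ∧ IsSyl 2 T (fx σ) ∧
    T ⊓ A = cl [v, s, j] ∧ (∀ y ∈ T, ν y ∈ T) ∧ ν z = z ∧ ν * σ * ν⁻¹ = σ * MulAut.conj z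

/-- The chapter LIST. -/
def List : Prop :=
  ∀ (Y : Type u) [Group Y] [Finite Y] [IsSimpleGroup Y], ¬ IsMulCommutative Y →
    SectionalPRankLE 2 4 Y → ∀ (σ : MulAut Y) (A : Subgroup Y), Cf σ A →
      (∃ (K : Type) (_ : Field K) (_ : Fintype K), Fintype.card K = 9 ∧
        Nonempty (Y ≃* Matrix.ProjectiveSpecialLinearGroup (Fin 3) K)) ∨
      Nonempty (Y ≃* Matrix.ProjectiveSpecialLinearGroup (Fin 4) (ZMod 3)) ∨
      Nonempty (Y ≃* Matrix.ProjectiveSpecialLinearGroup (Fin 5) (ZMod 3))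

end H85.L3
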