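import Cfsg.Agent.H28.TESpec
import Cfsg.Agent.H77.FeMQ

/-! Chapter TE part 1 (S1308), job HY. -/

set_option autoImplicit false
set_option linter.unusedSectionVars false

namespace H85.Te1HY

open Cfsg Subgroup H14 H98 H1.Gold H31.S2 H14.GC H14.FE H14.NF
open scoped commutatorElement

universe u

variable {G : Type u} [Group G] [Finite G]

theorem nf_iff {T A B : Subgroup G} (h : IsSyl 2 T (A ⊓ B)) : 2 ∣ (A ⊓ B).relIndex A ↔ ¬ IsSyl 2 T A := by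
  have : Fact (Nat.Prime 2) := ⟨Nat.prime_two⟩
  have e := relIndex_mul_relIndex T (A ⊓ B) A h.le inf_le_left
  refine ⟨fun h1 h2 => h2.not_dvd_relIndex (e ▸ h1.mul_left _), fun h1 => ?_⟩
  by_contra h2
  refine h1 (isSyl_of_not_dvd_relIndex (h.le.trans inf_le_left) h.isPGroup fun h3 => ?_)
  rw [← e] at h3
  exact ((Nat.Prime.dvd_mul Nat.prime_two).1 h3).elim h.not_dvd_relIndex h2

theorem el_of_cj {T : Subgroup G} {g : G} (h : El (cj g T)) : El T := fun a ha => by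
  calc a * a = g⁻¹ * (g * a * g⁻¹ * (g * a * g⁻¹)) * g := by group
    _ = 1 := by rw [h _ (conj_mem_cj ha)]; group

theorem out_of_ne {Q : Subgroup G} {a b : G} (h : cj a Q ≠ cj b Q) : a⁻¹ * b ∉ nor Q := fun h1 => h <| by
  have : cj a (cj (a⁻¹ * b) Q) = cj a Q := by rw [cj_eq_self h1]
  rw [← this, cj_cj, mul_inv_cancel_left]

theorem jobHY : H28.TE.JobHY.{u} := by
  intro G _ _ K te
  obtain ⟨g, T, h⟩ := te.ex
  have hq := h.std.2.1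
  refine ⟨hq, ?_, ?_, ?_, ?_, ?_, ?_⟩
  · rintro _ ⟨a, rfl⟩
    exact h.four.cj a
  · rintro _ ⟨a, rfl⟩ d hd i
    exact H77.FeMQ.cen1_le hq a hd i
  · rintro _ _ ⟨a, rfl⟩ ⟨b, rfl⟩ ne d hd i
    refine ni_of_odd (hq.2 _ (out_of_ne ne)) (a⁻¹ * d * a) ⟨mem_cj.1 hd.1, mem_cj.2 ?_⟩
      (by simpa using i.conj a⁻¹)
    have : (a⁻¹ * b)⁻¹ * (a⁻¹ * d * a) * (a⁻¹ * b) = b⁻¹ * d * b := by group
    rw [this]
    exact mem_cj.1 hd.2
  · rintro _ _ ⟨a, rfl⟩ ⟨b, rfl⟩ ne U hU nb nf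
    have h1 := hU.cj a⁻¹
    rw [cj_inf, cj_normalizer, cj_inv_cj, cj_cj] at h1
    have h2 : ¬ IsSyl 2 (cj a⁻¹ U) (cj (a⁻¹ * b) (cen K)) := fun h2 => nf <| by
      have := h2.cj a
      rwa [cj_cj_inv, cj_cj, mul_inv_cancel_left] at this
    obtain ⟨e, f⟩ := te.all (a⁻¹ * b) (cj a⁻¹ U)
      ⟨h.std, h.four, out_of_ne ne, h1, fun e => nb (cj_eq_bot_iff.1 e), (nf_iff h1).2 h2⟩
    refine ⟨el_of_cj e, ?_⟩
    have := f.cj a
    rwa [cj_cj_inv] at this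
  · rintro _ ⟨a, rfl⟩ R hR e
    have h1 := hR.cj a⁻¹
    rw [cj_inv_cj] at h1
    refine te.nel _ h1 (el_of_cj (g := a) ?_)
    rwa [cj_cj_inv]
  · exact ⟨_, T, ⟨g, rfl⟩, fun e => h.out (cj_eq_self_iff.1 e.symm), h.syl, h.ne, (nf_iff h.syl).1 h.nf⟩

end H85.Te1HY
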