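/- Groups whose Sylow `2`-subgroups are of type `U₃(2ⁿ)`. -/
import Cfsg.Agent.H85.LyL
import Cfsg.Agent.H86.G75Cor
import Cfsg.Agent.H18.PSolv
import Cfsg.Agent.S0222

set_option autoImplicit false

open Cfsg Subgroup H14 H98 H1.Gold

namespace H85

universe u v

variable {G : Type u} [Group G]

/-- `2`-elements centralising `A` and acting trivially on `S / A` induce inner automorphisms on
the components not centralised by the strongly closed subgroup `A` -/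
theorem comp_inner [Finite G] (hG : ThmG.{u}) (hO : oddCore G = ⊥) {S A L : Subgroup G}
    (hS : IsSyl 2 S ⊤) (hA : SC A) (hAS : A ≤ S) (hc : S ≤ cen A)
    (hcm : ∀ x ∈ S, ∀ y ∈ S, x * y * x⁻¹ * y⁻¹ ∈ A) (hL : IsComponent L) (hn : ¬ A ≤ cen L) :
    S ≤ nor L ∧ (∀ s ∈ S, ∃ t ∈ S ⊓ L, t⁻¹ * s ∈ cen L) ∧
      ∀ x ∈ S ⊓ L, x * x ∈ cen L → ∃ a ∈ A, a⁻¹ * x ∈ cen L := by
  obtain ⟨y, hy, hy'⟩ := H86.G75.exists_mem_comp hO hL hA hn
  have hN : S ≤ nor L := fun s hs => H86.G75.mem_nor_comp hL hy.2 hy' (hc hs y hy.1).symm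
  obtain ⟨X, _, π, hπs, hπ, hX⟩ := H86.G75.exists_almS (comp_quasi hL) le_normalizer le_rfl
  have := Finite.of_surjective π hπs
  have hS' : IsSyl 2 ((S.subgroupOf (nor L)).map π) ⊤ := by
    have := (hS.of_le hN le_top).subgroupOf_top.map π
    rwa [map_top_of_surjective _ hπs] at this
  have hcA : ∀ s : nor L, (s : G) ∈ S → π s ∈ cen ((A.subgroupOf (nor L)).map π) := by
    rintro s hs _ ⟨a, ha, rfl⟩
    rw [← map_mul, ← map_mul]
    exact congrArg π (Subtype.ext (hc hs a ha))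
  have hI := hX.exists_irr H86.G75.kb hG ((hA.subgroupOf (hAS.trans hN)).map π hπs)
    (by rintro _ ⟨a, ha, rfl⟩; exact hcA a (hAS ha))
    (fun e => hy' ((hπ ⟨y, le_normalizer hy.2⟩).1 (mem_bot.1 (e.le
      ⟨mem_map_of_mem π hy.1, mem_map_of_mem π hy.2⟩)))) hS' (map_mono (comap_mono hAS))
  refine ⟨hN, fun s hs => ?_, fun x hx h2 => ?_⟩
  · obtain ⟨l, hl, e⟩ := (hX.mem_of_aut hI.str (s := π ⟨s, hN hs⟩)
      (two_of_mem hS'.isPGroup (mem_map_of_mem π hs)) (by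
        rintro _ ⟨⟨x, hx, rfl⟩, -⟩
        rw [← map_inv, ← map_inv, ← map_mul, ← map_mul, ← map_mul]
        exact mem_map_of_mem π (hcm s hs x hx))
      (centralizer_anti inf_le_left (hcA _ hs))).2
    have h1 : (l : G)⁻¹ * s ∈ cen L := (hπ (l⁻¹ * ⟨s, hN hs⟩)).1 (by
      rw [map_mul, map_inv, e, inv_mul_cancel])
    refine ⟨l, (H92.GA.isSyl_inf_comp hL hS).le_of_le_normalizer'
      (Q := zpowers (l : G)) (isPGroup_of_forall_pow_mem (H92.GA.isPGroup_center hO hL) ?_)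
      (zpowers_le.2 hl) (zpowers_le.2 ?_) (mem_zpowers _), h1⟩
    · obtain ⟨k, hk⟩ := two_of_mem hS.isPGroup hs
      have c1 : Commute (l : G) ((l : G)⁻¹ * s) := h1 _ hl
      have h2 := c1.mul_pow (2 ^ k)
      rw [mul_inv_cancel_left, hk] at h2
      have h3 : (l : G) ^ 2 ^ k ∈ L ⊓ cen L := ⟨L.pow_mem hl _, by
        rw [eq_inv_of_mul_eq_one_left h2.symm]
        exact (cen L).inv_mem ((cen L).pow_mem h1 _)⟩
      rintro _ ⟨j, rfl⟩
      exact ⟨k, by
        show ((l : G) ^ j) ^ 2 ^ k ∈ _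
        rw [← zpow_natCast, ← zpow_mul, mul_comm, zpow_mul, zpow_natCast]
        exact zpow_mem h3 j⟩
    · have h2 : (l : G) = s * ((l : G)⁻¹ * s)⁻¹ := by group
      rw [h2]
      exact mul_mem (H7.mem_normalizer_of_forall fun x hx =>
        ⟨S.mul_mem (S.mul_mem hs hx.1) (S.inv_mem hs),
          H7.conj_mem_of_mem_normalizer (hN hs) hx.2⟩)
        (inv_mem (le_normalizer_of_le_centralizer (centralizer_anti inf_le_right) h1))
  · have hx' : π ⟨x, hN hx.1⟩ ∈ (L.subgroupOf (nor L)).map π := mem_map_of_mem π hx.2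
    obtain ⟨a, ha, e⟩ := (hI.str.mem_Z ⟨_, hx'⟩).2 ⟨mem_map_of_mem π hx.1, Subtype.ext (by
      show π _ ^ 2 = 1
      rw [← map_pow, hπ, pow_two]
      exact h2)⟩
    exact ⟨a, ha, (hπ (a⁻¹ * ⟨x, hN hx.1⟩)).1 (by rw [map_mul, map_inv, e]; exact inv_mul_cancel _)⟩

/-- a strongly closed abelian subgroup centralising all components is normal -/
theorem normal_of_cen_comp [Finite G] (hG : ThmG.{u}) (hO : oddCore G = ⊥) {A : Subgroup G}
    (hA : SC A) (hc : A ≤ cen A) (h : ∀ L : Subgroup G, IsComponent L → A ≤ cen L) : A.Normal := by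
  have h1 := (H92.GA.jobA H86.G75.kb _ (hG _) G (Nat.lt_succ_self _) hO A hA
    (le_centralizer_iff_isMulCommutative.1 hc)).gen
  rw [← le_antisymm (h1.trans (sup_le le_rfl (sSup_le fun L hL => absurd (h L hL.1) hL.2)))
    le_normalClosure]
  infer_instance

/-- the properties of a Sylow `2`-subgroup `S` of `U₃(2ⁿ)` with centre `V` -/
structure USyl (S V : Subgroup G) : Prop where
  card : Nat.card S = Nat.card V ^ 3
  four : 4 ≤ Nat.card V
  le : V ≤ S
  sq : ∀ v ∈ V, v * v = 1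
  central : ∀ s ∈ S, ∀ v ∈ V, s * v = v * s
  inv_mem : ∀ s ∈ S, s * s = 1 → s ∈ V
  sq_mem : ∀ s ∈ S, s * s ∈ V
  cm_mem : ∀ x ∈ S, ∀ y ∈ S, x * y * x⁻¹ * y⁻¹ ∈ V
  cm_surj : ∀ x ∈ S, x ∉ V → ∀ v ∈ V, ∃ y ∈ S, x * y * x⁻¹ * y⁻¹ = v
  sq_surj : ∀ v ∈ V, v ≠ 1 → ∃ x ∈ S, x * x = v
  ct : ∀ x ∈ S, x ∉ V → ∀ c ∈ S, ∀ d ∈ S, x * c = c * x → x * d = d * x → c * d = d * c

theorem usyl_uq {F : Type*} [Field F] [Fintype F] {q : ℕ} (hF : Fintype.card F = q ^ 2)
    [CharP F 2] (hq : 4 ≤ q) : USyl (⊤ : Subgroup (UQ hF)) (center (UQ hF)) := by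
  refine ⟨by rw [card_top, UQ.card_eq, UQ.card_center], by rwa [UQ.card_center], le_top,
    fun v hv => (UQ.mul_self_eq_one_iff _).2 ((UQ.mem_center_iff _).1 hv),
    fun s _ v hv => mem_center_iff.1 hv s,
    fun s _ h => (UQ.mem_center_iff _).2 ((UQ.mul_self_eq_one_iff _).1 h),
    fun s _ => (UQ.mem_center_iff _).2 (UQ.mul_self_a s),
    fun x _ y _ => (UQ.mem_center_iff _).2 (UQ.commutator_a x y), fun x _ hx v hv => ?_,
    fun v hv _ => ?_, fun x _ hx y _ z _ h1 h2 => ?_⟩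
  · obtain ⟨y, hy⟩ := UQ.exists_commutator_eq (fun h => hx ((UQ.mem_center_iff _).2 h))
      ((UQ.mem_center_iff _).1 hv)
    exact ⟨y, trivial, hy⟩
  · have h0 := (UQ.mem_center_iff _).1 hv
    have h1 := v.h
    rw [h0, zero_mul] at h1
    obtain ⟨a, ha⟩ := H59.exists_norm_eq' (H59.frob_ne_id hF) (H59.frob_frob hF) (μ := v.b)
      (CharTwo.add_eq_zero.1 h1).symm
    obtain ⟨x, hx⟩ := UQ.exists_a hF a
    exact ⟨x, trivial,
      UQ.ext (by rw [UQ.mul_self_a, h0]) (by rw [UQ.mul_self_b, hx, mul_comm, ha])⟩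
  · rw [UQ.mul_comm_iff] at h1 h2 ⊢
    have h3 : x.a ≠ 0 := fun h => hx ((UQ.mem_center_iff _).2 h)
    apply mul_left_cancel₀ h3
    linear_combination y.a * h2 - z.a * h1

namespace USyl

variable {S V : Subgroup G}

theorem of_hom (h : USyl S V) {H : Type*} [Group H] (f : S →* H) (hf : Function.Injective f) :
    USyl f.range ((V.subgroupOf S).map f) := by
  have hm : ∀ x : S, f x ∈ (V.subgroupOf S).map f ↔ (x : G) ∈ V := fun x => by
    rw [mem_map_iff_mem hf, mem_subgroupOf]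
  have he : ∀ x y : S, f x = f y ↔ (x : G) = y := fun x y => by rw [hf.eq_iff, Subtype.ext_iff]
  have hc : Nat.card ((V.subgroupOf S).map f) = Nat.card V := by
    rw [card_map_of_injective hf, Nat.card_congr (subgroupOfEquivOfLe h.le).toEquiv]
  refine ⟨?_, hc ▸ h.four, map_le_range _ _, ?_, ?_, ?_, ?_, ?_, ?_, ?_, ?_⟩
  · rw [hc, ← h.card]; exact Nat.card_congr (MonoidHom.ofInjective hf).toEquiv.symm
  · rintro _ ⟨v, hv, rfl⟩
    rw [← map_mul, ← f.map_one, he]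
    exact h.sq v hv
  · rintro _ ⟨s, rfl⟩ _ ⟨v, hv, rfl⟩
    rw [← map_mul, ← map_mul, he]
    exact h.central s s.2 v hv
  · rintro _ ⟨s, rfl⟩ h1
    rw [← map_mul, ← f.map_one, he] at h1
    exact (hm s).2 (h.inv_mem s s.2 h1)
  · rintro _ ⟨s, rfl⟩
    rw [← map_mul]
    exact (hm _).2 (h.sq_mem s s.2)
  · rintro _ ⟨x, rfl⟩ _ ⟨y, rfl⟩
    rw [← map_inv, ← map_inv, ← map_mul, ← map_mul, ← map_mul]
    exact (hm _).2 (h.cm_mem x x.2 y y.2)
  · rintro _ ⟨x, rfl⟩ hx _ ⟨v, hv, rfl⟩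
    obtain ⟨y, hy, e⟩ := h.cm_surj x x.2 (fun h1 => hx ((hm x).2 h1)) v hv
    refine ⟨f ⟨y, hy⟩, ⟨_, rfl⟩, ?_⟩
    rw [← map_inv, ← map_inv, ← map_mul, ← map_mul, ← map_mul, he]
    exact e
  · rintro _ ⟨v, hv, rfl⟩ v1
    obtain ⟨x, hx, e⟩ := h.sq_surj v hv fun h1 => v1 (by rw [← f.map_one, he]; exact h1)
    exact ⟨f ⟨x, hx⟩, ⟨_, rfl⟩, by rw [← map_mul, he]; exact e⟩
  · rintro _ ⟨x, rfl⟩ hx _ ⟨c, rfl⟩ _ ⟨d, rfl⟩ h1 h2
    rw [← map_mul, ← map_mul, he] at h1 h2 ⊢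
    exact h.ct x x.2 (fun h3 => hx ((hm x).2 h3)) c c.2 d d.2 h1 h2

theorem mul_sq (h : USyl S V) {x v : G} (hx : x ∈ S) (hv : v ∈ V) : x * v * (x * v) = x * x := by
  rw [mul_assoc, ← mul_assoc v, ← h.central x hx v hv, mul_assoc, h.sq v hv, mul_one]

theorem le_cen (h : USyl S V) : S ≤ cen V := fun s hs v hv => (h.central s hs v hv).symm

theorem sq_conj (h : USyl S V) {g x : G}
    (hgV : g ∈ centralizer (V : Set G)) (hg : g ∈ normalizer (S : Set G)) (hx : x ∈ S)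
    (hxV : x ∉ V) (hgx : x⁻¹ * (g * x * g⁻¹) ∈ V) {y : G} (hy : y ∈ S) :
    y⁻¹ * (g * g * y * (g * g)⁻¹) ∈ V := by
  have hc : ∀ v ∈ V, g * v * g⁻¹ = v := fun v hv => by rw [← hgV v hv]; group
  have hS : ∀ s ∈ S, g * s * g⁻¹ ∈ S := fun s hs => H7.conj_mem_of_mem_normalizer hg hs
  have key : ∀ y ∈ S, x * (y⁻¹ * (g * y * g⁻¹)) = y⁻¹ * (g * y * g⁻¹) * x := by
    intro y hy
    have h1 := hc _ (h.cm_mem x hx y hy)
    have h2 := h.central _ (hS y hy) _ hgx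
    set v := x⁻¹ * (g * x * g⁻¹) with hv
    have h3 : g * x * g⁻¹ = x * v := by rw [hv]; group
    set z := g * y * g⁻¹ with hz
    have h4 : g * (x * y * x⁻¹ * y⁻¹) * g⁻¹ = (g * x * g⁻¹) * z * (g * x * g⁻¹)⁻¹ * z⁻¹ := by
      rw [hz]; group
    rw [h4, h3, mul_assoc x v z, ← h2] at h1
    have h5 : x * z * x⁻¹ * z⁻¹ = x * y * x⁻¹ * y⁻¹ := by rw [← h1]; group
    have h6 : y⁻¹ * z * x⁻¹ = x⁻¹ * (y⁻¹ * z) := by
      calc y⁻¹ * z * x⁻¹ = y⁻¹ * x⁻¹ * (x * z * x⁻¹ * z⁻¹) * z := by group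
        _ = _ := by rw [h5]; group
    calc x * (y⁻¹ * z) = x * (y⁻¹ * z * x⁻¹) * x := by group
      _ = _ := by rw [h6]; group
  set d := y⁻¹ * (g * y * g⁻¹) with hd
  have hdS : d ∈ S := S.mul_mem (S.inv_mem hy) (hS y hy)
  set d' := d⁻¹ * (g * d * g⁻¹) with hd'
  have hdS' : d' ∈ S := S.mul_mem (S.inv_mem hdS) (hS d hdS)
  have h1 := h.ct x hx hxV d hdS d' hdS' (key y hy) (key d hdS)
  have h2 : g * d * g⁻¹ = d * d' := by rw [hd']; group
  have h3 : d * d' * (d * d') = d * d := by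
    rw [← h2, ← hc _ (h.sq_mem d hdS)]; group
  have h4 : d' * d' = 1 := by
    clear_value d'
    rw [mul_assoc, ← mul_assoc d', ← h1, ← mul_assoc, ← mul_assoc, mul_assoc (d * d)] at h3
    exact mul_eq_left.1 h3
  have h5 : y⁻¹ * (g * g * y * (g * g)⁻¹) = d * d * d' := by
    rw [mul_assoc d, ← h2, hd]; group
  rw [h5]
  exact V.mul_mem (h.sq_mem d hdS) (h.inv_mem d' hdS' h4)

variable [Finite G]

theorem exists_two (h : USyl S V) : ∃ u ∈ V, ∃ v ∈ V, u ≠ 1 ∧ v ≠ 1 ∧ u ≠ v :=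
  H55.GL.exists_two_ne (h.four.trans' (by norm_num))

theorem exists_not_comm (h : USyl S V) : ∃ x ∈ S, ∃ y ∈ S, x * y ≠ y * x := by
  obtain ⟨v, hv, -, -, v1, -⟩ := h.exists_two
  obtain ⟨x, hx, e⟩ := h.sq_surj v hv v1
  obtain ⟨y, hy, e'⟩ := h.cm_surj x hx (fun h1 => v1 (e.symm.trans (h.sq x h1))) v hv
  refine ⟨x, hx, y, hy, fun h1 => v1 ?_⟩
  rw [← e', h1]; group

theorem sc (h : USyl S V) (hS : IsSyl 2 S ⊤) : SC V :=
  sc_of_stronglyClosed hS.toSylowTop ⟨h.le, fun x hx g hg =>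
    h.inv_mem _ hg (H84.conj_mul_self (h.sq x hx) g)⟩

theorem normal_of_central (S : Sylow 2 G) {V : Subgroup G}
    (h : USyl (S : Subgroup G) V) (hO : oddCore G = ⊥) (hZ : V ≤ center G) :
    (S : Subgroup G).Normal := by
  have hVn : V.Normal := ⟨fun v hv g => by rwa [mem_center_iff.1 (hZ hv) g, mul_inv_cancel_right]⟩
  let f := QuotientGroup.mk' V
  let P : Sylow 2 (G ⧸ V) := S.mapSurjective (QuotientGroup.mk'_surjective V)
  have hP : (P : Subgroup (G ⧸ V)) = (S : Subgroup G).map f := rfl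
  have hker : f.ker = V := QuotientGroup.ker_mk' V
  have hcomap : (P : Subgroup (G ⧸ V)).comap f = S := by
    rw [hP, comap_map_eq, hker, sup_eq_left.2 h.le]
  have hmem : ∀ x, f x ∈ (P : Subgroup (G ⧸ V)) ↔ x ∈ (S : Subgroup G) := fun x => by
    rw [← hcomap]; rfl
  have heq : ∀ x y, f x = f y ↔ x⁻¹ * y ∈ V := fun x y => QuotientGroup.eq
  have hone : ∀ x, f x = 1 ↔ x ∈ V := fun x => QuotientGroup.eq_one_iff x
  have hE : E2 (P : Subgroup (G ⧸ V)) := by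
    rintro _ ⟨x, hx, rfl⟩
    rw [← map_mul]
    exact (hone _).2 (h.sq_mem x hx)
  have hcard : 8 ≤ Nat.card (P : Subgroup (G ⧸ V)) := by
    have h1 := H7.relIndex_mul_card h.le
    have h2 := h.four
    rw [hP, ← relIndex_ker, hker]
    rw [h.card, pow_succ] at h1
    rw [Nat.eq_of_mul_eq_mul_right (by omega) h1]
    nlinarith
  rw [← hcomap]
  refine Normal.comap (normal_of_cent_npc @H15.sft_two_text P hE hcard
    (H34.pPrimeCore_quot_central_eq_bot V (S.isPGroup'.to_le h.le) hZ hO) ?_ ?_) f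
  · rintro _ ⟨x, hx, rfl⟩ h1 n hn hc
    obtain ⟨g, rfl⟩ := QuotientGroup.mk'_surjective V n
    have hg : g ∈ normalizer ((S : Subgroup G) : Set G) := H7.mem_normalizer_of_forall fun y hy => by
      rw [← hmem, map_mul, map_mul, map_inv]
      exact H7.conj_mem_of_mem_normalizer hn ((hmem y).2 hy)
    have h2 : f g * f g ∈ centralizer ((P : Subgroup (G ⧸ V)) : Set (G ⧸ V)) := by
      rintro _ ⟨y, hy, rfl⟩
      have h3 := (heq _ _).2 (h.sq_conj (fun v hv => (mem_center_iff.1 (hZ hv) g).symm) hg hx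
        (fun h => h1 ((hone x).2 h)) ((heq _ _).1 (by
          rw [map_mul, map_mul, map_inv, hc, mul_inv_cancel_right])) hy)
      simp only [map_mul, map_inv] at h3
      exact (mul_inv_eq_iff_eq_mul.1 h3.symm).symm
    obtain ⟨k, hk⟩ : Odd ((P : Subgroup (G ⧸ V)).relIndex
        (normalizer ((P : Subgroup (G ⧸ V)) : Set (G ⧸ V)))) :=
      Nat.odd_iff.2 (Nat.two_dvd_ne_zero.1 (H7.isSylowIn_of_sylow_le P le_normalizer).not_dvd)
    have h3 : f g ^ _ ∈ _ := hE.le_centralizer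
      (pow_index_mem (H := (P : Subgroup (G ⧸ V)).subgroupOf
        (normalizer ((P : Subgroup (G ⧸ V)) : Set (G ⧸ V)))) ⟨_, hn⟩)
    rw [← relIndex] at h3
    rw [hk, pow_succ, pow_mul, pow_two] at h3
    exact (mul_mem_cancel_left (pow_mem h2 k)).1 h3
  · obtain ⟨u, hu, v, hv, u1, v1, huv⟩ := h.exists_two
    obtain ⟨x, hx, ex⟩ := h.sq_surj u hu u1
    obtain ⟨y, hy, ey⟩ := h.sq_surj v hv v1
    refine ⟨f x, f y, hE.ord ((hmem x).2 hx) fun h1 => u1 ?_,
      hE.ord ((hmem y).2 hy) fun h1 => v1 ?_, fun h1 => huv ?_⟩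
    · rw [← ex, h.sq _ ((hone x).1 h1)]
    · rw [← ey, h.sq _ ((hone y).1 h1)]
    · obtain ⟨n, hn⟩ := isConj_iff.1 h1
      obtain ⟨g, rfl⟩ := QuotientGroup.mk'_surjective V n
      have h2 : y⁻¹ * (g * x * g⁻¹) ∈ V := (heq _ _).1 (by rw [← hn]; simp [f])
      have h3 := h.mul_sq hy h2
      rw [mul_inv_cancel_left, ey] at h3
      rw [← h3, show g * x * g⁻¹ * (g * x * g⁻¹) = g * (x * x) * g⁻¹ by group, ex,
        mem_center_iff.1 (hZ hu) g, mul_inv_cancel_right]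

omit [Finite G] in
theorem subgroupOf (h : USyl S V) {H : Subgroup G} (hH : S ≤ H) :
    USyl (S.subgroupOf H) (V.subgroupOf H) := by
  have h1 := h.of_hom (inclusion hH) (inclusion_injective hH)
  rwa [inclusion_range, show (V.subgroupOf S).map (inclusion hH) = V.subgroupOf H from by
    ext x
    exact ⟨by rintro ⟨y, hy, rfl⟩; exact hy, fun hx => ⟨⟨x, h.le hx⟩, hx, rfl⟩⟩] at h1

theorem normal_of_normal (h : USyl S V) (hS : IsSyl 2 S ⊤) (hO : oddCore G = ⊥) [V.Normal] :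
    S.Normal := by
  obtain ⟨P, hP⟩ := (hS.of_le h.le_cen le_top).exists_sylow
  have h1 : (P : Subgroup (cen V)).Normal := normal_of_central P (hP ▸ h.subgroupOf h.le_cen)
    (by rw [oddCore, H2.pPrimeCore_eq_subgroupOf, show pPrimeCore 2 G = ⊥ from hO, bot_subgroupOf])
    fun v hv => mem_center_iff.2 fun g => Subtype.ext (g.2 v hv).symm
  rw [hP, normal_subgroupOf_iff_le_normalizer h.le_cen] at h1
  refine normalizer_eq_top_iff.1 (eq_top_iff.2 fun g _ => ?_)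
  obtain ⟨a, ha, n, hn, rfl⟩ := (hS.of_le h.le_cen le_top).frattini_mem
    (le_normalizer_of_normal (mem_top g))
  exact mul_mem ha (h1 hn)

theorem comp (hG : ThmG.{u}) (h : USyl S V) (hS : IsSyl 2 S ⊤) (hO : oddCore G = ⊥)
    {L : Subgroup G} (hL : IsComponent L) (hn : ¬ V ≤ cen L) :
    S ≤ L ∧ L.Normal ∧ IsSimpleGroup L := by
  obtain ⟨h1, h2, h3⟩ := comp_inner hG hO hS (h.sc hS) h.le h.le_cen h.cm_mem hL hn
  have h4 : ∀ c ∈ S, c ∈ cen L → c ∈ V := fun c hc hc' => by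
    by_contra h5
    refine hn fun v hv => ?_
    obtain ⟨y, hy, rfl⟩ := h.cm_surj c hc h5 v hv
    rw [show c * y * c⁻¹ * y⁻¹ = c * (y * c⁻¹ * y⁻¹) by group]
    exact mul_mem hc' (H7.conj_mem_of_mem_normalizer
      (normalizer_le_normalizer_centralizer L (h1 hy)) ((cen L).inv_mem hc'))
  obtain ⟨x, hx, hxV⟩ : ∃ x ∈ S ⊓ L, x ∉ V := by
    by_contra! h5
    obtain ⟨a, ha, b, hb, hab⟩ := h.exists_not_comm
    obtain ⟨t, ht, e⟩ := h2 a ha
    have h6 := V.mul_mem (h5 t ht) (h4 _ (S.mul_mem (S.inv_mem ht.1) ha) e)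
    rw [mul_inv_cancel_left] at h6
    exact hab (h.central b hb a h6).symm
  have h5 : V ≤ L := fun v hv => by
    obtain ⟨y, hy, rfl⟩ := h.cm_surj x hx.1 hxV v hv
    rw [show x * y * x⁻¹ * y⁻¹ = x * (y * x⁻¹ * y⁻¹) by group]
    exact L.mul_mem hx.2 (H7.conj_mem_of_mem_normalizer (h1 hy) (L.inv_mem hx.2))
  have h6 : S ≤ L := fun s hs => by
    obtain ⟨t, ht, e⟩ := h2 s hs
    have := L.mul_mem ht.2 (h5 (h4 _ (S.mul_mem (S.inv_mem ht.1) hs) e))
    rwa [mul_inv_cancel_left] at this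
  refine ⟨h6, normalizer_eq_top_iff.1 (eq_top_iff.2 fun g _ => cj_eq_self_iff.1 ?_),
    simple_of_quasi (comp_quasi hL) (eq_bot_iff.2 fun z hz => ?_)⟩
  · refine ((comp_eq_or_commute (comp_map_conj hL g) hL).resolve_right fun e => ?_)
    have h7 : cj g S ≤ cen S := (cj_mono g h6).trans
      ((commutator_eq_bot_iff_le_centralizer.1 e).trans (centralizer_anti h6))
    have h8 := (hS.cj g).eq_of_le hS.isPGroup (hS.le_of_le_normalizer' (hS.cj g).isPGroup le_top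
      (le_normalizer_of_le_centralizer h7)) (by rw [cj_top]; exact le_top)
    obtain ⟨a, ha, b, hb, hab⟩ := h.exists_not_comm
    exact hab (h7 (h8.le hb) a ha)
  · have h7 : (z : G) ∈ L ⊓ cen L := ⟨z.2, fun y hy => congrArg Subtype.val (mem_center_iff.1 hz ⟨y, hy⟩)⟩
    have h8 : (z : G) ∈ V := h4 _ (hS.le_of_le_normalizer' (H92.GA.isPGroup_center hO hL) le_top
      (le_normalizer_of_le_centralizer (inf_le_right.trans (centralizer_anti h6))) h7) h7.2
    by_contra h9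
    obtain ⟨y, hy, e⟩ := h.sq_surj z h8 fun h10 => h9 (Subtype.ext h10)
    obtain ⟨a, ha, e'⟩ := h3 y ⟨hy, h6 hy⟩ (e ▸ h7.2)
    have h10 := V.mul_mem ha (h4 _ (S.mul_mem (S.inv_mem (h.le ha)) hy) e')
    rw [mul_inv_cancel_left] at h10
    exact h9 (Subtype.ext (e.symm.trans (h.sq y h10)))

theorem of_simple (hG : ThmG.{u}) [IsSimpleGroup G] (h : USyl S V) (hS : IsSyl 2 S ⊤)
    {F : Type v} [Field F] [Fintype F] (hF : Fintype.card F = Nat.card V ^ 2) :
    Nonempty (G ≃* PSU 3 F (Nat.card V)) := by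
  obtain ⟨x, hx, y, hy, hxy⟩ := h.exists_not_comm
  have hna : ¬ IsMulCommutative G := fun h1 => hxy (h1.is_comm.comm x y)
  have h4 := h.four
  have hgt := hG _ G hna (Nat.lt_succ_self _) V (h.sc hS)
    (le_centralizer_iff_isMulCommutative.1 (h.le.trans h.le_cen)) (by rintro rfl; simp at h4)
  obtain ⟨Z, hZ⟩ := H86.G75.exists_irr H86.G75.kb hna hgt hS
  obtain ⟨H, hH⟩ := hgt.resolve_right (by
    rintro ⟨T, hT, -, hc⟩
    obtain ⟨g, -, e⟩ := hT.exists_cj_eq hS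
    rw [← card_cj g T, e, h.card] at hc
    have := Nat.pow_le_pow_left h4 3
    omega)
  obtain ⟨P, rfl⟩ := isSyl_top_iff.1 hS
  rcases Cfsg.Agent.S0222.result ⟨x, y, hxy⟩ H hH with
    ⟨K, _, _, hK, -, ⟨e⟩⟩ | h1 | ⟨K, _, _, q, hK, hq, -, ⟨e⟩⟩
  · obtain ⟨e'⟩ := nonempty_sylow_equiv e P default
    exact absurd (congrArg Subtype.val ((isMulCommutative_of_equiv e'
      (psl2_sylow_comm 2 _)).is_comm.comm ⟨x, hx⟩ ⟨y, hy⟩)) hxy
  · refine absurd ?_ (suzuki_not_three_dvd h1)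
    obtain ⟨-, m, -, hm⟩ := h1
    obtain ⟨u, hu, -, -, u1, -⟩ := h.exists_two
    have hVZ : ∀ a, a ∈ Z ↔ a ∈ V := fun a => by
      rw [hZ.str.mem_Z, pow_two]
      exact ⟨fun h1 => h.inv_mem a h1.1 h1.2, fun h1 => ⟨h.le h1, h.sq a h1⟩⟩
    have h2 := H33.GL.orbit_count (nor (P : Subgroup G)) u
    rw [show {a : G | ∃ s ∈ nor (P : Subgroup G), s * u * s⁻¹ = a} = {a | a ∈ V ∧ a ≠ 1} from
      Set.ext fun a => ⟨by
        rintro ⟨s, hs, rfl⟩
        exact ⟨h.inv_mem _ (H7.conj_mem_of_mem_normalizer hs (h.le hu))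
          (H84.conj_mul_self (h.sq u hu) s), by simpa using u1⟩,
        fun ha => hZ.trans u ((hVZ u).2 hu) a ((hVZ a).2 ha.1) u1 ha.2⟩,
      H33.GL.ncard_ne_one] at h2
    refine Dvd.dvd.trans ?_ ((Dvd.intro _ h2).trans (card_subgroup_dvd_card _))
    obtain ⟨n, hn⟩ := IsPGroup.iff_card.1 (P.isPGroup'.to_le h.le)
    have h3 := P.1.card_mul_index
    rw [hm, h.card, hn, ← pow_mul, ← pow_mul, mul_assoc] at h3
    have h5 : Odd ((2 ^ ((2 * m + 1) * 2) + 1) * (2 ^ (2 * m + 1) - 1)) :=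
      (Even.add_one (by simp [Nat.even_pow])).mul
        (Nat.Even.sub_odd Nat.one_le_two_pow (by simp [Nat.even_pow]) odd_one)
    have h6 := (Nat.pow_dvd_pow_iff_le_right one_lt_two).1
      (((Nat.coprime_two_left.2 h5).pow_left _).dvd_of_dvd_mul_right (Dvd.intro _ h3))
    have h7 := (Nat.pow_dvd_pow_iff_le_right one_lt_two).1
      ((((Nat.Prime.coprime_iff_not_dvd Nat.prime_two).2 P.not_dvd_index).pow_left
        _).dvd_of_dvd_mul_right (Dvd.intro _ h3.symm))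
    obtain ⟨k, rfl⟩ : ∃ k, n = 2 * k := ⟨n / 2, by omega⟩
    rw [hn, pow_mul]
    simpa using Nat.sub_dvd_pow_sub_pow 4 1 k
  · have hc : CharP K 2 := charP_two_of_card (by rw [hK]; exact hq.pow_of_ne_zero two_ne_zero)
    obtain ⟨e'⟩ := nonempty_sylow_equiv e P default
    obtain ⟨e''⟩ := nonempty_equiv_sylow_PSU hK 2 default
    have h1 := Nat.card_congr (e'.trans e'').toEquiv
    rw [h.card, UQ.card_eq] at h1
    obtain rfl : q = Nat.card V := Nat.pow_left_injective (n := 3) (by norm_num) h1.symm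
    exact ⟨e.trans (H55.psuCongr (FiniteField.ringEquivOfCardEq (hK.trans hF.symm)) 3 _)⟩

theorem main (hG : ThmG.{u}) (h : USyl S V) (hS : IsSyl 2 S ⊤) (hO : oddCore G = ⊥)
    {F : Type v} [Field F] [Fintype F] (hF : Fintype.card F = Nat.card V ^ 2) :
    S.Normal ∨ ∃ L : Subgroup G, L.Normal ∧ S ≤ L ∧ Nonempty (L ≃* PSU 3 F (Nat.card V)) := by
  by_cases h1 : ∀ L : Subgroup G, IsComponent L → V ≤ cen L
  · have := normal_of_cen_comp hG hO (h.sc hS) (h.le.trans h.le_cen) h1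
    exact .inl (h.normal_of_normal hS hO)
  push Not at h1
  obtain ⟨L, hL, h1⟩ := h1
  obtain ⟨h2, h3, h4⟩ := h.comp hG hS hO hL h1
  have h5 : Nat.card (V.subgroupOf L) = Nat.card V :=
    Nat.card_congr (subgroupOfEquivOfLe (h.le.trans h2)).toEquiv
  exact .inr ⟨L, h3, h2, h5 ▸ (h.subgroupOf h2).of_simple hG (hS.of_le h2 le_top).subgroupOf_top
    (h5 ▸ hF)⟩

end USyl

/-- solvability and `2`-length when the Sylow `2`-subgroup is normal modulo the odd core -/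
theorem solvable_of_normal_quot [Finite G] (P : Sylow 2 (G ⧸ oddCore G))
    (h : (P : Subgroup (G ⧸ oddCore G)).Normal) : Group.IsSolvable G ∧ PLengthLE 2 1 G := by
  have h1 : (P : Subgroup (G ⧸ oddCore G)).comap (QuotientGroup.mk' (oddCore G)) ≤
      pPrimePCore 2 G := comap_mono (H18.le_pCore P.isPGroup')
  have h2 : ¬ 2 ∣ (pPrimePCore 2 G).index := fun h3 => P.not_dvd_index (by
    rw [← index_comap_of_surjective _ (QuotientGroup.mk'_surjective (oddCore G))]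
    exact h3.trans (index_dvd_of_le h1))
  constructor
  · have h3 : Group.IsSolvable ((G ⧸ oddCore G) ⧸ (P : Subgroup (G ⧸ oddCore G))) :=
      Cfsg.Agent.S0205.result (Nat.odd_iff.2 (Nat.two_dvd_ne_zero.1 P.not_dvd_index))
    have h4 : Group.IsSolvable (P : Subgroup (G ⧸ oddCore G)) :=
      haveI := P.isPGroup'.isNilpotent; inferInstance
    have h5 : Group.IsSolvable (G ⧸ oddCore G) := Group.isSolvable_of_ker_le_range
      (P : Subgroup (G ⧸ oddCore G)).subtype (QuotientGroup.mk' (P : Subgroup (G ⧸ oddCore G)))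
      (by simp)
    have h6 : Group.IsSolvable (oddCore G) := Cfsg.Agent.S0205.result
      (Nat.coprime_two_right.1 (H2.coprime_card_pPrimeCore 2 G))
    exact Group.isSolvable_of_ker_le_range (oddCore G).subtype (QuotientGroup.mk' (oddCore G))
      (by simp)
  · refine eq_top_iff.2 ?_
    rw [show (upperPSeries 2 G (2 * 1 + 1)).1 = H18.ups 2 G (2 * 1 + 1) from rfl, H18.ups_odd]
    refine H18.le_up ?_
    rw [relIndex_top_right, show H18.ups 2 G (2 * 1) = pPrimePCore 2 G from H18.ups_two]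
    intro p hp hd e
    exact h2 (Set.mem_singleton_iff.1 e ▸ hd)

theorem s3177 (hG : ThmG.{u}) [Finite G] (n : ℕ) (hn : 2 ≤ n) {F : Type v} [Field F] [Fintype F]
    (hF : Fintype.card F = 4 ^ n) (S : Sylow 2 G) (P : Sylow 2 (PSU 3 F (2 ^ n)))
    (hS : Nonempty (↥(S : Subgroup G) ≃* ↥(P : Subgroup (PSU 3 F (2 ^ n))))) :
    (Group.IsSolvable G ∧ PLengthLE 2 1 G) ∨
      ∃ N : Subgroup (G ⧸ oddCore G), N.Normal ∧ Odd N.index ∧
        Nonempty (↥N ≃* PSU 3 F (2 ^ n)) := by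
  have hF' : Fintype.card F = (2 ^ n) ^ 2 := by rw [hF, ← pow_mul, mul_comm, pow_mul]; rfl
  have hc : CharP F 2 := charP_two_of_card (by rw [hF]; exact Even.pow_of_ne_zero (by decide) (by omega))
  obtain ⟨e⟩ := hS
  obtain ⟨e'⟩ := nonempty_equiv_sylow_PSU hF' 2 P
  let π := QuotientGroup.mk' (oddCore G)
  let S' : Sylow 2 (G ⧸ oddCore G) := S.mapSurjective (QuotientGroup.mk'_surjective _)
  let f : (⊤ : Subgroup (UQ hF')) →* G ⧸ oddCore G := (π.comp (S : Subgroup G).subtype).comp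
    (topEquiv.trans (e.trans e').symm).toMonoidHom
  have hf : Function.Injective f := by
    refine Function.Injective.comp (g := π.comp (S : Subgroup G).subtype)
      ((injective_iff_map_eq_one _).2 fun s hs => Subtype.ext ?_) (MulEquiv.injective _)
    obtain ⟨k, hk⟩ := isPGroup_iff_forall.1 S.isPGroup' s s.2
    exact mem_bot.1 (mem_of_pow_mem_of_coprime (K := ⊥) hk
      ((Nat.Coprime.coprime_dvd_left (orderOf_dvd_natCard _ ((QuotientGroup.eq_one_iff _).1 hs))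
        (H2.coprime_card_pPrimeCore 2 G)).pow_right _))
  have hr : f.range = (S' : Subgroup _) := by
    rw [MonoidHom.range_comp, MonoidHom.range_eq_top.2 (MulEquiv.surjective _),
      ← MonoidHom.range_eq_map, MonoidHom.range_comp, range_subtype]
    rfl
  have hU := (usyl_uq hF' (Nat.pow_le_pow_right two_pos hn)).of_hom f hf
  have hV : Nat.card (((center (UQ hF')).subgroupOf ⊤).map f) = 2 ^ n := by
    rw [card_map_of_injective hf, Nat.card_congr (subgroupOfEquivOfLe le_top).toEquiv,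
      UQ.card_center]
  rw [hr] at hU
  rcases hU.main hG (isSyl_sylow S') (H2.pPrimeCore_quotient_pPrimeCore 2 G) (hV ▸ hF') with
    h1 | ⟨L, h1, h2, h3⟩
  · exact .inl (solvable_of_normal_quot S' h1)
  · exact .inr ⟨L, h1, Nat.odd_iff.2 (Nat.two_dvd_ne_zero.1 fun h4 =>
      S'.not_dvd_index (h4.trans (index_dvd_of_le h2))), hV ▸ h3⟩

end H85
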