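import Cfsg.Agent.H51.TESpec

/-! Chapter TE part 2 (S1308), job CPb. -/

set_option autoImplicit false
set_option linter.unusedSectionVars false

namespace H85.Te2CPb

open Cfsg Subgroup MulAction H14 H98 H1.Gold H31.S2 H14.GC H14.FE H14.NF H51.TE
open scoped commutatorElement

universe u

variable {G : Type u} [Group G] [Finite G] {Q E Q₁ E₁ Q₂ E₂ P R : Subgroup G} {r s x : G}

/-- `R` commutes with its conjugate under `v`. -/
def Cv (R : Subgroup G) (v : G) : Prop := ∀ a ∈ R, ∀ b ∈ R, a * (v * b * v⁻¹) = v * b * v⁻¹ * a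

theorem home_ne (c : C2 Q E Q₁ E₁ Q₂ E₂) {v w : G} (hv : v ∈ E₁) (hw : w ∈ E₁) (ne : v ≠ w) :
    cj v Q₂ ≠ cj w Q₂ := fun e => by
  refine c.o1 (v⁻¹ * w) (mul_mem (inv_mem hv) hw) (fun h => ne (inv_mul_eq_one.1 h)) (cj_eq_self_iff.1 ?_)
  rw [← cj_cj, ← e, cj_inv_cj]

theorem key (gx : Gx Q E) (c : C2 Q E Q₁ E₁ Q₂ E₂) (hr : r ∈ E₁) (hs : s ∈ E₁) (r1 : r ≠ 1)
    (hP : IsPGroup 2 P) (rP : r ∈ P) (sP : s ∈ P) (hl : R ≤ P) (hR : IsSyl 2 R Q₂) (cr : Cv R r)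
    (cs : Cv R s) (csr : Cv R (s * r)) (hx : x ∈ R) :
    x * (r * x * r⁻¹) = s * x * s⁻¹ * (s * r * x * (s * r)⁻¹) := by
  have : Fact (Nat.Prime 2) := ⟨Nat.prime_two⟩
  have rr : r * r = 1 := pt_el gx.tg c.p1 r hr
  have hy : x * (r * x * r⁻¹) ∈ nor Q₁ := by
    refine pt_cen gx.tg c.p1 (pt_le gx.tg c.p1 hr) ⟨r1, rr⟩ (mem_centralizer_singleton_iff.2 ?_)
    calc x * (r * x * r⁻¹) * r = x * r * x := by group
      _ = x * r * x * (r * r)⁻¹ := by rw [rr]; group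
      _ = x * (r * x * r⁻¹) * r⁻¹ := by group
      _ = r * x * r⁻¹ * x * r⁻¹ := by rw [cr x hx x hx]
      _ = r * (x * (r * (r * r)⁻¹ * x * r⁻¹)) := by group
      _ = r * (x * (r * x * r⁻¹)) := by rw [rr]; group
  have yP : x * (r * x * r⁻¹) ∈ P := mul_mem (hl hx) (mul_mem (mul_mem rP (hl hx)) (inv_mem rP))
  have e0 : ⁅x * (r * x * r⁻¹), s⁆ =
      x * (r * x * r⁻¹) * (s * x * s⁻¹ * (s * r * x * (s * r)⁻¹))⁻¹ := by
    rw [commutatorElement_def]; group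
  rw [← mul_inv_eq_one, ← e0]
  by_contra ne
  obtain ⟨k, hk, hE⟩ := hR.exists_cj_le (El.two (pt_el gx.tg c.p2)) (pt_le gx.tg c.p2)
  have p' := pt_cj c.p2 k
  rw [cj_eq_self_of_mem hk] at p'
  have zc := gx.zc _ _ p' R hR.le hR.isPGroup hE
  obtain ⟨d, hd, id⟩ := exists_inv_two (hP.to_le ((zpowers_le).2 (comm_mem yP sP)))
    (fun e => ne ((zpowers_eq_bot).1 e))
  obtain ⟨e, he, ie⟩ := four_exists_inv (pt_four gx.tg p')
  have h1 : ⁅x * (r * x * r⁻¹), s⁆ ∈ cen1 e := by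
    rw [e0]
    have m := fun v (h : Cv R v) => mem_centralizer_singleton_iff.2 (h e (hE he) x hx).symm
    exact mul_mem (mul_mem (mem_centralizer_singleton_iff.2 (mem_centralizer_iff.1 (zc hx) e he).symm) (m r cr))
      (inv_mem (mul_mem (m s cs) (m _ csr)))
  have h2 : e ∈ nor Q₁ := pt_cen gx.tg c.p1 ((zpowers_le).2 (comm_mem_right hy (pt_le gx.tg c.p1 hs)) hd) id
    (mem_centralizer_singleton_iff.2 (mem_centralizer_singleton_iff.1 ((zpowers_le).2 h1 hd)).symm)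
  exact c.o1 r hr r1 (gx.tg.mn _ _ _ _ p' c.p1 e he ie.1 h2 hr)

theorem job : H51.TE.CPb.{u} := by
  intro G _ _ Q E gx Q₁ E₁ Q₂ E₂ c r hr s hs r1 s1 ne R hR hle
  have : Fact (Nat.Prime 2) := ⟨Nat.prime_two⟩
  have el := pt_el gx.tg c.p1
  have rr : r * r = 1 := el r hr
  have ss : s * s = 1 := el s hs
  have rs : s * r = r * s := El.comm el hs hr
  obtain ⟨M, hM⟩ : ∃ M, M = nor Q₂ ⊓ (nor (cj r Q₂) ⊓ nor (cj s Q₂) ⊓ nor (cj (r * s) Q₂)) := ⟨_, rfl⟩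
  have nr : r ∈ nor M := by
    rw [← cj_eq_self_iff, hM]
    simp only [cj_inf, cj_normalizer, cj_cj]
    rw [← mul_assoc, rr, one_mul, cj_one]
    ac_rfl
  have ns : s ∈ nor M := by
    rw [← cj_eq_self_iff, hM]
    simp only [cj_inf, cj_normalizer, cj_cj]
    rw [← mul_assoc, rs, mul_assoc, ss, mul_one, cj_one]
    ac_rfl
  have hV : closure {r, s} ≤ E₁ ⊓ nor M := (closure_le _).2 (by
    rintro _ (rfl | rfl)
    exacts [⟨hr, nr⟩, ⟨hs, ns⟩])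
  obtain ⟨P, hP, hl, hS⟩ := exists_inv_syl ((El.two el).to_le (hV.trans inf_le_left)) (hV.trans inf_le_right)
  have rP : r ∈ P := hl (subset_closure (by simp))
  have sP : s ∈ P := hl (subset_closure (by simp))
  have m1 : M ≤ nor Q₂ := hM ▸ inf_le_left
  have m2 : M ≤ nor (cj r Q₂) := hM ▸ inf_le_right.trans (inf_le_left.trans inf_le_left)
  have m3 : M ≤ nor (cj s Q₂) := hM ▸ inf_le_right.trans (inf_le_left.trans inf_le_right)
  have m4 : M ≤ nor (cj (r * s) Q₂) := hM ▸ inf_le_right.trans inf_le_right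
  have RM : R ≤ M := hM ▸ le_inf (hR.le.trans le_normalizer) hle
  have h1 : IsSyl 2 (P ⊓ M ⊓ (Q₂ ⊓ M)) (Q₂ ⊓ M) := hS.inf_of_le_normalizer inf_le_right
    (le_normalizer_inf (inf_le_right.trans m1) (inf_le_right.trans le_normalizer))
  have hR' : IsSyl 2 (P ⊓ M ⊓ (Q₂ ⊓ M)) Q₂ := hR.of_card_ge h1.isPGroup (h1.le.trans inf_le_left)
    (h1.card_le hR.isPGroup (le_inf hR.le RM))
  have cv : ∀ v ∈ E₁, v ≠ 1 → v ∈ P → v ∈ nor M → M ≤ nor (cj v Q₂) → Cv (P ⊓ M ⊓ (Q₂ ⊓ M)) v := by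
    intro v hv v1 vP vM hn a ha b hb
    have h2 := home_ne c (one_mem _) hv v1.symm
    rw [cj_one] at h2
    exact commutatorElement_eq_one_iff_mul_comm.1 ((pt_ti gx.tg c.p2 (pt_cj c.p2 v) h2).eq_one hP.isPGroup
      (comm_mem ha.1.1 (mul_mem (mul_mem vP hb.1.1) (inv_mem vP)))
      ⟨comm_mem_left ha.2.1 (m1 (conj_mem_of_mem_normalizer vM hb.1.2)),
        comm_mem_right (hn ha.1.2) (conj_mem_cj hb.2.1)⟩)
  have cr := cv r hr r1 rP nr m2
  have cs := cv s hs s1 sP ns m3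
  have crs := cv (r * s) (mul_mem hr hs)
    (fun e => ne (by rw [← mul_one r, ← ss, ← mul_assoc, e, one_mul])) (mul_mem rP sP) (mul_mem nr ns) m4
  refine gx.ne _ _ c.p2 _ hR' fun x hx => ?_
  have hl' : P ⊓ M ⊓ (Q₂ ⊓ M) ≤ P := inf_le_left.trans inf_le_left
  have A := key gx c hr hs r1 hP.isPGroup rP sP hl' hR' cr cs (rs ▸ crs) hx
  have B := key gx c hs hr s1 hP.isPGroup sP rP hl' hR' cs cr crs hx
  rw [rs] at A
  have c1 := cr x hx x hx
  have c2 := cs x hx x hx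
  have c3 : r * x * r⁻¹ * (s * x * s⁻¹) = s * x * s⁻¹ * (r * x * r⁻¹) := by
    have h := crs x hx x hx
    have ri : r⁻¹ = r := inv_eq_of_mul_eq_one_right rr
    calc r * x * r⁻¹ * (s * x * s⁻¹) = r * (x * (r⁻¹ * s * x * (r⁻¹ * s)⁻¹)) * r⁻¹ := by group
      _ = r * (x * (r * s * x * (r * s)⁻¹)) * r⁻¹ := by rw [ri]
      _ = r * (r⁻¹ * s * x * (r⁻¹ * s)⁻¹ * x) * r⁻¹ := by rw [h, ri]
      _ = s * x * s⁻¹ * (r * x * r⁻¹) := by group
  have h3 : r * x * r⁻¹ * (r * x * r⁻¹) = s * x * s⁻¹ * (s * x * s⁻¹) := by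
    generalize r * s * x * (r * s)⁻¹ = z at A B
    generalize r * x * r⁻¹ = a at A B c1 c3
    generalize s * x * s⁻¹ = b at A B c2 c3
    have hz : z = b⁻¹ * (x * a) := by rw [A]; group
    rw [hz] at B
    have c4 : a * b⁻¹ = b⁻¹ * a := (Commute.inv_right (show Commute a b from c3)).eq
    calc a * a = x⁻¹ * (x * a) * a := by group
      _ = x⁻¹ * (a * x) * a := by rw [c1]
      _ = x⁻¹ * b * (b⁻¹ * a) * (x * a) := by group
      _ = x⁻¹ * b * (a * (b⁻¹ * (x * a))) := by rw [← c4]; group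
      _ = x⁻¹ * (b * x) * b := by rw [← B]; group
      _ = b * b := by rw [← c2]; group
  have h4 : r * (x * x) * r⁻¹ = 1 := by
    refine (pt_ti gx.tg (pt_cj c.p2 r) (pt_cj c.p2 s) (home_ne c hr hs ne)).eq_one hP.isPGroup
      (mul_mem (mul_mem rP (mul_mem hx.1.1 hx.1.1)) (inv_mem rP)) ⟨conj_mem_cj (mul_mem hx.2.1 hx.2.1), ?_⟩
    have : r * (x * x) * r⁻¹ = s * (x * x) * s⁻¹ := by
      calc r * (x * x) * r⁻¹ = r * x * r⁻¹ * (r * x * r⁻¹) := by group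
        _ = s * (x * x) * s⁻¹ := by rw [h3]; group
    rw [this]
    exact conj_mem_cj (mul_mem hx.2.1 hx.2.1)
  exact conj_eq_one_iff.1 h4

end H85.Te2CPb
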