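import Cfsg.Agent.H86.O6.Fin
import Cfsg.Agent.H8.SPORA
import Cfsg.Agent.H78.Y3RA

/-! Row S3133: the invariant subgroups of `Q / Z` in the orthogonal model `Ω₈^±(2)`. -/

set_option autoImplicit false
set_option linter.unusedSectionVars false

namespace H85.O6RA

open H64.SG (Cs Ns mem_Cs)
open H64.YE (PO)
open H67.SA (cm cm_eq_one)
open H67.UA (XU)
open H59.SO H46.SOG H8.SPORA
open H56 H58 QuadraticMap Module Subgroup

variable {F V : Type} [Field F] [Finite F] [CharP F 2] [AddCommGroup V] [Module F V]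
  [FiniteDimensional F V] {Q : QuadraticForm F V} (r : Fr Q)

theorem cm01 (p : Par0 Q) {a b : V} (ha : a ∈ LP r) (hb : b ∈ LP r) :
    E Q (r.e 0) a * E Q (r.e 1) b = E Q (r.e 1) b * E Q (r.e 0) a ↔ polar Q a b = 0 := by
  rw [mem_LP] at ha hb
  rw [← cm_eq_one, E_cm (r.qe 0) (r.qe 1) (r.ee ..) ha.1 ha.2 hb.1 hb.2, r.z_eq_one p]

theorem irr2 (p : Par0 Q) {B : Subgroup (Om Q)} (hZ : r.Z ≤ B) (hQ : B ≤ r.QQ) {a : V} (ha : a ∈ r.W)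
    (p0 : ∀ s : F, E Q (r.e 0) (s • r.f 1 + a) ∈ Ns B)
    (p1 : ∀ s : F, E Q (r.e 1) (s • r.f 0 + a) ∈ Ns B)
    (hE : ∀ u ∈ LP r, u ≠ 0 → Q u = 0 → ∃ b ∈ LP r, Q b = 1 ∧ polar Q u b = 0 ∧ E Q u b ∈ Ns B) :
    r.QQ ≤ B ∨ (B ⊓ Cs B ≤ r.Z ∧ ∃ x ∈ r.QQ, ∃ y ∈ r.QQ, x ∈ Cs B ∧ y ∈ Cs B ∧ x ∉ B ∧ y ∉ B ∧
      x * x ≠ y * y) := by
  have hz : ∀ c, r.z c ∈ B := fun c => hZ (r.z_mem c)
  have k01 : ∀ (s : F), ∀ y ∈ LP r, E Q (r.e 0) y ∈ B → E Q (r.e 1) (s • y) ∈ B := fun s y hy h =>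
    (key r hz ha s (p0 s) (p1 s) hy (zero_mem _) (by simpa using h)).2
  have k10 : ∀ (s : F), ∀ y ∈ LP r, E Q (r.e 1) y ∈ B → E Q (r.e 0) (s • y) ∈ B := fun s y hy h =>
    (key r hz ha s (p0 s) (p1 s) (zero_mem _) hy (by simpa using h)).1
  let A : Submodule F V :=
    { (ES B (r.qe 0) (LP r) fun _ h => ((mem_LP r).1 h).1).toAddSubmonoid with
      smul_mem' := fun c x hx =>
        ⟨(LP r).smul_mem c hx.1, k10 c x hx.1 (by simpa using k01 1 x hx.1 hx.2)⟩ }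
  have mA : ∀ {y}, y ∈ A ↔ y ∈ LP r ∧ E Q (r.e 0) y ∈ B := Iff.rfl
  have m1 : ∀ {y}, y ∈ A → E Q (r.e 1) y ∈ B := fun h => by simpa using k01 1 _ h.1 h.2
  have dec : ∀ x ∈ B, ∃ a0 ∈ A, ∃ a1 ∈ A, x = E Q (r.e 0) a0 * E Q (r.e 1) a1 := fun x hx => by
    obtain ⟨a0, a1, u0, v0, u1, v1, rfl⟩ := r.ts.mem_Ql.1 (hQ hx)
    have l0 := (mem_LP r).2 ⟨u0, v0⟩
    have l1 := (mem_LP r).2 ⟨u1, v1⟩
    obtain ⟨b1, b0⟩ := key r hz ha 1 (p0 1) (p1 1) l0 l1 hx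
    rw [one_smul] at b0 b1
    exact ⟨a0, ⟨l0, by simpa using k10 1 _ l0 b0⟩, a1, ⟨l1, b1⟩, rfl⟩
  have lp : H56.perp Q A ≤ LP r := H56.perp_anti (Submodule.span_le.2 (by
    rintro _ (rfl | rfl)
    · have := E_smul_self 1 (r.qe 0)
      rw [one_smul] at this
      exact mA.2 ⟨e_LP r 0, this ▸ one_mem _⟩
    · exact mA.2 ⟨e_LP r 1, by rw [← one_smul F (r.e 1)]; exact hz 1⟩))
  have rad : ∀ y ∈ A, y ∈ H56.perp Q A → y ∈ Submodule.span F {r.e 0, r.e 1} := fun y hy hp => by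
    have sing : ∀ u ∈ LP r, Q u = 0 → polar Q u y = 0 := fun u hu h0 => by
      by_cases u0 : u = 0
      · simp [u0]
      obtain ⟨b, hb, b1, b2, b3⟩ := hE u hu u0 h0
      have hg := E_mem_Fx r hu hb
      have k := mem_perp.1 hp _ (mA.2 ⟨Fx_LP r hg hy.1, by
        have := cj_mem b3 hy.2
        rwa [E_conj, ((mem_Fx r).1 hg).1] at this⟩)
      rw [E_apply h0 b2] at k
      simp only [polar_add_left, polar_smul_left, smul_eq_mul, b1, one_mul, mem_perp.1 hp y hy] at k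
      exact mul_self_eq_zero.1 (by
        linear_combination k - polar Q b y * polar Q u y * CharTwo.two_eq_zero (R := F))
    rw [← H56.perp_perp p.nd (Submodule.span F _)]
    refine mem_perp.2 fun x hx => ?_
    obtain ⟨s, t, c, d, w, hw, rfl⟩ := LP_dec r hx
    have k := sing (w + (r.e 2 + Q w • r.f 2))
      (add_mem (W_LP r hw) (add_mem (e_LP r 2) ((LP r).smul_mem _ (f_LP r)))) (by
        simp [H56.Q_add, H56.Q_smul, r.qe, r.qf, r.ef, W_e' r hw, W_f' r hw, CharTwo.add_self_eq_zero])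
    have e := fun i => sing _ (e_LP r i) (r.qe i)
    have f := sing _ (f_LP r) (r.qf 2)
    simp only [polar_add_left, polar_smul_left, e, f, smul_zero, add_zero, zero_add] at k ⊢
    exact k
  have cs : ∀ y ∈ H56.perp Q A, E Q (r.e 0) y ∈ Cs B ∧ E Q (r.e 1) y ∈ Cs B := fun y hy => by
    constructor <;> refine mem_Cs.2 fun x hx => ?_ <;> obtain ⟨a0, h0, a1, h1, rfl⟩ := dec x hx
    · rw [mul_assoc, ← (cm01 r p (lp hy) h1.1).2 (mem_perp'.1 hy _ h1), ← mul_assoc, E_comm, mul_assoc]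
    · rw [mul_assoc, E_comm, ← mul_assoc, (cm01 r p h0.1 (lp hy)).2 (hy _ h0), mul_assoc]
  have zz : B ⊓ Cs B ≤ r.Z := fun x hx => by
    obtain ⟨a0, h0, a1, h1, rfl⟩ := dec x hx.1
    obtain ⟨s, t, e0⟩ := Submodule.mem_span_pair.1 (rad a0 h0 (mem_perp'.2 fun b hb => by
      have := mem_Cs.1 hx.2 _ (m1 hb)
      rw [mul_assoc, E_comm (r.e 1) a1, ← mul_assoc, ← mul_assoc, mul_left_inj] at this
      exact (cm01 r p h0.1 hb.1).1 this.symm))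
    obtain ⟨s', t', e1⟩ := Submodule.mem_span_pair.1 (rad a1 h1 fun b hb => by
      have := mem_Cs.1 hx.2 _ hb.2
      rw [← mul_assoc, E_comm (r.e 0) b, mul_assoc, mul_assoc, mul_right_inj] at this
      exact (cm01 r p hb.1 h1.1).1 this)
    rw [← e0, ← e1]
    refine mul_mem ?_ ?_
    · rw [add_comm, E_add_smul_self s (r.qe 0) (by simp [r.ee])]; exact r.z_mem t
    · rw [E_add_smul_self t' (r.qe 1) (by simp [r.ee]), r.ts.swap]; exact r.z_mem s'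
  refine or_iff_not_imp_left.2 fun hn => ⟨zz, ?_⟩
  obtain ⟨x, hx, y, hy, h⟩ : ∃ x ∈ H56.perp Q A, ∃ y ∈ H56.perp Q A, polar Q x y ≠ 0 := by
    by_contra k
    push Not at k
    have k1 : LP r ≤ A := H56.perp_perp p.nd A ▸ H56.perp_anti fun x hx =>
      rad x (H56.perp_perp p.nd A ▸ fun y hy => k y hy x hx) hx
    exact hn (Ql_le.2 fun w w0 w1 =>
      ⟨(k1 ((mem_LP r).2 ⟨w0, w1⟩)).2, m1 (k1 ((mem_LP r).2 ⟨w0, w1⟩))⟩)
  have x0 := (mem_LP r).1 (lp hx)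
  have y0 := (mem_LP r).1 (lp hy)
  have yy : E Q (r.e 0) x * E Q (r.e 1) y * (E Q (r.e 0) x * E Q (r.e 1) y) ≠ 1 := fun e =>
    h ((cm01 r p (lp hx) (lp hy)).1 (by
      rw [← inv_eq_of_mul_eq_one_right e, mul_inv_rev, E_inv, E_inv]))
  refine ⟨_, (E_mem_Ql x0.1 x0.2).1, _, mul_mem (E_mem_Ql x0.1 x0.2).1 (E_mem_Ql y0.1 y0.2).2,
    (cs x hx).1, mul_mem (cs x hx).1 (cs y hy).2, fun k => h (hy x ⟨lp hx, k⟩), fun k => ?_,
    by rw [E_sq]; exact yy.symm⟩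
  obtain ⟨c, hc⟩ := r.mem_Z.1 (zz ⟨k, mul_mem (cs x hx).1 (cs y hy).2⟩)
  exact yy (hc ▸ E_sq ..)

open H86.O6 in
theorem ra2 {n : ℕ} [StarRing F] [TrivialStar F] {ι : XU n F →* Om Q} {w : V} (d : Dc ι r w) (k : KK r)
    (kd : KD ι r w) : H78.Y3.RA2 (ta Q w) r.Z r.QQ (PO (cc r w) r.Z) := by
  have p := d.par.toPar0
  have mem : ∀ u a, u ≠ 0 → Q u = 0 → polar Q u a = 0 → Q a ≠ 0 → E Q u a ∈ r.P0 →
      E Q u a ∈ PO (cc r w) r.Z := fun u a h0 h1 h2 h3 h4 =>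
    subset_closure ⟨h4, (kd.ec _).2 ⟨u, a, h0, h1, h2, h3, rfl⟩⟩
  refine ⟨fun z hz => ?_, fun B hZ hQ hP => ?_⟩
  · obtain ⟨s, rfl⟩ := r.mem_Z.1 hz
    exact (k.fx w _ (by simp [d.qw])).2 (E_fix (d.we 0) (by simp [d.we]))
  · obtain ⟨a, ha, hq⟩ := r.exists_Q_ne p
    have hq' : ∀ (s : F) i, Q (s • r.f i + a) ≠ 0 := fun s i => by
      simpa [H56.Q_add, H56.Q_smul, r.qf, W_f r ha] using hq
    refine irr2 r p hZ hQ ha (fun s => hP ?_) (fun s => hP ?_) fun u hu u0 h0 => ?_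
    · exact mem _ _ (r.ne 0) (r.qe 0) (by simp [r.ef, W_e r ha]) (hq' s 1)
        (Ru_le_P0 r.ts (E_mem_Ru _ _))
    · exact mem _ _ (r.ne 1) (r.qe 1) (by simp [r.ef, W_e r ha]) (hq' s 0)
        (r.ts.P0_swap.le (Ru_le_P0 r.ts.symm (E_mem_Ru _ _)))
    · obtain ⟨b, b1, b2, b3, b4⟩ := k.p3 (r.e 0) (r.e 1) u
      have hb := (mem_LP r).2 ⟨b2, b3⟩
      exact ⟨b, hb, b1, b4, hP (mem u b u0 h0 b4 (by simp [b1]) (Fx_le_P0 r (E_mem_Fx r hu hb)))⟩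

theorem res_ra2 {n : ℕ} {F : Type} [Field F] [StarRing F] [TrivialStar F] [CharP F 2] [Finite F]
    {δ : F} {r : Fr (H86.SPI.QD n F δ)} (h : H86.O6.Res δ r) :
    H78.Y3.RA2 (H86.SPI.tO n F δ) r.Z r.QQ (PO (H86.O6.cc r (H86.SPI.w0 n F)) r.Z) :=
  ra2 r h.dc h.kk h.kd

end H85.O6RA
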