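import Cfsg.Agent.H85.DZTr

/-! DZ: partial actions as tables, subgroups as masks, extensions by one letter, lifting. -/

set_option autoImplicit false
set_option linter.unusedSectionVars false

namespace H85.En

open Subgroup Cfsg H14 H98 H1.Gold H31.S2 H85.FZ H85.DZ

universe u

/-- A partial action: the mask of the domain and the table of the images. -/
abbrev Mv := ℕ × ℕ

def fM {β : Type} (e : Mv) (k : Mv → β) : β :=
  Prod.rec (motive := fun _ => β) (fun a b => force a fun a => force b fun b => k (a, b)) e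

@[simp] theorem fM_eq {β : Type} (e : Mv) (k : Mv → β) : fM e k = k e := by
  cases e; simp [fM]

def fMs {β : Type} (l : List Mv) : (List Mv → β) → β :=
  List.rec (motive := fun _ => (List Mv → β) → β) (fun f => f [])
    (fun t _ ih f => fM t fun t => ih fun L => f (t :: L)) l

@[simp] theorem fMs_eq {β : Type} (l : List Mv) (f : List Mv → β) : fMs l f = f l := by
  induction l generalizing f with
  | nil => rfl
  | cons t L ih => exact (fM_eq t fun t => fMs L fun L => f (t :: L)).trans (ih _)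

/-- The table with the entries `f d` at the places `p d` (not verified). -/
def tab (l : List ℕ) (p f : ℕ → ℕ) : ℕ :=
  List.rec (motive := fun _ => ℕ) 0
    (fun d _ ih => Nat.lor (Nat.shiftLeft (f d) (Nat.mul 16 (p d))) ih) l

def lo (e : ℕ) : ℕ := Nat.land e 65535
def hi (e : ℕ) : ℕ := Nat.shiftRight e 16
def pr (c d : ℕ) : ℕ := Nat.add c (Nat.shiftLeft d 16)

theorem lo_pr {c : ℕ} (h : c < 2 ^ 16) (d : ℕ) : lo (pr c d) = c ∧ hi (pr c d) = d := by
  have h1 : lo (pr c d) = (c + d * 2 ^ 16) % 2 ^ 16 := by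
    rw [← Nat.and_two_pow_sub_one_eq_mod, ← Nat.shiftLeft_eq]; rfl
  have h2 : hi (pr c d) = (c + d * 2 ^ 16) / 2 ^ 16 := by
    rw [← Nat.shiftRight_eq_div_pow, ← Nat.shiftLeft_eq]; rfl
  omega

/-- The action with the coded pairs `l`. -/
def ofP (l : List ℕ) : Mv := forceL l fun l => force (tab l lo hi) fun t =>
  (msk ((l.filter fun e => Nat.beq (lk t (lo e)) (hi e)).map lo), t)

def gen2 (L : List ℕ) (gs : List (ℕ × ℕ)) : List ℕ :=
  gs.foldl (fun O g => forceL O fun O => fM g fun g => bif O.any (fun e => Nat.beq (lo e) g.1) then O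
    else O ++ O.map fun e => pr (mul L g.1 (lo e)) (mul L g.2 (hi e))) [0]

/-- The action generated by pairs of codes (a polycyclic sequence, lowest first). -/
def gnM (L : List ℕ) (gs : List (ℕ × ℕ)) : Mv := ofP (gen2 L gs)

/-- The action given by a substitution on the letters `S` (increasing). -/
def acM (L S : List ℕ) (f : List (ℕ × List ℕ)) : Mv := gnM L (S.map fun r => (2 ^ r, cw L (app f [r])))

def cmpM (n : ℕ) (e f : Mv) : Mv := fM e fun e => fM f fun f =>
  ofP ((flt n fun c => tb f.1 c && tb e.1 (lk f.2 c)).map fun c => pr c (lk e.2 (lk f.2 c)))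

def invM (n : ℕ) (e : Mv) : Mv := fM e fun e => ofP ((flt n (tb e.1)).map fun c => pr (lk e.2 c) c)

def resM (K : ℕ) (e : Mv) : Mv := fM e fun e => (Nat.land K e.1, e.2)

/-- The inverse of a code. -/
def iv (L : List ℕ) (n c : ℕ) : ℕ := force c fun c => bif Nat.beq (mul L c c) 0 then c else pw L c n

/-- Conjugation by the code `b`. -/
def cjc (L : List ℕ) (n b c : ℕ) : ℕ := mul L b (mul L c (iv L n b))

def inrM (L : List ℕ) (n b : ℕ) : Mv := force b fun b => force (iv L n b) fun i =>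
  ofP ((List.range (2 ^ n)).map fun c => pr c (mul L b (mul L c i)))

/-- `e f e⁻¹`. -/
def cjM (n : ℕ) (e f : Mv) : Mv := fM e fun e => cmpM n e (cmpM n f (invM n e))

/-- The code `b` acts on the codes `cs` as `e`. -/
def agr (L : List ℕ) (e : Mv) (cs : List ℕ) (b : ℕ) : Bool :=
  cs.all fun c => tb e.1 c && Nat.beq (mul L b c) (mul L (lk e.2 c) b)

/-- Some code `< 2 ^ k` acts on the codes `cs` as `e`. -/
def innM (L : List ℕ) (k : ℕ) (e : Mv) (cs : List ℕ) : Bool :=
  fM e fun e => forceL cs fun cs => !allB k fun b => !agr L e cs b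

/-- The word of a code. -/
def wd : ℕ → ℕ → List ℕ
  | 0, _ => []
  | k + 1, c => bif tb c k then k :: wd k c else wd k c

/-- The extension of `T` by a letter `g` with `g⁻¹ xᵢ g = imᵢ`, `g² = q`. -/
def xt (T : Tb) (im : List ℕ) (q : ℕ) : Tb :=
  T.ext ((List.range T.n).map fun i => (i, wd T.n (im.getD i 0))) (wd T.n q)

/-- The candidates for an automorphism that extends `e`; `ck`: further codes that are tested. -/
def axs (L : List ℕ) (T : Tb) (e : Mv) (ck : List ℕ) : List (List ℕ) := fM e fun e =>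
  (exts L T (fun k _ => bif tb e.1 (2 ^ k) then [lk e.2 (2 ^ k)] else List.range (2 ^ T.n)) T.n).filter
    fun im => forceL im fun im => (ck.all fun c => !tb e.1 c || Nat.beq (hom L im c) (lk e.2 c)) &&
      allB T.n fun c => Nat.beq c 0 || !Nat.beq (hom L im c) 0

/-- The action with the images `im` of the letters. -/
def imM (L : List ℕ) (n : ℕ) (im : List ℕ) : Mv := gnM L ((List.range n).map fun r => (2 ^ r, im.getD r 0))

def qOK (L : List ℕ) (n : ℕ) (im jm : List ℕ) (q : ℕ) : Bool := force q fun q =>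
  ((List.range n).all fun r => Nat.beq (mul L q (jm.getD r 0)) (mul L (2 ^ r) q)) && Nat.beq (hom L im q) q

/-- Extend by a letter `g`, where `g⁻¹` acts as `e` and `g² ∈ qs`, and run the test. -/
def step (L : List ℕ) (T : Tb) (e : Mv) (ck qs : List ℕ) (test : Tb → List ℕ → Bool) : Bool :=
  fM e fun e => (allB T.n fun b => (ck ++ lts T.n).any fun c =>
    tb e.1 c && !Nat.beq (mul L c b) (mul L b (lk e.2 c))) &&
  (axs L T e ck).all fun im => forceL im fun im => forceL (im.map (hom L im)) fun jm =>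
    qs.all fun q => force q fun q => !qOK L T.n im jm q || run (xt T im q) (test (xt T im q))

def gen (L : List ℕ) (gs : List ℕ) : List ℕ :=
  gs.foldl (fun O g => forceL O fun O => force g fun g => bif mem g O then O else O ++ O.map (mul L g)) [0]

/-- The mask of the subgroup generated by the codes `gs` (a polycyclic sequence, lowest first). -/
def gm (L : List ℕ) (gs : List ℕ) : ℕ := msk (gen L gs)

/-- `gm L gs` is closed. -/
def clo (L : List ℕ) (n : ℕ) (gs : List ℕ) : Bool := forceL gs fun gs => forceL (gen L gs) fun l =>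
  force (msk l) fun K => gs.all fun g => decide (g < 2 ^ n) && l.all fun c => tb K (mul L g c)

/-- The mask of all codes `< 2 ^ k`. -/
def ful (k : ℕ) : ℕ := 2 ^ 2 ^ k - 1

def nrm (n : ℕ) (e : Mv) (K : ℕ) : Bool := allB n fun c => !tb K c || (tb e.1 c && tb K (lk e.2 c))

def trv (L : List ℕ) (n : ℕ) (e : Mv) : ℕ → List ℕ → Bool
  | _, [] => true
  | K₀, K₁ :: Ks => (allB n fun c => !tb K₁ c || (tb e.1 c && tb K₀ (mul L (lk e.2 c) (iv L n c)))) &&
      trv L n e K₁ Ks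

def chn : ℕ → List ℕ → Bool
  | _, [] => true
  | K₀, K₁ :: Ks => Nat.beq (Nat.land K₀ K₁) K₀ && chn K₁ Ks

/-- The masks `Ks` form a chain that is normalized by the group and by `e`. -/
def lfOK (L : List ℕ) (n : ℕ) (e : Mv) (Ks : List ℕ) : Bool := fM e fun e => forceL Ks fun Ks =>
  chn 1 Ks && Ks.all (nrm n e) && (lts n).all fun b => fM (inrM L n b) fun f => Ks.all (nrm n f)

/-- Every letter is in the domain of `e`, or its conjugate acts on `cs` like a code. -/
def actOK (L : List ℕ) (n : ℕ) (e : Mv) (cs : List ℕ) : Bool := fM e fun e =>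
  (lts n).all fun r => tb e.1 r || innM L n (cjM n e (inrM L n r)) cs

variable {G : Type u} [Group G] {T : Tb} {L : List ℕ} {x : ℕ → G} {g h : G} {e f : Mv} {n k b c d K K' : ℕ}
  {Q Q' R : Subgroup G}

/-- `g` acts as `e`. -/
def Ap (x : ℕ → G) (n : ℕ) (g : G) (e : Mv) : Prop :=
  ∀ c, tb e.1 c = true → c < 2 ^ n ∧ lk e.2 c < 2 ^ n ∧ E x n (lk e.2 c) = g * E x n c * g⁻¹

/-- `K` is the mask of `Q`. -/
structure Sg (x : ℕ → G) (n K : ℕ) (Q : Subgroup G) : Prop where
  le : Q ≤ H x n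
  iff : ∀ c < 2 ^ n, tb K c = true ↔ E x n c ∈ Q

theorem E_ext (g : G) (h : k ≤ n) (c : ℕ) : E (ext x n g) k c = E x k c := by
  induction k with
  | zero => rfl
  | succ k ih => rw [E, E, ih (by omega), show FZ.ext x n g k = x k from if_neg (by omega)]

theorem E_up (g : G) (hc : c < 2 ^ n) : E (ext x n g) (n + 1) c = E x n c := by
  rw [E_lo _ hc, E_ext g le_rfl]

theorem E_top (g : G) : E (ext x n g) (n + 1) (2 ^ n) = g := by
  rw [E_pow _ n.lt_succ_self, FZ.ext, if_pos rfl]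

theorem Ap.up (A : Ap x n g e) (y : G) : Ap (ext x n y) (n + 1) g e := fun c hc => by
  obtain ⟨h1, h2, h3⟩ := A c hc
  exact ⟨by omega, by omega, by rw [E_up y h1, E_up y h2, h3]⟩

theorem tb_land : tb (Nat.land K K') c = (tb K c && tb K' c) := by
  rw [tb_eq, tb_eq, tb_eq]; exact Nat.testBit_and _ _ _

theorem tb_ful : tb (ful k) c = true ↔ c < 2 ^ k := by
  rw [tb_eq, ful, Nat.testBit_two_pow_sub_one, decide_eq_true_eq]

theorem Ap.res (A : Ap x n g e) (K : ℕ) : Ap x n g (resM K e) := fun c hc => by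
  rw [resM, fM_eq] at hc ⊢
  exact A c (Bool.and_eq_true_iff.1 (tb_land.symm.trans hc)).2

theorem ofP_ap {l : List ℕ} (h : ∀ e ∈ l, lo e < 2 ^ n ∧ hi e < 2 ^ n ∧
    E x n (hi e) = g * E x n (lo e) * g⁻¹) : Ap x n g (ofP l) := fun c hc => by
  simp only [ofP, forceL_eq, force_eq, tb_msk, List.mem_map, List.mem_filter, Nat.beq_eq] at hc ⊢
  obtain ⟨e, ⟨h1, h2⟩, rfl⟩ := hc
  rw [h2]; exact h e h1

theorem ofP_map (hn : n ≤ 16) {l : List ℕ} {p q : ℕ → ℕ} (h : ∀ c ∈ l, p c < 2 ^ n ∧ q c < 2 ^ n ∧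
    E x n (q c) = g * E x n (p c) * g⁻¹) : Ap x n g (ofP (l.map fun c => pr (p c) (q c))) :=
  ofP_ap fun e he => by
    obtain ⟨c, hc, rfl⟩ := List.mem_map.1 he
    have := lo_pr ((h c hc).1.trans_le (Nat.pow_le_pow_right two_pos hn)) (q c)
    rw [this.1, this.2]; exact h c hc

theorem W_wd (x : ℕ → G) (k c : ℕ) : W x (wd k c) = E x k c ∧ (wd k c).all (· < k) = true := by
  induction k with
  | zero => exact ⟨rfl, rfl⟩
  | succ k ih =>
    have := List.all_eq_true.2 fun r hr => decide_eq_true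
      ((of_decide_eq_true (List.all_eq_true.1 ih.2 r hr)).trans k.lt_succ_self)
    rw [wd, E, tb_eq]
    cases c.testBit k
    · exact ⟨ih.1, this⟩
    · exact ⟨by simp [ih.1], by simpa using this⟩

theorem app_range {i : ℕ} {w : ℕ → List ℕ} (hi : i < n) :
    app ((List.range n).map fun i => (i, w i)) [i] = w i := by
  have : ((List.range n).map fun i => (i, w i)).find? (fun e => e.1 == i) = some (i, w i) := by
    rw [List.find?_map, show (List.range n).find? _ = some i from ?_]; rfl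
    exact List.find?_range_eq_some.2 ⟨by simp, List.mem_range.2 hi, fun j hj => by simpa using hj.ne⟩
  rw [app, List.flatMap_singleton, this]; rfl

theorem mem_lts : c ∈ lts n ↔ ∃ r < n, 2 ^ r = c := by simp [lts]

theorem Sg.bot (M : Md T L x) : Sg x T.n 1 ⊥ := ⟨bot_le, fun c hc => by
  rw [mem_bot, ← E_zero x T.n, M.inj hc (by positivity), tb_eq, Nat.testBit_one_eq_true_iff_self_eq_zero]⟩

theorem Sg.inf (h : Sg x n K Q) (h' : Sg x n K' Q') : Sg x n (Nat.land K K') (Q ⊓ Q') :=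
  ⟨inf_le_left.trans h.le, fun c hc => by
    rw [tb_land, Bool.and_eq_true, h.iff c hc, h'.iff c hc, mem_inf]⟩

namespace Md

variable (M : Md T L x)
include M

theorem le16 : T.n ≤ 16 := by
  by_contra h
  have : En.lk (L.getD 16 0) 0 ≤ 65535 := Nat.and_le_right
  rw [M.bit 16 (by omega)] at this
  omega

theorem cmp (A : Ap x T.n g e) (B : Ap x T.n h f) : Ap x T.n (g * h) (cmpM T.n e f) := by
  rw [cmpM, fM_eq, fM_eq]
  refine ofP_map M.le16 (p := id) fun c hc => ?_
  have := Bool.and_eq_true_iff.1 (mem_flt.1 hc).2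
  obtain ⟨h1, -, h2⟩ := B c this.1
  obtain ⟨-, h3, h4⟩ := A _ this.2
  exact ⟨h1, h3, by rw [h4, h2, id]; group⟩

theorem inv (A : Ap x T.n g e) : Ap x T.n g⁻¹ (invM T.n e) := by
  rw [invM, fM_eq]
  refine ofP_map M.le16 (q := id) fun c hc => ?_
  obtain ⟨h1, h2, h3⟩ := A c (mem_flt.1 hc).2
  exact ⟨h2, h1, by rw [h3, id]; group⟩

theorem cj (A : Ap x T.n g e) (B : Ap x T.n h f) : Ap x T.n (g * h * g⁻¹) (cjM T.n e f) := by
  rw [cjM, fM_eq, mul_assoc]; exact M.cmp A (M.cmp B (M.inv A))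

theorem gn {gs : List (ℕ × ℕ)} (h : ∀ p ∈ gs, E x T.n p.2 = g * E x T.n p.1 * g⁻¹) :
    Ap x T.n g (gnM L gs) := by
  refine ofP_ap (List.foldlRecOn (motive := fun O : List ℕ => ∀ e ∈ O, lo e < 2 ^ T.n ∧ hi e < 2 ^ T.n ∧
    E x T.n (hi e) = g * E x T.n (lo e) * g⁻¹) gs _ (fun e he => ?_) fun O ih p hp e he => ?_)
  · rw [List.mem_singleton.1 he]
    exact ⟨Nat.two_pow_pos _, Nat.two_pow_pos _, by simp [show lo 0 = 0 from rfl, show hi 0 = 0 from rfl]⟩
  · rw [forceL_eq, fM_eq] at he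
    cases k : O.any (fun e => Nat.beq (lo e) p.1) <;> rw [k] at he
    swap
    · exact ih e he
    rcases List.mem_append.1 he with k | k
    · exact ih e k
    obtain ⟨d, hd, rfl⟩ := List.mem_map.1 k
    obtain ⟨h1, h2, h3⟩ := ih d hd
    have := lo_pr ((M.mul_lt p.1 h1).trans_le (Nat.pow_le_pow_right two_pos M.le16)) (En.mul L p.2 (hi d))
    rw [this.1, this.2, M.E_mul _ h1, M.E_mul _ h2, h3, h p hp, conj_mul]
    exact ⟨M.mul_lt _ h1, M.mul_lt _ h2, rfl⟩

theorem ac {S : List ℕ} {f : List (ℕ × List ℕ)} (A : Act x g S f)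
    (h : (S.all fun r => r < T.n && (app f [r]).all (· < T.n)) = true) : Ap x T.n g (acM L S f) :=
  M.gn fun p hp => by
    obtain ⟨r, hr, rfl⟩ := List.mem_map.1 hp
    have := Bool.and_eq_true_iff.1 (List.all_eq_true.1 h r hr)
    rw [(M.cw this.2).2, E_pow x (of_decide_eq_true this.1), A r hr]

theorem E_cw {w : List ℕ} (hw : w.all (· < T.n) = true) : E x T.n (En.cw L w) = W x w := (M.cw hw).2

variable [Finite G]

theorem card : Nat.card (H x T.n) = 2 ^ T.n := M.P.card M.wf le_rfl M.I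

theorem two : IsPGroup 2 (H x T.n) := M.P.isPGroup M.wf le_rfl

theorem iv_spec (hc : c < 2 ^ T.n) : iv L T.n c < 2 ^ T.n ∧ E x T.n (iv L T.n c) = (E x T.n c)⁻¹ := by
  rw [iv, force_eq]
  cases e : Nat.beq (En.mul L c c) 0
  swap
  · exact ⟨hc, M.E_inv hc e⟩
  have key : ∀ k, E x T.n (pw L c k) * E x T.n c = E x T.n c ^ 2 ^ k ∧
      Commute (E x T.n c) (E x T.n (pw L c k)) := fun k => by
    induction k with
    | zero => simp [pw]
    | succ k ih =>
      have : pw L c (k + 1) = En.mul L c (En.mul L (pw L c k) (pw L c k)) :=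
        force_eq (pw L c k) fun d => En.mul L c (En.mul L d d)
      rw [this, M.E_mul _ (M.mul_lt _ (M.pw_lt c k)), M.E_mul _ (M.pw_lt c k)]
      refine ⟨?_, (Commute.refl _).mul_right (ih.2.mul_right ih.2)⟩
      rw [pow_succ, pow_mul, pow_two, ← ih.1, ← mul_assoc, ih.2.eq]
      simp only [mul_assoc]
  refine ⟨M.pw_lt c _, eq_inv_of_mul_eq_one_left ?_⟩
  rw [cond_false, (key _).1, ← M.card]
  exact congrArg Subtype.val (pow_card_eq_one' (x := (⟨_, E_mem x T.n c⟩ : H x T.n)))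

theorem cjc_spec (hb : b < 2 ^ T.n) (c : ℕ) : cjc L T.n b c < 2 ^ T.n ∧
    E x T.n (cjc L T.n b c) = E x T.n b * E x T.n c * (E x T.n b)⁻¹ := by
  have := M.iv_spec hb
  rw [cjc, M.E_mul _ (M.mul_lt _ this.1), M.E_mul _ this.1, this.2, mul_assoc]
  exact ⟨M.mul_lt _ (M.mul_lt _ this.1), rfl⟩

theorem inr (hb : b < 2 ^ T.n) : Ap x T.n (E x T.n b) (inrM L T.n b) := by
  rw [inrM, force_eq, force_eq]
  exact ofP_map M.le16 (p := id) fun c hc => ⟨List.mem_range.1 hc, M.cjc_spec hb c⟩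

theorem inl {r : ℕ} (hr : r < T.n) : Ap x T.n (x r) (inrM L T.n (2 ^ r)) :=
  E_pow x hr ▸ M.inr (Nat.pow_lt_pow_right one_lt_two hr)

theorem agr_iff (A : Ap x T.n g e) (hb : b < 2 ^ T.n) {cs : List ℕ} : agr L e cs b = true ↔
    ∀ c ∈ cs, tb e.1 c = true ∧ (E x T.n b)⁻¹ * g * E x T.n c = E x T.n c * ((E x T.n b)⁻¹ * g) := by
  simp only [agr, List.all_eq_true, Bool.and_eq_true]
  refine forall₂_congr fun c _ => and_congr_right fun hc => ?_
  obtain ⟨h1, -, h2⟩ := A c hc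
  rw [M.eq_iff h1 hb, h2]
  constructor <;> intro k
  · rw [mul_assoc, inv_mul_eq_iff_eq_mul, ← mul_assoc, ← mul_assoc, k]; group
  · rw [mul_assoc, inv_mul_eq_iff_eq_mul] at k
    rw [k]; group

/-- (ACT) -/
theorem inn_iff (A : Ap x T.n g e) (hk : k ≤ T.n) {cs : List ℕ} : innM L k e cs = true ↔
    ∃ y ∈ H x k, ∀ c ∈ cs, tb e.1 c = true ∧ y⁻¹ * g * E x T.n c = E x T.n c * (y⁻¹ * g) := by
  have l : ∀ b < 2 ^ k, b < 2 ^ T.n := fun b hb => hb.trans_le (Nat.pow_le_pow_right two_pos hk)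
  simp only [innM, fM_eq, forceL_eq, Bool.not_eq_true', ← Bool.not_eq_true, allB_iff, not_forall,
    not_not, exists_prop]
  refine ⟨fun ⟨b, hb, h⟩ => ⟨_, E_mono x hb hk ▸ E_mem x k b, (M.agr_iff A (l b hb)).1 h⟩,
    fun ⟨y, hy, h⟩ => ?_⟩
  obtain ⟨b, hb, rfl⟩ := E_surj M.P M.wf hk hy
  exact ⟨b, hb, (M.agr_iff A (l b hb)).2 (E_mono x hb hk ▸ h)⟩

/-- `g` induces an inner automorphism of `H x j` given by an element of `H x k`. -/
theorem inn_sup (A : Ap x T.n g e) (hk : k ≤ T.n) {j : ℕ} (hj : j ≤ T.n)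
    (h : innM L k e (lts j) = true) : g ∈ H x k ⊔ cen (H x j) := by
  obtain ⟨y, hy, h⟩ := (M.inn_iff A hk).1 h
  rw [← mul_inv_cancel_left y g]
  refine mul_mem_sup hy (le_cen1_iff.1 (H_le fun i hi => mem_cen1.2 ?_))
  have := (h _ (mem_lts.2 ⟨i, hi, rfl⟩)).2
  rw [E_pow x (by omega)] at this
  exact this.symm

theorem sup_inn (A : Ap x T.n g e) {j : ℕ} (hk : k ≤ j) (hj : j ≤ T.n) (hn : H x k ≤ nor (H x j))
    (hg : g ∈ H x k ⊔ cen (H x j)) (he : (lts j).all (tb e.1) = true) : innM L k e (lts j) = true := by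
  have : ∃ y ∈ H x k, y⁻¹ * g ∈ cen (H x j) := by
    have h2 : (H x k : Subgroup G) ≤ nor (cen (H x j)) := hn.trans (normalizer_le_normalizer_centralizer _)
    obtain ⟨y, hy, z, hz, rfl⟩ := (mem_sup_left_norm h2).1 hg
    exact ⟨y, hy, by simpa using hz⟩
  obtain ⟨y, hy, h⟩ := this
  refine (M.inn_iff A (hk.trans hj)).2 ⟨y, hy, fun c hc => ⟨List.all_eq_true.1 he c hc, ?_⟩⟩
  obtain ⟨r, hr, rfl⟩ := mem_lts.1 hc
  rw [E_pow x (by omega)]
  exact mem_cen_iff.1 h _ (x_mem hr)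

theorem cen_of {cs : List ℕ} (h : ∀ c ∈ cs, g * E x T.n c = E x T.n c * g) :
    g ∈ cen (cl (cs.map (E x T.n))) :=
  le_cen1_iff.1 (cl_le.2 fun y hy => by
    obtain ⟨c, hc, rfl⟩ := List.mem_map.1 hy
    exact mem_cen1.2 (h c hc).symm)

/-- (ACT) `g` normalizes the group if it lies with it in a group `R` whose elements that centralize
the codes `cs` are in the group. -/
theorem act_nor (A : Ap x T.n g e) {cs : List ℕ} (hR : H x T.n ≤ R) (hg : g ∈ R)
    (sc : ∀ y ∈ R, y ∈ cen (cl (cs.map (E x T.n))) → y ∈ H x T.n) (h : actOK L T.n e cs = true) :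
    g ∈ nor (H x T.n) := by
  simp only [actOK, fM_eq, List.all_eq_true, Bool.or_eq_true] at h
  refine mem_normalizer_fintype fun y hy =>
    H_le (K := (H x T.n).comap (MulAut.conj g).toMonoidHom) (fun r hr => ?_) hy
  change g * x r * g⁻¹ ∈ H x T.n
  rcases h _ (mem_lts.2 ⟨r, hr, rfl⟩) with k | k
  · rw [← E_pow x hr, ← (A _ k).2.2]; exact E_mem _ _ _
  · obtain ⟨y, hy, k⟩ := (M.inn_iff (M.cj A (M.inl hr)) le_rfl).1 k
    exact (mul_mem_cancel_left (inv_mem hy)).1 (sc _ (mul_mem (inv_mem (hR hy))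
      (mul_mem (mul_mem hg (hR (x_mem hr))) (inv_mem hg))) (M.cen_of fun c hc => (k c hc).2))

theorem axs_spec (A : Ap x T.n g e) (hg : g ∈ nor (H x T.n)) (ck : List ℕ) :
    ∃ im ∈ axs L T e ck, im.length = T.n ∧
      ∀ j < T.n, im.getD j 0 < 2 ^ T.n ∧ E x T.n (im.getD j 0) = g * x j * g⁻¹ := by
  obtain ⟨im, h1, h2, h3⟩ := M.exts (M.P.cjg g) M.wf (cand := fun k _ =>
    bif tb e.1 (2 ^ k) then [En.lk e.2 (2 ^ k)] else List.range (2 ^ T.n)) le_rfl
    (fun i hi => conj_mem_of_mem_normalizer hg (x_mem hi)) fun i hi _ _ _ c hc k => by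
      cases e' : tb e.1 (2 ^ i)
      · exact List.mem_range.2 hc
      · obtain ⟨-, l, k'⟩ := A _ e'
        exact List.mem_singleton.2 ((M.inj hc l).1 (by rw [k, k', E_pow x hi]))
  have k : ∀ c, En.hom L im c < 2 ^ T.n ∧ E x T.n (En.hom L im c) = g * E x T.n c * g⁻¹ := fun c => by
    have := M.hom (y := fun i => g * x i * g⁻¹) (im := im) c fun r hr _ => (h3 r (h2 ▸ hr)).2
    rwa [E_conj, h2] at this
  refine ⟨im, ?_, h2, h3⟩
  simp only [axs, fM_eq, List.mem_filter, forceL_eq, Bool.and_eq_true, List.all_eq_true, allB_iff,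
    Bool.or_eq_true, Bool.not_eq_true', Nat.beq_eq]
  refine ⟨h1, fun c _ => ?_, fun c hc => or_iff_not_imp_left.2 fun e' => ?_⟩
  · cases e' : tb e.1 c
    · exact Or.inl rfl
    · exact Or.inr ((M.inj (k c).1 (A c e').2.1).1 (by rw [(k c).2, (A c e').2.2]))
  · refine Bool.eq_false_iff.2 fun k' => e' ((M.inj hc (by positivity)).1 ?_)
    have := (k c).2
    rw [Nat.eq_of_beq_eq_true k', E_zero, eq_comm, conj_eq_one_iff] at this
    rw [this, E_zero]

/-- The possible actions of an element that normalizes the group. -/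
theorem axs_ap (A : Ap x T.n g e) (hg : g ∈ nor (H x T.n)) (ck : List ℕ) :
    ∃ im ∈ axs L T e ck, Ap x T.n g (imM L T.n im) := by
  obtain ⟨im, h1, -, h3⟩ := M.axs_spec A hg ck
  refine ⟨im, h1, M.gn fun p hp => ?_⟩
  obtain ⟨r, hr, rfl⟩ := List.mem_map.1 hp
  rw [(h3 r (List.mem_range.1 hr)).2, E_pow x (List.mem_range.1 hr)]

/-- Extension by one letter. -/
theorem step_spec (A : Ap x T.n g⁻¹ e) (hg : g ∈ nor (H x T.n)) {ck qs : List ℕ}
    (hq : ∃ q ∈ qs, q < 2 ^ T.n ∧ g * g = E x T.n q) {test : Tb → List ℕ → Bool}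
    (h : step L T e ck qs test = true) :
    ∃ T' L', T'.n = T.n + 1 ∧ Md T' L' (ext x T.n g) ∧ test T' L' = true := by
  simp only [step, fM_eq, Bool.and_eq_true, allB_iff, List.any_eq_true, List.all_eq_true, forceL_eq,
    force_eq, Bool.or_eq_true, Bool.not_eq_true'] at h
  obtain ⟨im, h1, h2, h3⟩ := M.axs_spec A (inv_mem hg) ck
  obtain ⟨q, q1, q2, q3⟩ := hq
  have k : ∀ c, En.hom L im c < 2 ^ T.n ∧ E x T.n (En.hom L im c) = g⁻¹ * E x T.n c * g⁻¹⁻¹ := fun c => by
    have := M.hom (y := fun i => g⁻¹ * x i * g⁻¹⁻¹) (im := im) c fun r hr _ => (h3 r (h2 ▸ hr)).2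
    rwa [E_conj, h2] at this
  have ok : qOK L T.n im (im.map (En.hom L im)) q = true := by
    simp only [qOK, force_eq, Bool.and_eq_true, List.all_eq_true, List.mem_range]
    refine ⟨fun r hr => ?_, Nat.beq_eq ▸ (M.inj (k q).1 q2).1 (by rw [(k q).2, ← q3]; group)⟩
    rw [show (im.map (En.hom L im)).getD r 0 = En.hom L im (im.getD r 0) by simp [h2, hr],
      M.eq_iff (k _).1 q2, (k _).2, (h3 r hr).2, E_pow x hr, ← q3]
    group
  have r := run_spec ((h.2 im h1 q q1).resolve_left (by simp [ok]))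
  refine ⟨_, _, rfl, md (M.P.ext M.wf (fun i hi => ?_) (by rw [(W_wd x _ _).1, q3]) ?_)
    (M.I.ext fun hb' => ?_) r.1, r.2⟩
  · have hi := List.mem_range.1 hi
    rw [app_range hi, (W_wd x _ _).1, (h3 i hi).2]
  · simp only [Bool.and_eq_true, List.all_eq_true, List.mem_range]
    exact ⟨fun i hi => by rw [app_range hi]; exact List.all_eq_true.1 (W_wd x _ _).2,
      List.all_eq_true.1 (W_wd x _ _).2⟩
  · obtain ⟨b, hb, e'⟩ := M.surj hb'
    subst e'
    obtain ⟨c, -, c1, c2⟩ := h.1 b hb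
    rw [(M.eq_iff hb (A c c1).2.1).2 (by rw [(A c c1).2.2]; group)] at c2
    exact Bool.noConfusion c2

theorem gen_mem {gs : List ℕ} (hc : c ∈ gen L gs) :
    c < 2 ^ T.n ∧ E x T.n c ∈ cl (gs.map (E x T.n)) := by
  refine List.foldlRecOn (motive := fun O : List ℕ => ∀ c ∈ O, c < 2 ^ T.n ∧
    E x T.n c ∈ cl (gs.map (E x T.n))) gs _ (fun c hc => ?_) (fun O ih g hg c hc => ?_) c hc
  · rw [List.mem_singleton.1 hc, E_zero]
    exact ⟨Nat.two_pow_pos _, one_mem _⟩
  · rw [forceL_eq, force_eq] at hc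
    cases e : mem g O <;> rw [e] at hc
    swap
    · exact ih c hc
    rcases List.mem_append.1 hc with k | k
    · exact ih c k
    obtain ⟨d, hd, rfl⟩ := List.mem_map.1 k
    rw [M.E_mul _ (ih d hd).1]
    exact ⟨M.mul_lt _ (ih d hd).1, mul_mem (mem_cl (List.mem_map_of_mem hg)) (ih d hd).2⟩

theorem sg {gs : List ℕ} (h : clo L T.n gs = true) : Sg x T.n (gm L gs) (cl (gs.map (E x T.n))) := by
  simp only [clo, forceL_eq, force_eq, List.all_eq_true, Bool.and_eq_true, decide_eq_true_eq, tb_msk] at h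
  have z : ∀ (gs O : List ℕ), 0 ∈ O → 0 ∈ gs.foldl (fun O g => forceL O fun O => force g fun g =>
      bif mem g O then O else O ++ O.map (En.mul L g)) O := fun gs => by
    induction gs with
    | nil => exact fun _ h => h
    | cons g gs ih =>
      refine fun O h => ih _ ?_
      simp only [forceL_eq, force_eq]
      cases mem g O
      exacts [List.mem_append_left _ h, h]
  refine ⟨cl_le.2 fun y hy => ?_, fun c hc => ⟨fun k => (M.gen_mem (tb_msk.1 k)).2, fun k => ?_⟩⟩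
  · obtain ⟨c, -, rfl⟩ := List.mem_map.1 hy
    exact E_mem _ _ _
  have : ∀ y ∈ Submonoid.closure {y : G | y ∈ gs.map (E x T.n)}, ∃ d ∈ gen L gs, y = E x T.n d := fun y hy => by
    induction hy using Submonoid.closure_induction_left with
    | one => exact ⟨0, z _ _ (List.mem_singleton_self 0), (E_zero _ _).symm⟩
    | mul_left a ha y _ ih =>
      obtain ⟨g, hg, rfl⟩ := List.mem_map.1 ha
      obtain ⟨d, hd, rfl⟩ := ih
      exact ⟨_, (h g hg).2 d hd, (M.E_mul _ (M.gen_mem hd).1).symm⟩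
  obtain ⟨d, hd, e⟩ := this (E x T.n c) (by rw [← closure_toSubmonoid_of_finite, mem_toSubmonoid]; rwa [cl] at k)
  exact tb_msk.2 ((M.inj hc (M.gen_mem hd).1).1 e ▸ hd)

/-- The subgroup generated by words. -/
theorem sgw {ws : List (List ℕ)} (hw : (ws.all fun w => w.all (· < T.n)) = true)
    (h : clo L T.n (ws.map (En.cw L)) = true) : Sg x T.n (gm L (ws.map (En.cw L))) (cl (ws.map (W x))) := by
  have := M.sg h
  rwa [List.map_map, List.map_congr_left (f := E x T.n ∘ En.cw L) (g := W x) fun w k => M.E_cw (List.all_eq_true.1 hw w k)] at this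

theorem sgH (hk : k ≤ T.n) : Sg x T.n (ful k) (H x k) := ⟨H_mono hk, fun c hc => by
  refine tb_ful.trans ⟨fun e => E_mono x e hk ▸ E_mem x k c, fun e => ?_⟩
  obtain ⟨d, hd, e⟩ := E_surj M.P M.wf hk e
  rwa [(M.inj hc (hd.trans_le (Nat.pow_le_pow_right two_pos hk))).1 (e.trans (E_mono x hd hk).symm)]⟩

theorem sg_card (h : Sg x T.n K Q) : Nat.card Q = cnt T.n (tb K) := M.card_eq h.le h.iff

theorem sg_ex (h : Sg x T.n K Q) (hg : g ∈ Q) : ∃ c < 2 ^ T.n, tb K c = true ∧ g = E x T.n c := by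
  obtain ⟨c, hc, rfl⟩ := M.surj (h.le hg)
  exact ⟨c, hc, (h.iff c hc).2 hg, rfl⟩

theorem nrm_spec (A : Ap x T.n g e) (h : Sg x T.n K Q) (k : nrm T.n e K = true) : g ∈ nor Q :=
  mem_normalizer_fintype fun y hy => by
    obtain ⟨c, hc, h1, rfl⟩ := M.sg_ex h hy
    have := allB_iff.1 k c hc
    rw [h1, Bool.not_true, Bool.false_or, Bool.and_eq_true] at this
    exact (A c this.1).2.2 ▸ (h.iff _ (A c this.1).2.1).1 this.2

theorem trv_spec (A : Ap x T.n g e) {Ks : List ℕ} {Qs : List (Subgroup G)} (h : Sg x T.n K Q)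
    (F : List.Forall₂ (Sg x T.n) Ks Qs) (k : trv L T.n e K Ks = true) : Triv g Q Qs := by
  induction F generalizing K Q with
  | nil => trivial
  | cons h1 _ ih =>
    rw [trv, Bool.and_eq_true, allB_iff] at k
    refine ⟨fun y hy => ?_, ih h1 k.2⟩
    obtain ⟨c, hc, h2, rfl⟩ := M.sg_ex h1 hy
    have := k.1 c hc
    rw [h2, Bool.not_true, Bool.false_or, Bool.and_eq_true] at this
    have l := M.iv_spec hc
    have := (h.iff _ (M.mul_lt _ l.1)).1 this.2
    rwa [M.E_mul _ l.1, l.2, (A c ‹_ ∧ _›.1).2.2] at this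

theorem chn_spec {Ks : List ℕ} {Qs : List (Subgroup G)} (h : Sg x T.n K Q)
    (F : List.Forall₂ (Sg x T.n) Ks Qs) (k : chn K Ks = true) : (Q :: Qs).IsChain (· ≤ ·) := by
  induction F generalizing K Q with
  | nil => exact List.isChain_singleton _
  | cons h1 _ ih =>
    rw [chn, Bool.and_eq_true, Nat.beq_eq] at k
    refine List.IsChain.cons_cons (fun y hy => ?_) (ih h1 k.2)
    obtain ⟨c, hc, h2, rfl⟩ := M.sg_ex h hy
    rw [← k.1, tb_land, Bool.and_eq_true] at h2
    exact (h1.iff c hc).1 h2.2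

/-- (LIFT) After multiplication with an element of `C(Q)`, `g` normalizes a `2`-group `R` that is
normalized by the group and contains the elements of the group that stabilize the chain. -/
theorem lift (jL : JobL.{u}) (A : Ap x T.n g e) {Ks : List ℕ} {Qs : List (Subgroup G)}
    (F : List.Forall₂ (Sg x T.n) Ks Qs) (h : Sg x T.n K Q) (k : lfOK L T.n e (Ks ++ [K]) = true) :
    ∃ R, ∃ c ∈ cen Q, IsPGroup 2 ↥(H x T.n ⊔ R) ∧ H x T.n ≤ nor R ∧ c * g ∈ nor R ∧ R ≤ nor Q ∧
      Ap x T.n (c * g) (resM K e) ∧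
      ∀ b < 2 ^ T.n, trv L T.n (inrM L T.n b) 1 (Ks ++ [K]) = true → E x T.n b ∈ R := by
  have F' := List.rel_append F (.cons h .nil)
  simp only [lfOK, fM_eq, forceL_eq, Bool.and_eq_true] at k
  have nr : ∀ {g e}, Ap x T.n g e → (Ks ++ [K]).all (nrm T.n e) = true → ∀ R ∈ Qs ++ [Q], g ∈ nor R :=
    fun A k R hR => by
      obtain ⟨i, hi, rfl⟩ := List.getElem_of_mem hR
      exact M.nrm_spec A (F'.get (F'.length_eq ▸ hi) hi) (List.all_eq_true.1 k _ (List.get_mem _ _))
  obtain ⟨N, st, h1, h2⟩ := jL.stab G Qs Q (M.chn_spec (Sg.bot M) F' k.1.1) (M.two.to_le h.le)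
  obtain ⟨R, s1, s2, s3, s4⟩ := jL.lift0 G Q N _ st M.two (H_le fun r hr => h2 _
    (nr (M.inl hr) (by simpa using List.all_eq_true.1 k.2 _ (mem_lts.2 ⟨r, hr, rfl⟩))))
  obtain ⟨c, c1, c2⟩ := s4 g (h2 g (nr A k.1.2))
  refine ⟨R, c, c1, M.two.to_sup_of_normal_right' s1.isPGroup s2, s2, c2, s1.le.trans st.le,
    fun d hd => ?_, fun b hb k => s3 ⟨E_mem _ _ _, (h1 _).2 (M.trv_spec (M.inr hb) (Sg.bot M) F' k)⟩⟩
  obtain ⟨d1, d2, d3⟩ := A.res K d hd
  refine ⟨d1, d2, ?_⟩
  rw [resM, fM_eq, tb_land, Bool.and_eq_true] at hd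
  have := mem_cen_iff.1 c1 _ (conj_mem_of_mem_normalizer (nr A k.1.2 Q (by simp)) ((h.iff d d1).1 hd.1))
  rw [d3, mul_inv_rev, ← mul_assoc, eq_mul_inv_iff_mul_eq, ← this]; group

end Md

end H85.En
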