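import Cfsg.Agent.H85.DZAc

/-! DZ: classes of involutions, fusion, labelled counting, the Sylow test, transfer, `X ⊓ S`. -/

set_option autoImplicit false
set_option linter.unusedSectionVars false

namespace H85.En

open Subgroup Cfsg H14 H98 H1.Gold H31.S2 H85.FZ H85.DZ H49.D8

universe u

/-- The pairs `(c, c r)` for `c < 2 ^ k`. -/
def row (L : List ℕ) (r k : ℕ) : List ℕ :=
  Nat.rec (motive := fun _ => List ℕ) [pr 0 r] (fun k ih => forceL ih fun O => force (L.getD k 0) fun t =>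
    force (2 ^ k) fun m => O ++ O.map fun e => pr (Nat.add m (lo e)) (lk t (hi e))) k

/-- The tables of the letters of `b`. -/
def sel (L : List ℕ) (b : ℕ) : List ℕ := L.filter fun t => !Nat.beq (Nat.land b (Nat.land t 65535)) 0

def apl (ts : List ℕ) : ℕ → ℕ :=
  List.rec (motive := fun _ => ℕ → ℕ) (fun d => d) (fun t _ ih d => ih (lk t d)) ts

theorem apl_sel (L : List ℕ) (b d : ℕ) : apl (sel L b) d = mul L b d := by
  rw [mul, force_eq, force_eq]
  induction L generalizing d with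
  | nil => rfl
  | cons t L ih =>
    change _ = Bool.rec (motive := fun _ => ℕ) (mulA b L (lk t d)) (mulA b L d) _
    rw [sel, List.filter_cons]
    cases Nat.beq (Nat.land b (Nat.land t 65535)) 0
    exacts [ih _, ih _]

/-- The list of the codes that commute with `r`. -/
def czl (L : List ℕ) (n r : ℕ) : List ℕ := force r fun r => forceL (sel L r) fun ts =>
  ((row L r n).filter fun e => Nat.beq (apl ts (lo e)) (hi e)).map lo

/-- The mask of the centralizer of `r`. -/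
def cz (L : List ℕ) (n r : ℕ) : ℕ := msk (czl L n r)

/-- A class: representative, mask of the class, centralizer. -/
abbrev Cl := ℕ × ℕ × List ℕ

def fC {β : Type} (e : Cl) (k : Cl → β) : β :=
  Prod.rec (motive := fun _ => β) (fun a b => Prod.rec (motive := fun _ => β)
    (fun b c => force a fun a => force b fun b => forceL c fun c => k (a, b, c)) b) e

@[simp] theorem fC_eq {β : Type} (e : Cl) (k : Cl → β) : fC e k = k e := by
  obtain ⟨a, b, c⟩ := e; simp [fC]

def fCs {β : Type} (l : List Cl) : (List Cl → β) → β :=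
  List.rec (motive := fun _ => (List Cl → β) → β) (fun f => f [])
    (fun t _ ih f => fC t fun t => ih fun L => f (t :: L)) l

@[simp] theorem fCs_eq {β : Type} (l : List Cl) (f : List Cl → β) : fCs l f = f l := by
  induction l generalizing f with
  | nil => rfl
  | cons t L ih => exact (fC_eq t fun t => fCs L fun L => f (t :: L)).trans (ih _)

def invo (L : List ℕ) (c : ℕ) : Bool := !Nat.beq c 0 && Nat.beq (mul L c c) 0

/-- The classes of the codes `I`; `K` is the union of the classes found so far. -/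
def clA (L : List ℕ) (n : ℕ) (I : List ℕ) : ℕ → List Cl :=
  List.rec (motive := fun _ => ℕ → List Cl) (fun _ => []) (fun c _ ih K => bif tb K c then ih K else
    force (cls L n [c]) fun m => force (Nat.lor K m) fun K => (c, m, czl L n c) :: ih K) I

/-- Compute the classes of involutions and run a test. -/
def withC (L : List ℕ) (n : ℕ) (k : List Cl → Bool) : Bool := fCs (clA L n (flt n (invo L)) 0) k

/-- The class of the involution `c`. -/
def clo1 (C : List Cl) (c : ℕ) : ℕ := ((C.find? fun e => tb e.2.1 c).map fun e => e.2.1).getD 0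

/-- The union of the classes of the involutions `R`. -/
def seed (C : List Cl) (R : List ℕ) : ℕ := R.foldr (fun c K => Nat.lor (force c (clo1 C)) K) 0

/-- The pairs of involutions that are fused by the moves `ms`. -/
def prs (C : List Cl) (n : ℕ) (ms : List Mv) : List ℕ := force (C.foldr (fun e K => Nat.lor e.2.1 K) 0) fun I =>
  ms.flatMap fun e => fM e fun e => force (Nat.land I e.1) fun K => (flt n (tb K)).map fun c => pr c (lk e.2 c)

/-- The closure of the mask `K` under the pairs `P`. -/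
def fz (C : List Cl) (P : List ℕ) (K k : ℕ) : ℕ :=
  Nat.rec (motive := fun _ => ℕ) K (fun _ ih => P.foldl (fun K e => force K fun K =>
    bif tb K (lo e) then (bif tb K (hi e) then K else Nat.lor K (clo1 C (hi e)))
    else (bif tb K (hi e) then Nat.lor K (clo1 C (lo e)) else K)) ih) k

/-- Conditions on an element (letter `0`) and base points (letters `1, 2, …`): two words are equal,
two words are different, a word has (`true`) or has not the label `i`, the centralizer of the element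
in the counted set has at least `k` elements. -/
inductive At
  | eq (w w' : List ℕ)
  | ne (w w' : List ℕ)
  | la (i : ℕ) (p : Bool) (w : List ℕ)
  | cs (k : ℕ)

def ev (L vs : List ℕ) : List ℕ → ℕ
  | [] => 0
  | [i] => vs.getD i 0
  | i :: w => mul L (vs.getD i 0) (ev L vs w)

/-- `s = true`: the condition certainly holds; `s = false`: it may hold. -/
def At.ok (L : List ℕ) (lb : List Mv) (s : Bool) (l : List ℕ) (bs : List ℕ) (c : ℕ) : At → Bool
  | .eq w w' => Nat.beq (ev L (c :: bs) w) (ev L (c :: bs) w')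
  | .ne w w' => !Nat.beq (ev L (c :: bs) w) (ev L (c :: bs) w')
  | .la i p w => (tb (bif p == s then (lb.getD i (0, 0)).1 else (lb.getD i (0, 0)).2)
      (ev L (c :: bs) w)) == s
  | .cs k => Nat.ble k (l.filter fun e => cm L e c).length

def cn (L : List ℕ) (lb : List Mv) (s : Bool) (l bs : List ℕ) (τ : List At) : ℕ :=
  (l.filter fun c => τ.all (At.ok L lb s l bs c)).length

/-- No conjugation maps `l` into `l'` and `bs` to `rs`. -/
def kill (L : List ℕ) (lb : List Mv) (l bs l' rs : List ℕ) (τ : List At) : Bool :=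
  Nat.blt (cn L lb false l' rs τ) (cn L lb true l bs τ)

/-- A conjugation that maps the set `μ` into the group and `bs` to the central codes `rs` maps the
involution `y` into a class that is `good`.  Tests with the flag `true` count in the centralizers. -/
def xtr (L : List ℕ) (n : ℕ) (lb : List Mv) (C : List Cl) (μ y : ℕ) (bs rs : List ℕ)
    (ts : List (Bool × List At)) (good : ℕ → Bool) : Bool :=
  force μ fun μ => force y fun y => forceL bs fun bs => forceL rs fun rs =>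
  decide (y < 2 ^ n) && invo L y && tb μ y && (bs.all fun b => decide (b < 2 ^ n)) &&
  (rs.all fun z => decide (z < 2 ^ n) && (lts n).all (cm L z)) &&
  forceL ((czl L n y).filter (tb μ)) fun l => forceL (flt n (tb μ)) fun l₀ =>
    forceL (ts.map fun τ => cn L lb true (bif τ.1 then l else l₀) (y :: bs) τ.2) fun s =>
      C.all fun e => good e.1 || (ts.zip s).any fun τ => Nat.blt (cn L lb false
        (bif τ.1.1 then e.2.2 else List.range (2 ^ n)) (e.1 :: rs) τ.1.2) τ.2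

/-- The Sylow test at `y`. -/
def sylOK (L : List ℕ) (n : ℕ) (lb : List Mv) (C : List Cl) (y : ℕ) (ts : List (Bool × List At)) : Bool :=
  force y fun y => force (clo1 C y) fun K => xtr L n lb C (ful n) y [] [] ts (tb K)

/-- `K` and the classes that are not fused with the extremal involution `y`; the classes in `K'` are
not tested. -/
def ncj (L : List ℕ) (n : ℕ) (lb : List Mv) (C : List Cl) (y K K' : ℕ) (ts : List (List At)) : ℕ :=
  force y fun y => force K fun K => force (Nat.lor K K') fun K' => forceL (czl L n y) fun l =>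
    forceL (ts.map (cn L lb false l [y])) fun s => C.foldr (fun e m => bif !tb K' e.1 &&
      (ts.zip s).any (fun τ => Nat.blt τ.2 (cn L lb true e.2.2 [e.1] τ.1)) then Nat.lor e.2.1 m else m) K

/-- `xtr` for the elements of `μ` that centralize `y`. -/
def xtc (L : List ℕ) (n : ℕ) (lb : List Mv) (C : List Cl) (μ y : ℕ) (ts : List (List At))
    (good : ℕ → Bool) : Bool :=
  force y fun y => xtr L n lb C (Nat.land μ (cz L n y)) y [] [] (ts.map fun τ => (true, τ)) good

/-- `y` is not conjugate to the central code `z`: `w ∈ C(y)` has no image (letters: `1 = w`, `2 = y`). -/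
def swp' (L : List ℕ) (n : ℕ) (lb : List Mv) (C : List Cl) (y z w : ℕ) (ts : List (Bool × List At)) : Bool :=
  force y fun y => xtr L n lb C (cz L n y) w [y] [z] ts fun _ => false

/-- The representatives whose centralizers have at most `k` elements. -/
def sml (C : List Cl) (k : ℕ) : ℕ := msk ((C.filter fun e => Nat.ble e.2.2.length k).map fun e => e.1)

/-- `y` is extremal. -/
def extOK (L : List ℕ) (n : ℕ) (lb : List Mv) (C : List Cl) (y : ℕ) (ts : List (List At)) : Bool :=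
  force y fun y => force (sml C (czl L n y).length) fun K => xtc L n lb C (ful n) y ts (tb K)

/-- The parity of the number of common bits `< k`. -/
def ps (b c : ℕ) : ℕ → Bool
  | 0 => false
  | k + 1 => (tb b k && tb c k) ^^ ps b c k

/-- The homomorphisms to `Z₂`. -/
def lams (L : List ℕ) : ℕ → List ℕ
  | 0 => [0]
  | k + 1 => forceL (lams L k) fun l => force (2 ^ k) fun m =>
      forceL ((List.range (k + 1)).map fun r => mul L (2 ^ r) m) fun p =>
      (l.flatMap fun b => [b, m + b]).filter fun b => force b fun b => (List.range (k + 1)).all fun r =>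
        !decide (p.getD r 0 < 2 ^ (k + 1)) || ps b (p.getD r 0) (k + 1) == (tb b r ^^ tb b k)

/-- Run the test for all candidates `K` (the mask of the complement of `X`). -/
def lam (L : List ℕ) (n : ℕ) (P out : List ℕ) (test : ℕ → Bool) : Bool :=
  (lams L n).all fun b => force b fun b => !((out.all fun c => ps b c n) &&
    P.all fun e => ps b (lo e) n == ps b (hi e) n) || force (msk (flt n (ps b · n))) test

/-- The label `· ∈ X`. -/
def labX (n K : ℕ) : Mv := (Nat.xor (ful n) K, K)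

variable {G : Type u} [Group G] {T : Tb} {L : List ℕ} {x : ℕ → G} {g h t : G} {e f : Mv}
  {n k b c d y K K' μ : ℕ} {Q Q' R X : Subgroup G} {p : G → Prop} {C : List Cl} {P : List ℕ}
  {Ps : List (G → Prop)} {lb : List Mv}

/-- `p` is invariant under conjugation. -/
def Iv (p : G → Prop) : Prop := ∀ a b, IsConj a b → p a → p b

/-- The codes in `K` have the property `p`. -/
def Sat (x : ℕ → G) (n : ℕ) (p : G → Prop) (K : ℕ) : Prop := ∀ c < 2 ^ n, tb K c = true → p (E x n c)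

/-- Labels: an invariant property, codes that have it, codes that do not have it. -/
def Lab (x : ℕ → G) (n : ℕ) (Ps : List (G → Prop)) (lb : List Mv) : Prop :=
  List.Forall₂ (fun p e => Iv p ∧ Sat x n p e.1 ∧ Sat x n (¬ p ·) e.2) Ps lb

structure Rc (x : ℕ → G) (n : ℕ) (C : List Cl) : Prop where
  cov : ∀ c < 2 ^ n, E x n c * E x n c = 1 → E x n c ≠ 1 → ∃ e ∈ C, tb e.2.1 c = true
  lt : ∀ e ∈ C, e.1 < 2 ^ n
  cls : ∀ e ∈ C, ∀ c, tb e.2.1 c = true → ∃ h ∈ H x n, E x n c = h * E x n e.1 * h⁻¹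
  nd : ∀ e ∈ C, e.2.2.Nodup
  cen : ∀ e ∈ C, ∀ c, c ∈ e.2.2 ↔ c < 2 ^ n ∧ E x n c ∈ cen1 (E x n e.1)

def Prs (x : ℕ → G) (n : ℕ) (P : List ℕ) : Prop :=
  ∀ e ∈ P, lo e < 2 ^ n ∧ hi e < 2 ^ n ∧ IsConj (E x n (lo e)) (E x n (hi e))

def Mvs (x : ℕ → G) (n : ℕ) (ms : List Mv) : Prop := ∀ e ∈ ms, ∃ g, Ap x n g e

theorem Mvs.nil : Mvs x n [] := fun _ h => absurd h List.not_mem_nil

theorem Mvs.cons {ms : List Mv} (A : Ap x n g e) (h : Mvs x n ms) : Mvs x n (e :: ms) :=
  fun _ k => (List.mem_cons.1 k).elim (fun k => k ▸ ⟨g, A⟩) (h _)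

theorem Mvs.up {ms : List Mv} (h : Mvs x n ms) (y : G) : Mvs (ext x n y) (n + 1) ms :=
  fun e k => (h e k).imp fun _ A => A.up y

theorem iv_conj (t : G) : Iv (IsConj t) := fun _ _ h k => k.trans h

theorem Iv.not (h : Iv p) : Iv (¬ p ·) := fun _ _ k h1 h2 => h1 (h _ _ k.symm h2)

theorem iv_mem [Finite G] (hX : AS X t) : Iv (· ∈ X) := fun _ _ h => (as_conj hX h).1

theorem Lab.nil : Lab x n [] [] := List.Forall₂.nil

theorem Lab.cons (h : Iv p) (h1 : Sat x n p K) (h2 : Sat x n (¬ p ·) K') (l : Lab x n Ps lb) :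
    Lab x n (p :: Ps) ((K, K') :: lb) := List.Forall₂.cons ⟨h, h1, h2⟩ l

theorem tb_lor : tb (Nat.lor K K') c = (tb K c || tb K' c) := by
  rw [tb_eq, tb_eq, tb_eq]; exact Nat.testBit_or _ _ _

theorem tb_zero : tb 0 c = false := by rw [tb_eq, Nat.zero_testBit]

theorem Sat.zero : Sat x n p 0 := fun _ _ h => by rw [tb_zero] at h; exact Bool.noConfusion h

theorem Sat.lor (h : Sat x n p K) (h' : Sat x n p K') : Sat x n p (Nat.lor K K') := fun c hc k => by
  rw [tb_lor, Bool.or_eq_true] at k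
  exact k.elim (h c hc) (h' c hc)

theorem Sat.mono {q : G → Prop} (h : Sat x n p K) (k : ∀ a, p a → q a) : Sat x n q K :=
  fun c hc e => k _ (h c hc e)

theorem isConj_of (h a : G) : IsConj a (h * a * h⁻¹) := isConj_iff.2 ⟨h, rfl⟩

theorem Rc.clo1 (r : Rc x n C) (h : tb (clo1 C c) d = true) :
    ∃ k ∈ H x n, E x n d = k * E x n c * k⁻¹ := by
  rw [En.clo1] at h
  cases e : C.find? fun e => tb e.2.1 c <;> rw [e] at h
  · exact absurd (tb_zero.symm.trans h) Bool.noConfusion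
  obtain ⟨k, k1, k2⟩ := r.cls _ (List.mem_of_find?_eq_some e) c (List.find?_some (p := fun e : Cl => tb e.2.1 c) e)
  obtain ⟨j, j1, j2⟩ := r.cls _ (List.mem_of_find?_eq_some e) d h
  exact ⟨j * k⁻¹, mul_mem j1 (inv_mem k1), by rw [k2, j2]; group⟩

theorem Rc.sat1 (r : Rc x n C) (hp : Iv p) (h : p (E x n c)) : Sat x n p (En.clo1 C c) := fun d _ k => by
  obtain ⟨k, -, e⟩ := r.clo1 k
  exact hp _ _ (e ▸ isConj_of _ _) h

theorem Rc.seed (r : Rc x n C) (hp : Iv p) {R : List ℕ} (h : ∀ c ∈ R, p (E x n c)) :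
    Sat x n p (seed C R) := by
  induction R with
  | nil => exact .zero
  | cons c R ih =>
    refine Sat.lor ?_ (ih fun d hd => h d (List.mem_cons_of_mem _ hd))
    rw [force_eq]; exact r.sat1 hp (h c List.mem_cons_self)

theorem Rc.fz (r : Rc x n C) (hp : Iv p) (hP : Prs x n P) (h : Sat x n p K) (k : ℕ) :
    Sat x n p (fz C P K k) := by
  induction k with
  | zero => exact h
  | succ k ih =>
    refine List.foldlRecOn (motive := Sat x n p) P _ ih fun K ih e he => ?_
    obtain ⟨h1, h2, h3⟩ := hP e he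
    rw [force_eq]
    cases e1 : tb K (lo e) <;> cases e2 : tb K (hi e)
    exacts [ih, ih.lor (r.sat1 hp (hp _ _ h3.symm (ih _ h2 e2))),
      ih.lor (r.sat1 hp (hp _ _ h3 (ih _ h1 e1))), ih]

theorem ps_lo {j : ℕ} (h : ∀ i < k, b.testBit i = j.testBit i) : ps b c k = ps j c k := by
  induction k with
  | zero => rfl
  | succ k ih => rw [ps, ps, tb_eq, tb_eq j, h k k.lt_succ_self, ih fun i hi => h i (by omega)]

theorem ps_mem [Finite G] (hX : AS X t) (tt : t * t = 1) (h : ∀ i < k, x i ∈ X ↔ tb b i = false) :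
    E x k c ∈ X ↔ ps b c k = false := by
  induction k with
  | zero => simp [E, ps]
  | succ k ih =>
    have := ih fun i hi => h i (by omega)
    rw [E, ps, tb_eq c]
    cases c.testBit k
    · simpa using this
    · rw [if_pos rfl, as_mul hX tt, this, h k k.lt_succ_self]
      cases tb b k <;> cases ps b c k <;> simp

namespace Md

variable (M : Md T L x)
include M

theorem row_spec {r : ℕ} (hr : r < 2 ^ T.n) (hk : k ≤ T.n) : (row L r k).map lo = List.range (2 ^ k) ∧
    ∀ e ∈ row L r k, hi e < 2 ^ T.n ∧ E x T.n (hi e) = E x T.n (lo e) * E x T.n r := by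
  induction k with
  | zero =>
    have := lo_pr (c := 0) (by decide) r
    refine ⟨congrArg (fun a => [a]) this.1, fun e he => ?_⟩
    rw [List.mem_singleton.1 he, this.1, this.2, E_zero, one_mul]
    exact ⟨hr, rfl⟩
  | succ k ih =>
    obtain ⟨h1, h2⟩ := ih (by omega)
    have e : row L r (k + 1) = row L r k ++ (row L r k).map fun e =>
        pr (2 ^ k + lo e) (En.lk (L.getD k 0) (hi e)) := by
      refine (forceL_eq (row L r k) fun O => force (L.getD k 0) fun t => force (2 ^ k) fun m =>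
        O ++ O.map fun e => pr (Nat.add m (lo e)) (En.lk t (hi e))).trans ?_
      rw [force_eq, force_eq]; rfl
    have l : ∀ e ∈ row L r k, lo e < 2 ^ k := fun e he => List.mem_range.1 (h1 ▸ List.mem_map_of_mem he)
    have p : ∀ e ∈ row L r k, ∀ d, lo (pr (2 ^ k + lo e) d) = 2 ^ k + lo e ∧ hi (pr (2 ^ k + lo e) d) = d :=
      fun e he => lo_pr (by
        have := l e he
        have := Nat.pow_le_pow_right two_pos (hk.trans M.le16)
        omega)
    rw [e]
    refine ⟨?_, fun e' he => (List.mem_append.1 he).elim (h2 e') fun he' => ?_⟩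
    · rw [List.map_append, h1, List.map_map, pow_succ, mul_two, List.range_add, ← h1, List.map_map]
      exact congrArg _ (List.map_congr_left fun e he => (p e he _).1)
    · clear he
      obtain ⟨e, he, rfl⟩ := List.mem_map.1 he'
      have m := M.lk k hk _ (h2 e he).1
      rw [(p e he _).1, (p e he _).2, m.2, (h2 e he).2, 
        E_mono x (k := k + 1) (c := 2 ^ k + lo e) (by have := l e he; omega) hk,
        E_hi x (l e he), E_mono x (l e he) (show k ≤ T.n by omega), mul_assoc]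
      exact ⟨m.1, rfl⟩

theorem row_lt {r e : ℕ} (hr : r < 2 ^ T.n) (he : e ∈ row L r T.n) : lo e < 2 ^ T.n :=
  List.mem_range.1 ((M.row_spec hr le_rfl).1 ▸ List.mem_map_of_mem he)

theorem czl_spec {r : ℕ} (hr : r < 2 ^ T.n) : (czl L T.n r).Nodup ∧
    ∀ c, c ∈ czl L T.n r ↔ c < 2 ^ T.n ∧ E x T.n c ∈ cen1 (E x T.n r) := by
  obtain ⟨h1, h2⟩ := M.row_spec hr le_rfl
  have k : ∀ e ∈ row L r T.n, Nat.beq (apl (sel L r) (lo e)) (hi e) = true ↔
      E x T.n (lo e) ∈ cen1 (E x T.n r) := fun e he => by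
    rw [apl_sel, M.eq_iff' (M.row_lt hr he) (h2 e he).1, (h2 e he).2, mem_cen1, eq_comm]
  rw [czl, force_eq, forceL_eq]
  refine ⟨(h1 ▸ List.nodup_range : ((row L r T.n).map lo).Nodup).sublist (List.filter_sublist.map _),
    fun c => ⟨fun h => ?_, fun h => ?_⟩⟩
  · obtain ⟨e, he, rfl⟩ := List.mem_map.1 h
    rw [List.mem_filter] at he
    exact ⟨M.row_lt hr he.1, (k e he.1).1 he.2⟩
  · obtain ⟨e, he, rfl⟩ := List.mem_map.1 (h1 ▸ List.mem_range.2 h.1 : c ∈ (row L r T.n).map lo)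
    exact List.mem_map_of_mem (List.mem_filter.2 ⟨he, (k e he).2 h.2⟩)

theorem sgz {r : ℕ} (hr : r < 2 ^ T.n) : Sg x T.n (cz L T.n r) (H x T.n ⊓ cen1 (E x T.n r)) :=
  ⟨inf_le_left, fun c hc => by simp [cz, tb_msk, (M.czl_spec hr).2, hc, E_mem]⟩

theorem invo_iff (hc : c < 2 ^ T.n) : invo L c = true ↔ E x T.n c * E x T.n c = 1 ∧ E x T.n c ≠ 1 := by
  rw [invo, Bool.and_eq_true, M.sq_iff hc, and_comm, ← E_zero x T.n, ne_eq, M.inj hc (by positivity),
    Bool.not_eq_true', ← Bool.not_eq_true, Nat.beq_eq]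

theorem prs {ms : List Mv} (h : Mvs x T.n ms) (C : List Cl) : Prs x T.n (prs C T.n ms) := fun e he => by
  simp only [En.prs, force_eq, fM_eq, List.mem_flatMap, List.mem_map, mem_flt, tb_land,
    Bool.and_eq_true] at he
  obtain ⟨m, hm, c, ⟨-, -, hc⟩, rfl⟩ := he
  obtain ⟨g, A⟩ := h m hm
  obtain ⟨h1, h2, h3⟩ := A c hc
  have := lo_pr (h1.trans_le (Nat.pow_le_pow_right two_pos M.le16)) (En.lk m.2 c)
  rw [this.1, this.2, h3]
  exact ⟨h1, h2, isConj_of _ _⟩

theorem ev_spec {vs : List ℕ} (h : ∀ v ∈ vs, v < 2 ^ T.n) (w : List ℕ) :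
    ev L vs w < 2 ^ T.n ∧ E x T.n (ev L vs w) = W (fun i => E x T.n (vs.getD i 0)) w := by
  have l : ∀ i, vs.getD i 0 < 2 ^ T.n := fun i => by
    by_cases e : i < vs.length
    · rw [List.getD_eq_getElem _ _ e]; exact h _ (List.getElem_mem e)
    · rw [List.getD_eq_default _ _ (by omega)]; positivity
  induction w with
  | nil => exact ⟨Nat.two_pow_pos _, E_zero _ _⟩
  | cons i w ih =>
    cases w with
    | nil => exact ⟨l i, by simp [ev]⟩
    | cons j w => exact ⟨M.mul_lt _ ih.1, by rw [W_cons, ← ih.2]; exact M.E_mul _ ih.1⟩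

variable [Finite G]

theorem withC {k : List Cl → Bool} (h : withC L T.n k = true) : ∃ C, Rc x T.n C ∧ k C = true := by
  rw [En.withC, fCs_eq] at h
  have e : ∀ c I K, clA L T.n (c :: I) K = bif tb K c then clA L T.n I K else
      (c, En.cls L T.n [c], czl L T.n c) :: clA L T.n I (Nat.lor K (En.cls L T.n [c])) := fun c I K => by
    change (bif tb K c then _ else force _ _) = _
    rw [force_eq, force_eq]; rfl
  have h1 : ∀ I K, ∀ e ∈ clA L T.n I K, e.1 ∈ I ∧ e.2 = (En.cls L T.n [e.1], czl L T.n e.1) := fun I => by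
    induction I with
    | nil => exact fun _ _ h => absurd h List.not_mem_nil
    | cons c I ih =>
      intro K d hd
      rw [e] at hd
      cases k : tb K c <;> rw [k] at hd
      · rcases List.mem_cons.1 hd with rfl | hd
        exacts [⟨List.mem_cons_self, rfl⟩, (ih _ d hd).imp_left (List.mem_cons_of_mem _)]
      · exact (ih _ d hd).imp_left (List.mem_cons_of_mem _)
  have h2 : ∀ I K, ∀ c ∈ I, tb K c = true ∨ ∃ e ∈ clA L T.n I K, tb e.2.1 c = true := fun I => by
    induction I with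
    | nil => exact fun _ _ h => absurd h List.not_mem_nil
    | cons c I ih =>
      intro K d hd
      rw [e]
      cases k : tb K c
      · rcases List.mem_cons.1 hd with rfl | hd
        · refine Or.inr ⟨_, List.mem_cons_self, tb_msk.2 (List.mem_flatMap.2 ⟨d, List.mem_cons_self, ?_⟩)⟩
          rw [force_eq]
          refine List.foldlRecOn (motive := fun O => d ∈ O) _ _ List.mem_cons_self fun O ih g _ => ?_
          rw [forceL_eq, force_eq]
          cases Nat.beq (En.mul L g (En.inv L g)) 0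
          · exact ih
          cases mem (En.mul L g (En.mul L d (En.inv L g))) O
          exacts [List.mem_append_left _ ih, ih]
        rcases ih (Nat.lor K (En.cls L T.n [c])) d hd with j | ⟨f, j1, j2⟩
        · rw [tb_lor, Bool.or_eq_true] at j
          exact j.imp_right fun j => ⟨_, List.mem_cons_self, j⟩
        · exact Or.inr ⟨f, List.mem_cons_of_mem _ j1, j2⟩
      · rcases List.mem_cons.1 hd with rfl | hd
        exacts [Or.inl k, ih K d hd]
  have l : ∀ e ∈ clA L T.n (flt T.n (invo L)) 0, e.1 < 2 ^ T.n := fun e he => (mem_flt.1 (h1 _ _ e he).1).1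
  refine ⟨_, ⟨fun c hc c1 c2 => (h2 _ 0 c (mem_flt.2 ⟨hc, (M.invo_iff hc).2 ⟨c1, c2⟩⟩)).resolve_left
    (by simp [tb_zero]), l, fun e he c hc => ?_, fun e he => ?_, fun e he => ?_⟩, h⟩ <;>
    rw [(h1 _ _ e he).2] at *
  · obtain ⟨r, r1, r2⟩ := M.cls le_rfl (by simpa using l e he) hc
    rwa [List.mem_singleton.1 r1] at r2
  exacts [(M.czl_spec (l e he)).1, (M.czl_spec (l e he)).2]

theorem len_le {l l' : List ℕ} (nd : l.Nodup) (h : ∀ c ∈ l, ∃ d ∈ l', c < 2 ^ T.n ∧
    E x T.n d = g * E x T.n c * g⁻¹) : l.length ≤ l'.length := by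
  classical
  choose! φ h1 h2 h3 using h
  rw [← List.toFinset_card_of_nodup nd]
  refine (Finset.card_le_card_of_injOn φ (fun c hc => ?_) fun c hc d hd e => ?_).trans
    (List.toFinset_card_le l')
  · exact List.mem_toFinset.2 (h1 c (List.mem_toFinset.1 hc))
  · have hc := List.mem_toFinset.1 hc
    have hd := List.mem_toFinset.1 hd
    exact E_inj M.I (h2 c hc) (h2 d hd) (mul_left_cancel (mul_right_cancel ((h3 c hc).symm.trans (e ▸ h3 d hd))))

/-- Counting along a conjugation. -/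
theorem cn_le (B : Lab x T.n Ps lb) {l l' bs rs : List ℕ} (nd : l.Nodup)
    (h : ∀ c ∈ l, ∃ d ∈ l', c < 2 ^ T.n ∧ d < 2 ^ T.n ∧ E x T.n d = g * E x T.n c * g⁻¹)
    (hb : List.Forall₂ (fun b r => b < 2 ^ T.n ∧ r < 2 ^ T.n ∧ E x T.n r = g * E x T.n b * g⁻¹) bs rs)
    (τ : List At) : cn L lb true l bs τ ≤ cn L lb false l' rs τ := by
  refine M.len_le (g := g) (nd.filter _) fun c hc => ?_
  rw [List.mem_filter, List.all_eq_true] at hc
  obtain ⟨d, d1, d2, d3, d4⟩ := h c hc.1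
  refine ⟨d, List.mem_filter.2 ⟨d1, List.all_eq_true.2 fun a ha => ?_⟩, d2, d4⟩
  have F := List.Forall₂.cons ⟨d2, d3, d4⟩ hb
  have v1 := M.ev_spec (vs := c :: bs) fun v hv => by
    obtain ⟨i, hi, rfl⟩ := List.getElem_of_mem hv
    exact (F.get hi (F.length_eq ▸ hi)).1
  have v2 := M.ev_spec (vs := d :: rs) fun v hv => by
    obtain ⟨i, hi, rfl⟩ := List.getElem_of_mem hv
    exact (F.get (F.length_eq ▸ hi) hi).2.1
  have v : ∀ w, E x T.n (ev L (d :: rs) w) = g * E x T.n (ev L (c :: bs) w) * g⁻¹ := fun w => by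
    rw [(v1 w).2, (v2 w).2]
    induction w with
    | nil => simp
    | cons i w ih =>
      rw [W_cons, W_cons, ih, ← conj_mul]
      congr 1
      by_cases e : i < (c :: bs).length
      · rw [List.getD_eq_getElem _ _ e, List.getD_eq_getElem _ _ (F.length_eq ▸ e)]
        exact (F.get e (F.length_eq ▸ e)).2.2
      · rw [List.getD_eq_default _ _ (not_lt.1 e), List.getD_eq_default _ _ (F.length_eq ▸ not_lt.1 e)]
        simp
  have q : ∀ w w', Nat.beq (ev L (d :: rs) w) (ev L (d :: rs) w') =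
      Nat.beq (ev L (c :: bs) w) (ev L (c :: bs) w') := fun w w' => by
    rw [Bool.eq_iff_iff, Nat.beq_eq, Nat.beq_eq, ← M.inj (v1 w).1 (v1 w').1, ← M.inj (v2 w).1 (v2 w').1,
      v, v]
    simp
  have := hc.2 a ha
  cases a with
  | eq w w' => rwa [At.ok, q]
  | ne w w' => rwa [At.ok, q]
  | la i p w =>
    have o : ∃ P : G → Prop, Iv P ∧ Sat x T.n P (lb.getD i (0, 0)).1 ∧
        Sat x T.n (¬ P ·) (lb.getD i (0, 0)).2 := by
      by_cases e : i < lb.length
      · rw [List.getD_eq_getElem _ _ e]; exact ⟨_, B.get (B.length_eq ▸ e) e⟩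
      · rw [List.getD_eq_default _ _ (not_lt.1 e)]; exact ⟨fun _ => True, fun _ _ _ => id, .zero, .zero⟩
    obtain ⟨P, o1, o2, o3⟩ := o
    have j : IsConj (E x T.n (ev L (c :: bs) w)) (E x T.n (ev L (d :: rs) w)) := v w ▸ isConj_of _ _
    cases p <;> simp only [At.ok, beq_iff_eq, beq_true, beq_false, cond_true, cond_false, Bool.not_true,
      Bool.not_false, Bool.not_eq_true'] at this ⊢ <;> refine Bool.eq_false_iff.2 fun k => ?_
    · exact o3 _ (v1 w).1 this (o1 _ _ j.symm (o2 _ (v2 w).1 k))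
    · exact o3 _ (v2 w).1 k (o1 _ _ j (o2 _ (v1 w).1 this))
  | cs k =>
    rw [At.ok, Nat.ble_eq] at this ⊢
    refine this.trans (M.len_le (g := g) (nd.filter _) fun a ha => ?_)
    rw [List.mem_filter] at ha
    obtain ⟨b, b1, b2, b3, b4⟩ := h a ha.1
    refine ⟨b, List.mem_filter.2 ⟨b1, (cm_iff M b3 d3).2 ?_⟩, b2, b4⟩
    rw [b4, d4, conj_mul, conj_mul, (cm_iff M b2 d2).1 ha.2]

theorem xtr_spec (B : Lab x T.n Ps lb) (r : Rc x T.n C) {bs rs : List ℕ} {ts : List (Bool × List At)}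
    {good : ℕ → Bool} (h : xtr L T.n lb C μ y bs rs ts good = true) (hμ : Sat x T.n (· ∈ R) μ)
    (hg : H98.cj g R ≤ H x T.n) (hb : List.Forall₂ (fun b r => g * E x T.n b * g⁻¹ = E x T.n r) bs rs) :
    ∃ c < 2 ^ T.n, good c = true ∧ ∃ k ∈ H x T.n, g * E x T.n y * g⁻¹ = k * E x T.n c * k⁻¹ := by
  simp only [xtr, force_eq, forceL_eq, Bool.and_eq_true, decide_eq_true_eq, List.all_eq_true,
    Bool.or_eq_true, List.any_eq_true, Nat.blt_eq] at h
  obtain ⟨⟨⟨⟨⟨h1, h2⟩, h3⟩, h4⟩, h5⟩, h⟩ := h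
  obtain ⟨c, c1, c2⟩ := M.surj (hg (conj_mem_cj (hμ y h1 h3)))
  rw [M.invo_iff h1] at h2
  obtain ⟨e, e1, e2⟩ := r.cov c c1 (by rw [← c2, conj_mul, h2.1]; simp) (by
    rw [← c2, ne_eq, conj_eq_one_iff]; exact h2.2)
  obtain ⟨k, k1, k2⟩ := r.cls e e1 c e2
  refine ⟨e.1, r.lt e e1, (h e e1).resolve_right ?_, k, k1, c2.trans k2⟩
  rintro ⟨τ, t1, t2⟩
  rw [← List.map_prod_left_eq_zip] at t1
  obtain ⟨τ, -, rfl⟩ := List.mem_map.1 t1
  have y1 : E x T.n e.1 = k⁻¹ * g * E x T.n y * (k⁻¹ * g)⁻¹ := by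
    rw [mul_inv_rev, mul_assoc k⁻¹, ← mul_assoc, mul_assoc k⁻¹, c2, k2]; group
  have s : ∀ a < 2 ^ T.n, tb μ a = true → ∃ d < 2 ^ T.n,
      E x T.n d = k⁻¹ * g * E x T.n a * (k⁻¹ * g)⁻¹ := fun a a1 a2 => by
    obtain ⟨d, d1, d2⟩ := M.surj (mul_mem (mul_mem (inv_mem k1) (hg (conj_mem_cj (hμ a a1 a2)))) k1)
    exact ⟨d, d1, by rw [← d2]; group⟩
  refine absurd t2 (not_lt.2 (M.cn_le (g := k⁻¹ * g) B ?_ (fun a ha => ?_) (.cons ⟨h1, r.lt e e1, y1⟩ ?_) _))
  · cases τ.1
    exacts [nodup_flt, (M.czl_spec h1).1.filter _]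
  · cases j : τ.1 <;> simp only [j, cond_true, cond_false, mem_flt, List.mem_filter,
      (M.czl_spec h1).2, List.mem_range, r.cen e e1] at ha ⊢
    · obtain ⟨d, d1, d2⟩ := s a ha.1 ha.2
      exact ⟨d, d1, ha.1, d1, d2⟩
    · obtain ⟨d, d1, d2⟩ := s a ha.1.1 ha.2
      exact ⟨d, ⟨d1, by rw [d2, y1, ← cj_cen1]; exact conj_mem_cj ha.1.2⟩, ha.1.1, d1, d2⟩
  · clear t1 t2 h
    induction hb with
    | nil => exact .nil
    | @cons b z _ _ j _ ih =>
      have z1 := h5 z List.mem_cons_self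
      have : k ∈ cen1 (E x T.n z) := H_le (fun i hi => mem_cen1.2 (by
        have := (cm_iff M z1.1 (Nat.pow_lt_pow_right one_lt_two hi)).1 (z1.2 _ (mem_lts.2 ⟨i, hi, rfl⟩))
        rw [E_pow x hi] at this; exact this.symm)) k1
      exact .cons ⟨h4 b List.mem_cons_self, z1.1, by
        rw [mul_inv_rev, mul_assoc k⁻¹, ← mul_assoc, mul_assoc k⁻¹, j, inv_inv, mul_assoc,
          ← mem_cen1.1 this, inv_mul_cancel_left]⟩
        (ih (fun a ha => h5 a (List.mem_cons_of_mem _ ha)) fun a ha => h4 a (List.mem_cons_of_mem _ ha))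

/-- (SYL) -/
theorem syl (B : Lab x T.n Ps lb) (r : Rc x T.n C) {ts : List (Bool × List At)}
    (hy : IsSyl 2 (H x T.n ⊓ cen1 (E x T.n y)) (cen1 (E x T.n y))) (h : sylOK L T.n lb C y ts = true) :
    IsSyl 2 (H x T.n) ⊤ := syl_of M.two hy fun g hg _ => by
  rw [sylOK, force_eq, force_eq] at h
  obtain ⟨c, -, c1, k, k1, k2⟩ := M.xtr_spec B r h (fun c _ _ => E_mem x _ c) (cj_eq_self hg).le .nil
  obtain ⟨j, j1, j2⟩ := r.clo1 c1
  exact ⟨k * j, mul_mem k1 j1, by rw [k2, j2]; group⟩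

theorem ex_cj {a b : G} (hy : IsSyl 2 (H x T.n ⊓ cen1 b) (cen1 b)) (c : IsConj a b) :
    ∃ g, g * a * g⁻¹ = b ∧ H98.cj g (H x T.n ⊓ cen1 a) ≤ H x T.n ⊓ cen1 b := by
  obtain ⟨g, rfl⟩ := isConj_iff.1 c
  obtain ⟨k, k1, k2⟩ := hy.exists_cj_le (isPGroup_cj g (M.two.to_le (inf_le_left (b := cen1 a))))
    (cj_cen1 g a ▸ cj_mono g inf_le_right)
  exact ⟨k * g, by rw [mul_inv_rev, ← mul_assoc, mul_assoc k, mul_assoc k, mem_cen1.1 k1,
    mul_inv_cancel_right], by rwa [cj_cj] at k2⟩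

/-- Classes that are not fused with an extremal involution. -/
theorem ncj_spec (B : Lab x T.n Ps lb) (r : Rc x T.n C) {ts : List (List At)} (h1 : y < 2 ^ T.n)
    (hy : IsSyl 2 (H x T.n ⊓ cen1 (E x T.n y)) (cen1 (E x T.n y)))
    (hK : Sat x T.n (¬ IsConj (E x T.n y) ·) K) (K' : ℕ) :
    Sat x T.n (¬ IsConj (E x T.n y) ·) (ncj L T.n lb C y K K' ts) := by
  simp only [ncj, force_eq, forceL_eq]
  refine List.foldrRecOn (motive := Sat x T.n _) C _ hK fun m ih e he => ?_
  cases j : !tb (Nat.lor K K') e.1 && (ts.zip (ts.map (cn L lb false (czl L T.n y) [y]))).any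
    fun τ => Nat.blt τ.2 (cn L lb true e.2.2 [e.1] τ.1)
  · exact ih
  refine Sat.lor (fun c _ hc k => ?_) ih
  obtain ⟨a, -, a2⟩ := r.cls e he c hc
  obtain ⟨g, g1, g2⟩ := M.ex_cj hy ((a2 ▸ isConj_of _ _ : IsConj (E x T.n e.1) (E x T.n c)).trans k.symm)
  obtain ⟨τ, t1, t2⟩ := List.any_eq_true.1 (Bool.and_eq_true_iff.1 j).2
  rw [← List.map_prod_left_eq_zip] at t1
  obtain ⟨τ, -, rfl⟩ := List.mem_map.1 t1
  refine absurd (Nat.blt_eq ▸ t2) (not_lt.2 (M.cn_le (g := g) B (r.nd e he) (fun b hb => ?_)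
    (.cons ⟨r.lt e he, h1, g1.symm⟩ .nil) _))
  rw [r.cen e he] at hb
  have := g2 (conj_mem_cj ⟨E_mem x _ b, hb.2⟩)
  obtain ⟨d, d1, d2⟩ := M.surj this.1
  exact ⟨d, ((M.czl_spec h1).2 d).2 ⟨d1, d2 ▸ this.2⟩, hb.1, d1, d2.symm⟩

theorem xtr_y {bs rs : List ℕ} {ts : List (Bool × List At)} {good : ℕ → Bool}
    (h : xtr L T.n lb C μ y bs rs ts good = true) : (y < 2 ^ T.n ∧ E x T.n y * E x T.n y = 1 ∧ tb μ y = true) ∧
      (∀ b ∈ bs, b < 2 ^ T.n) ∧ ∀ z ∈ rs, H x T.n ≤ cen1 (E x T.n z) := by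
  simp only [xtr, force_eq, forceL_eq, Bool.and_eq_true, decide_eq_true_eq, List.all_eq_true] at h
  refine ⟨⟨h.1.1.1.1.1, ((M.invo_iff h.1.1.1.1.1).1 h.1.1.1.1.2).1, h.1.1.1.2⟩, h.1.1.2,
    fun z hz => H_le fun i hi => mem_cen1.2 ?_⟩
  have := (cm_iff M (h.1.2 z hz).1 (Nat.pow_lt_pow_right one_lt_two hi)).1
    ((h.1.2 z hz).2 _ (mem_lts.2 ⟨i, hi, rfl⟩))
  rw [E_pow x hi] at this; exact this.symm

/-- The swap test. -/
theorem swp_spec (B : Lab x T.n Ps lb) (r : Rc x T.n C) (hS : IsSyl 2 (H x T.n) ⊤) {z w : ℕ}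
    {ts : List (Bool × List At)} (h : swp' L T.n lb C y z w ts = true) :
    ¬ IsConj (E x T.n y) (E x T.n z) := fun c => by
  rw [swp', force_eq] at h
  have z1 := (M.xtr_y h).2.2 z List.mem_cons_self
  obtain ⟨g, g1, g2⟩ := M.ex_cj (by rw [inf_eq_left.2 z1]; exact hS.of_le z1 le_top) c
  obtain ⟨_, -, k, -⟩ := M.xtr_spec B r h (fun c hc => ((M.sgz ((M.xtr_y h).2.1 y List.mem_cons_self)).iff c hc).1)
    (g2.trans inf_le_left) (.cons g1 .nil)
  exact Bool.noConfusion k

/-- The extremal conjugates of `y` with respect to `Q ⊓ C(y)`. -/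
theorem xtc_spec (B : Lab x T.n Ps lb) (r : Rc x T.n C) (hQ : Sg x T.n μ Q) {ts : List (List At)}
    {good : ℕ → Bool} (h : xtc L T.n lb C μ y ts good = true) :
    E x T.n y * E x T.n y = 1 ∧ IsPGroup 2 ↥(Q ⊓ cen1 (E x T.n y)) ∧ E x T.n y ∈ Q ⊓ cen1 (E x T.n y) ∧
    ∀ g, H98.cj g (Q ⊓ cen1 (E x T.n y)) ≤ H x T.n →
      ∃ c < 2 ^ T.n, good c = true ∧ ∃ k ∈ H x T.n, g * E x T.n y * g⁻¹ = k * E x T.n c * k⁻¹ := by
  rw [xtc, force_eq] at h
  obtain ⟨⟨h1, h2, h3⟩, -⟩ := M.xtr_y h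
  have s : Sat x T.n (· ∈ Q ⊓ cen1 (E x T.n y)) (Nat.land μ (cz L T.n y)) := fun c hc k =>
    have := ((hQ.inf (M.sgz h1)).iff c hc).1 k
    ⟨this.1, this.2.2⟩
  exact ⟨h2, M.two.to_le (inf_le_left.trans hQ.le), s y h1 h3, fun g hg => M.xtr_spec B r h s hg .nil⟩

theorem mu_cj {U : G → Prop} (hU : Mu (H x T.n) U) {k a : G} (hk : k ∈ H x T.n) (ha : a ∈ H x T.n) :
    U (k * a * k⁻¹) ↔ U a := by
  have := hU _ hk _ (inv_mem hk)
  have o := hU 1 (one_mem _) 1 (one_mem _)
  rw [mul_inv_cancel] at this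
  rw [hU _ (mul_mem hk ha) _ (inv_mem hk), hU _ hk _ ha]
  rw [one_mul] at o
  tauto

/-- (TR) -/
theorem trOut (hX : AS X t) (B : Lab x T.n Ps lb) (r : Rc x T.n C) (hS : IsSyl 2 (H x T.n) ⊤)
    {φ : ℕ → Bool} (hφ : muOK L T.n φ = true) (hQ : Sg x T.n μ Q) {ts : List (List At)}
    (h : xtc L T.n lb C μ y ts φ = true) : E x T.n y ∉ X := by
  obtain ⟨U, u1, u2⟩ := mu M hφ
  obtain ⟨h1, h2, h3, h4⟩ := M.xtc_spec B r hQ h
  refine tr_out hX hS u1 h1 h2 h3 inf_le_right fun g hg => ?_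
  obtain ⟨c, c1, c2, k, k1, k2⟩ := h4 g hg
  rw [k2, M.mu_cj u1 k1 (E_mem _ _ _), u2 c c1, c2]; decide

/-- (TR2) -/
theorem trIn (hX : AS X t) (tt : t * t = 1) (B : Lab x T.n Ps lb) (r : Rc x T.n C)
    (hS : IsSyl 2 (H x T.n) ⊤) {φ : ℕ → Bool} (hφ : muOK L T.n φ = true) (hQ : Sg x T.n μ Q)
    {ts ts' : List (List At)} (h : xtc L T.n lb C μ y ts φ = true) {μ' y' : ℕ} (hQ' : Sg x T.n μ' Q')
    (h' : xtc L T.n lb C μ' y' ts' (!φ ·) = true) : E x T.n y' ∈ X := by
  obtain ⟨U, u1, u2⟩ := mu M hφ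
  obtain ⟨h1, h2, h3, h4⟩ := M.xtc_spec B r hQ h
  obtain ⟨j1, j2, j3, j4⟩ := M.xtc_spec B r hQ' h'
  refine tr_in hX tt hS u1 h1 h2 h3 inf_le_right (fun g hg => ?_) j1 j2 j3 inf_le_right fun g hg => ?_
  · obtain ⟨c, c1, c2, k, k1, k2⟩ := h4 g hg
    rw [k2, M.mu_cj u1 k1 (E_mem _ _ _), u2 c c1, c2]; decide
  · obtain ⟨c, c1, c2, k, k1, k2⟩ := j4 g hg
    rw [k2, M.mu_cj u1 k1 (E_mem _ _ _), u2 c c1]; simpa using c2

theorem lams_spec (hX : AS X t) (tt : t * t = 1) (hk : k ≤ T.n) :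
    ∃ b ∈ lams L k, b < 2 ^ k ∧ ∀ i < k, x i ∈ X ↔ tb b i = false := by
  induction k with
  | zero => exact ⟨0, List.mem_singleton_self 0, one_pos, fun _ h => absurd h (by omega)⟩
  | succ k ih =>
    obtain ⟨b, b1, b2, b3⟩ := ih (by omega)
    obtain ⟨c, c1, c2, c3⟩ : ∃ c ∈ [b, 2 ^ k + b], c < 2 ^ (k + 1) ∧ ∀ i < k + 1, x i ∈ X ↔ tb c i = false := by
      by_cases e : x k ∈ X
      · refine ⟨b, by simp, by omega, fun i hi => (Nat.lt_succ_iff_lt_or_eq.1 hi).elim (b3 i) ?_⟩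
        rintro rfl
        simp [e, tb_eq, Nat.testBit_lt_two_pow b2]
      · refine ⟨2 ^ k + b, by simp, by omega, fun i hi => (Nat.lt_succ_iff_lt_or_eq.1 hi).elim
          (fun l => by rw [b3 i l, tb_eq, tb_eq, Nat.testBit_two_pow_add_gt l]) ?_⟩
        rintro rfl
        simp [e, tb_eq, Nat.testBit_two_pow_add_eq, Nat.testBit_lt_two_pow b2]
    refine ⟨c, ?_, c2, c3⟩
    simp only [lams, forceL_eq, force_eq, List.mem_filter, List.mem_flatMap, List.all_eq_true,
      List.mem_range, Bool.or_eq_true, Bool.not_eq_true', decide_eq_false_iff_not, beq_iff_eq]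
    refine ⟨⟨b, b1, c1⟩, fun r hr => or_iff_not_imp_left.2 fun l => ?_⟩
    rw [show ((List.range (k + 1)).map fun r => En.mul L (2 ^ r) (2 ^ k)).getD r 0 =
      En.mul L (2 ^ r) (2 ^ k) by simp [hr]] at l ⊢
    rw [not_not] at l
    have := ps_mem (c := En.mul L (2 ^ r) (2 ^ k)) hX tt c3
    rw [← E_mono x l hk, M.E_mul _ (Nat.pow_lt_pow_right one_lt_two hk), E_pow x hk, E_pow x (by omega),
      as_mul hX tt, c3 r hr, c3 k k.lt_succ_self] at this
    revert this
    cases tb c r <;> cases tb c k <;> cases ps c _ (k + 1) <;> simp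

/-- The candidates for `X ⊓ S`. -/
theorem lam_spec (hX : AS X t) (tt : t * t = 1) (hP : Prs x T.n P) {out : List ℕ}
    (ho : ∀ c ∈ out, E x T.n c ∉ X) {test : ℕ → Bool} (h : lam L T.n P out test = true) :
    ∃ K, (∀ c < 2 ^ T.n, E x T.n c ∈ X ↔ tb K c = false) ∧ test K = true := by
  obtain ⟨b, b1, -, b3⟩ := M.lams_spec hX tt le_rfl
  have k := fun c => ps_mem (c := c) hX tt b3
  simp only [lam, List.all_eq_true, force_eq, Bool.or_eq_true, Bool.not_eq_true'] at h
  refine ⟨_, fun c hc => ?_, (h b b1).resolve_left ?_⟩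
  · rw [k, ← Bool.not_eq_true, ← Bool.not_eq_true, tb_msk, mem_flt]; simp [hc]
  · simp only [Bool.not_eq_false, Bool.and_eq_true, List.all_eq_true, beq_iff_eq]
    refine ⟨fun c hc => by simpa [k] using ho c hc, fun e he => ?_⟩
    have := as_conj hX (hP e he).2.2
    rw [k, k] at this
    revert this
    cases ps b (lo e) T.n <;> cases ps b (hi e) T.n <;> simp

theorem labX (hX : AS X t) (h : ∀ c < 2 ^ T.n, E x T.n c ∈ X ↔ tb K c = false) (l : Lab x T.n Ps lb) :
    Lab x T.n ((· ∈ X) :: Ps) (labX T.n K :: lb) :=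
  l.cons (iv_mem hX) (fun c hc k => (h c hc).2 (by
    have : tb (Nat.xor (ful T.n) K) c = (tb (ful T.n) c ^^ tb K c) := by
      rw [tb_eq, tb_eq, tb_eq]; exact Nat.testBit_xor _ _ _
    rw [this, tb_ful.2 hc] at k
    simpa using k)) fun c hc k e => by simp [(h c hc).1 e] at k

/-- A self-centralizing `E₈` in `X ⊓ S`. -/
theorem e8 (hX : AS X t) (hS : IsSyl 2 (H x T.n) ⊤) (h : ∀ c < 2 ^ T.n, E x T.n c ∈ X ↔ tb K c = false)
    {a : ℕ} (k : e8OK L T.n (tb K) a b c = true) : SectionalPRankLE 2 4 X :=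
  sr8 M hX hS le_rfl h k fun _ hg _ _ _ => hg.1

theorem card_cz (hy : y < 2 ^ T.n) :
    Nat.card ↥(H x T.n ⊓ cen1 (E x T.n y)) = (czl L T.n y).length := by
  rw [M.sg_card (M.sgz hy)]
  exact le_antisymm (M.len_le (g := 1) nodup_flt fun d hd =>
    ⟨d, tb_msk.1 (mem_flt.1 hd).2, (mem_flt.1 hd).1, by simp⟩) (M.len_le (g := 1) (M.czl_spec hy).1
    fun d hd => ⟨d, mem_flt.2 ⟨(((M.czl_spec hy).2 d).1 hd).1, tb_msk.2 hd⟩,
      (((M.czl_spec hy).2 d).1 hd).1, by simp⟩)

/-- An extremal involution. -/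
theorem ext_spec (B : Lab x T.n Ps lb) (r : Rc x T.n C) (hS : IsSyl 2 (H x T.n) ⊤) {ts : List (List At)}
    (h : extOK L T.n lb C y ts = true) : IsSyl 2 (H x T.n ⊓ cen1 (E x T.n y)) (cen1 (E x T.n y)) := by
  rw [extOK, force_eq, force_eq] at h
  have hy : y < 2 ^ T.n := by rw [xtc, force_eq] at h; exact (M.xtr_y h).1.1
  obtain ⟨-, h2, h3, h4⟩ := M.xtc_spec B r (M.sgH le_rfl) h
  obtain ⟨S, s1, s2⟩ := exists_isSyl_le h2 inf_le_right
  obtain ⟨g, -, g2⟩ := hS.exists_cj_le s1.isPGroup le_top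
  obtain ⟨c, c1, c2, k, k1, k2⟩ := h4 g ((cj_mono g s2).trans g2)
  obtain ⟨e, e1, rfl⟩ := List.mem_map.1 (tb_msk.1 c2)
  rw [List.mem_filter, Nat.ble_eq] at e1
  refine s1.of_card_ge h2 inf_le_right ?_
  have : H98.cj (k⁻¹ * g) S ≤ H x T.n ⊓ cen1 (E x T.n e.1) := le_inf
    (by rw [← cj_cj, ← cj_eq_self (le_normalizer (inv_mem k1))]; exact cj_mono _ g2) (by
      rw [show E x T.n e.1 = k⁻¹ * g * E x T.n y * (k⁻¹ * g)⁻¹ by
        rw [mul_inv_rev, mul_assoc k⁻¹, ← mul_assoc, mul_assoc k⁻¹, k2]; group, ← cj_cen1]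
      exact cj_mono _ s1.le)
  rw [← card_cj (k⁻¹ * g), M.card_cz hy]
  refine (card_le_of_le this).trans ((M.card_cz c1).le.trans (le_trans ?_ e1.2))
  exact M.len_le (g := 1) (M.czl_spec c1).1 fun d hd => ⟨d, (r.cen e e1.1 d).2
    (((M.czl_spec c1).2 d).1 hd), (((M.czl_spec c1).2 d).1 hd).1, by simp⟩

/-- `C_S(y)` is Sylow in `C(y)` if it is as large as a Sylow subgroup of `C(t)`, `y ∼ t`. -/
theorem sylT (h : IsSyl 2 R (cen1 t)) (hy : y < 2 ^ T.n) (c : IsConj t (E x T.n y))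
    (k : Nat.card R ≤ (czl L T.n y).length) :
    IsSyl 2 (H x T.n ⊓ cen1 (E x T.n y)) (cen1 (E x T.n y)) := by
  obtain ⟨g, e⟩ := isConj_iff.1 c
  have := h.cj g
  rw [cj_cen1, e] at this
  exact this.of_card_ge (M.two.to_le inf_le_left) inf_le_right (by rwa [card_cj, M.card_cz hy])

/-- `C_S(y)` is Sylow in `C(y)` for `y ∈ D` if it has the order `64`. -/
theorem sylD {t v s u a σ ρ : G} (h : DZ.Loc t v s u a σ ρ) (hy : y < 2 ^ T.n) (c : IsConj t (E x T.n y))
    (k : (czl L T.n y).length = 64) : IsSyl 2 (H x T.n ⊓ cen1 (E x T.n y)) (cen1 (E x T.n y)) := by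
  obtain ⟨S, s1, s2⟩ := exists_isSyl_le (M.two.to_le (inf_le_left (b := cen1 (E x T.n y)))) inf_le_right
  refine s1.of_card_ge (M.two.to_le inf_le_left) inf_le_right ((h.card_le c s1.isPGroup s1.le).trans ?_)
  rw [M.card_cz hy, k]

end Md

end H85.En
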