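import Cfsg.Agent.H85.FZWA

/-! A fast engine for polycyclic presentations of 2-groups of order at most `2 ^ 16`: elements are
coded by numbers, left multiplication by a letter is a packed table. -/

set_option autoImplicit false
set_option linter.unusedSectionVars false

namespace H85.En

open Subgroup H14 H98 H1.Gold H31.S2 H85.FZ

/-- Strict evaluation. -/
def force {β : Type} (x : ℕ) (f : ℕ → β) : β :=
  Nat.rec (motive := fun _ => β) (f 0) (fun n _ => f (Nat.succ n)) x

@[simp] theorem force_eq {β : Type} (x : ℕ) (f : ℕ → β) : force x f = f x := by cases x <;> rfl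

def forceL {β : Type} (L : List ℕ) : (List ℕ → β) → β :=
  List.rec (motive := fun _ => (List ℕ → β) → β) (fun f => f [])
    (fun t _ ih f => force t fun t => ih fun L => f (t :: L)) L

@[simp] theorem forceL_eq {β : Type} (L : List ℕ) (f : List ℕ → β) : forceL L f = f L := by
  induction L generalizing f with
  | nil => rfl
  | cons t L ih => exact (force_eq t fun t => forceL L fun L => f (t :: L)).trans (ih _)

def lk (t d : ℕ) : ℕ := Nat.land (Nat.shiftRight t (Nat.mul 16 d)) 65535

/-- `p c` for `b * 2 ^ k ≤ c < (b + 1) * 2 ^ k`. -/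
def allA (p : ℕ → Bool) (k : ℕ) : ℕ → Bool :=
  Nat.rec (motive := fun _ => ℕ → Bool) (fun b => force b p)
    (fun _ ih b => force (Nat.add b b) fun b => Bool.rec false (ih (Nat.succ b)) (ih b)) k

/-- `p c` for all `c < 2 ^ k`. -/
def allB (k : ℕ) (p : ℕ → Bool) : Bool := allA p k 0

theorem allA_iff {p : ℕ → Bool} {k b : ℕ} :
    allA p k b = true ↔ ∀ c < 2 ^ k, p (b * 2 ^ k + c) = true := by
  induction k generalizing b with
  | zero => simp [allA]
  | succ k ih =>
    have : allA p (k + 1) b = (allA p k (b + b) && allA p k (b + b + 1)) := by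
      refine (force_eq (b + b) fun b => (Bool.rec false (allA p k (b + 1)) (allA p k b) : Bool)).trans ?_
      cases allA p k (b + b) <;> rfl
    rw [this, Bool.and_eq_true, ih, ih]
    refine ⟨fun h c hc => ?_, fun h => ⟨fun c hc => ?_, fun c hc => ?_⟩⟩
    · by_cases e : c < 2 ^ k
      · convert h.1 c e using 3; ring
      · convert h.2 (c - 2 ^ k) (by omega) using 2
        rw [pow_succ, add_mul, add_mul, one_mul, mul_two, mul_add]; omega
    · convert h c (by omega) using 3; ring
    · convert h (c + 2 ^ k) (by omega) using 2; ring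

theorem allB_iff {p : ℕ → Bool} {k : ℕ} : allB k p = true ↔ ∀ c < 2 ^ k, p c = true := by
  simp [allB, allA_iff]

def fltA (p : ℕ → Bool) (k : ℕ) : ℕ → List ℕ → List ℕ :=
  Nat.rec (motive := fun _ => ℕ → List ℕ → List ℕ)
    (fun b l => force b fun b => Bool.rec l (b :: l) (p b))
    (fun _ ih b l => force (Nat.add b b) fun b => ih b (ih (Nat.succ b) l)) k

/-- The list of all `c < 2 ^ k` with `p c`. -/
def flt (k : ℕ) (p : ℕ → Bool) : List ℕ := fltA p k 0 []

theorem fltA_eq {p : ℕ → Bool} {k b : ℕ} {l : List ℕ} :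
    fltA p k b l = (List.range' (b * 2 ^ k) (2 ^ k)).filter p ++ l := by
  induction k generalizing b l with
  | zero =>
    refine (force_eq b fun b => (Bool.rec l (b :: l) (p b) : List ℕ)).trans ?_
    cases e : p b <;> simp [e]
  | succ k ih =>
    refine (force_eq (b + b) fun b => fltA p k b (fltA p k (b + 1) l)).trans ?_
    rw [ih, ih, ← List.append_assoc, ← List.filter_append, pow_succ, mul_two, ← List.range'_append_1]
    congr 4 <;> ring

theorem flt_eq {p : ℕ → Bool} {k : ℕ} : flt k p = (List.range (2 ^ k)).filter p := by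
  simp [flt, fltA_eq, List.range_eq_range']

theorem mem_flt {p : ℕ → Bool} {k c : ℕ} : c ∈ flt k p ↔ c < 2 ^ k ∧ p c = true := by
  simp [flt_eq]

theorem nodup_flt {p : ℕ → Bool} {k : ℕ} : (flt k p).Nodup := flt_eq ▸ List.nodup_range.filter _

/-- The number of `c < 2 ^ k` with `p c`. -/
def cnt (k : ℕ) (p : ℕ → Bool) : ℕ := (flt k p).length

/-- The word `w` applied to `d`. -/
def apw (L : List ℕ) (w : List ℕ) (d : ℕ) : ℕ :=
  List.rec (motive := fun _ => ℕ) d (fun r _ ih => lk (L.getD r 0) ih) w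

/-- The code of a word. -/
def cw (L : List ℕ) (w : List ℕ) : ℕ := apw L w 0

def mulA (c : ℕ) (L : List ℕ) : ℕ → ℕ :=
  List.rec (motive := fun _ => ℕ → ℕ) (fun d => d) (fun t _ ih d =>
    Bool.rec (ih (lk t d)) (ih d) (Nat.beq (Nat.land c (Nat.land t 65535)) 0)) L

def mul (L : List ℕ) (c d : ℕ) : ℕ := force c fun c => force d (mulA c L)

def homA (L : List ℕ) (c : ℕ) (im : List ℕ) : ℕ → ℕ → ℕ :=
  List.rec (motive := fun _ => ℕ → ℕ → ℕ) (fun _ d => d) (fun t _ ih m d => force m fun m =>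
    Bool.rec (ih (Nat.add m m) (mul L t d)) (ih (Nat.add m m) d) (Nat.beq (Nat.land c m) 0)) im

/-- The image of `c` when the letters are mapped to the codes `im`. -/
def hom (L im : List ℕ) (c : ℕ) : ℕ := force c fun c => homA L c im 1 0

def pack (f : ℕ → ℕ) (k : ℕ) : ℕ → ℕ :=
  Nat.rec (motive := fun _ => ℕ → ℕ) (fun b => force b f) (fun k ih b => force (Nat.add b b) fun b =>
    Nat.add (ih b) (Nat.shiftLeft (ih (Nat.succ b)) (Nat.shiftLeft 16 k))) k

/-- The tables (not verified; see `chk`). -/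
def mkA (T : Tb) (k : ℕ) : List ℕ :=
  Nat.rec (motive := fun _ => List ℕ) [] (fun k ih => forceL ih fun L =>
    ((List.range k).map fun r => forceL (T.cj k r) fun w => Nat.add (L.getD r 0)
      (Nat.shiftLeft (pack (fun c => Nat.add (Nat.pow 2 k) (apw L w c)) k 0) (Nat.shiftLeft 16 k))) ++
    [Nat.add (pack (fun c => Nat.add (Nat.pow 2 k) c) k 0) (forceL (T.sq k) fun w =>
      Nat.shiftLeft (pack (apw L w) k 0) (Nat.shiftLeft 16 k))]) k

def mk (T : Tb) : List ℕ := mkA T T.n

def chk (T : Tb) (L : List ℕ) : Bool :=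
  T.wf && L.length == T.n && (List.range T.n).all fun k => force (2 ^ k) fun m =>
    force (L.getD k 0) (fun t => forceL (T.sq k) fun w => allB k fun c =>
      Bool.rec false (Nat.beq (lk t (Nat.add m c)) (apw L w c)) (Nat.beq (lk t c) (Nat.add m c))) &&
    (List.range k).all fun r => force (L.getD r 0) fun t => forceL (T.cj k r) fun w =>
      allB k fun c => Nat.beq (lk t (Nat.add m c)) (Nat.add m (apw L w c))

/-- Compute the tables of `T`, check them, and run a test. -/
def run (T : Tb) (test : List ℕ → Bool) : Bool :=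
  forceL (mk T) fun L => Bool.rec false (test L) (chk T L)

theorem run_spec {T : Tb} {test : List ℕ → Bool} (h : run T test = true) :
    chk T (mk T) = true ∧ test (mk T) = true := by
  rw [run, forceL_eq] at h
  cases e : chk T (mk T) <;> rw [e] at h
  · exact Bool.noConfusion h
  · exact ⟨rfl, h⟩

variable {G : Type*} [Group G]

/-- The value of a code. -/
def E (x : ℕ → G) : ℕ → ℕ → G
  | 0, _ => 1
  | k + 1, c => if c.testBit k then x k * E x k c else E x k c

theorem E_congr (x : ℕ → G) {k c d : ℕ} (h : ∀ i < k, c.testBit i = d.testBit i) :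
    E x k c = E x k d := by
  induction k with
  | zero => rfl
  | succ k ih => rw [E, E, h k k.lt_succ_self, ih fun i hi => h i (hi.trans k.lt_succ_self)]

theorem E_lo (x : ℕ → G) {k c : ℕ} (h : c < 2 ^ k) : E x (k + 1) c = E x k c := by
  rw [E, Nat.testBit_lt_two_pow h]; rfl

theorem E_hi (x : ℕ → G) {k c : ℕ} (h : c < 2 ^ k) : E x (k + 1) (2 ^ k + c) = x k * E x k c := by
  rw [E, Nat.testBit_two_pow_add_eq, Nat.testBit_lt_two_pow h,
    E_congr x fun i hi => Nat.testBit_two_pow_add_gt hi c]; rfl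

theorem E_mono (x : ℕ → G) {k n c : ℕ} (h : c < 2 ^ k) (e : k ≤ n) : E x n c = E x k c := by
  induction e with
  | refl => rfl
  | step e ih => rw [E_lo x (h.trans_le (Nat.pow_le_pow_right two_pos e)), ih]

@[simp] theorem E_zero (x : ℕ → G) (k : ℕ) : E x k 0 = 1 := E_mono x (k := 0) one_pos k.zero_le

theorem E_pow (x : ℕ → G) {k n : ℕ} (h : k < n) : E x n (2 ^ k) = x k := by
  rw [E_mono x (k := k + 1) (Nat.pow_lt_pow_right one_lt_two k.lt_succ_self) h, ← add_zero (2 ^ k),
    E_hi x (by positivity), E_zero, mul_one]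

theorem E_mem_of {x : ℕ → G} {K : Subgroup G} {k c : ℕ} (h : ∀ i < k, c.testBit i = true → x i ∈ K) :
    E x k c ∈ K := by
  induction k with
  | zero => exact one_mem _
  | succ k ih =>
    have := ih fun i hi => h i (hi.trans k.lt_succ_self)
    rw [E]
    split_ifs with e
    exacts [mul_mem (h k k.lt_succ_self e) this, this]

theorem E_mem (x : ℕ → G) (k c : ℕ) : E x k c ∈ H x k := E_mem_of fun _ hi _ => x_mem hi

theorem split {k c : ℕ} (h : c < 2 ^ (k + 1)) : c < 2 ^ k ∨ ∃ d < 2 ^ k, c = 2 ^ k + d :=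
  (lt_or_ge c (2 ^ k)).imp_right fun e => ⟨c - 2 ^ k, by omega, by omega⟩

theorem E_inj {x : ℕ → G} {n c d : ℕ} (I : Ind x n) (hc : c < 2 ^ n) (hd : d < 2 ^ n)
    (e : E x n c = E x n d) : c = d := by
  induction n generalizing c d with
  | zero => omega
  | succ k ih =>
    have ne : ∀ c d, x k * E x k c ≠ E x k d := fun c d e => I k k.lt_succ_self
      ((mul_mem_cancel_right (E_mem x k c)).1 (e ▸ E_mem x k d))
    rcases split hc with h1 | ⟨c, h1, rfl⟩ <;> rcases split hd with h2 | ⟨d, h2, rfl⟩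
    · exact ih (I.mono k.le_succ) h1 h2 (by rwa [E_lo x h1, E_lo x h2] at e)
    · exact (ne _ _ (by rw [← E_hi x h2, ← e, E_lo x h1])).elim
    · exact (ne _ _ (by rw [← E_hi x h1, e, E_lo x h2])).elim
    · rw [ih (I.mono k.le_succ) h1 h2 (by rwa [E_hi x h1, E_hi x h2, mul_right_inj] at e)]

theorem E_surj [Finite G] {T : Tb} {x : ℕ → G} (P : Pres T x) (wf : T.wf = true) {k : ℕ}
    (hk : k ≤ T.n) {g : G} (hg : g ∈ H x k) : ∃ c < 2 ^ k, g = E x k c := by
  induction k generalizing g with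
  | zero => exact ⟨0, one_pos, by simpa [H_val (G := G) [] 0 ▸ (rfl : H (val ([] : List G)) 0 = _)]
      using (H_le (K := ⊥) (fun _ h => absurd h (by omega)) hg)⟩
  | succ k ih =>
    rcases P.mem_succ wf hk hg with e | e
    · obtain ⟨c, h1, h2⟩ := ih (by omega) e
      exact ⟨c, by omega, by rw [E_lo x h1, h2]⟩
    · obtain ⟨c, h1, h2⟩ := ih (by omega) e
      exact ⟨2 ^ k + c, by omega, by rw [E_hi x h1, ← h2, mul_inv_cancel_left]⟩

/-- The tables describe left multiplication by the letters `< k`. -/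
def Lk (x : ℕ → G) (L : List ℕ) (k : ℕ) : Prop :=
  ∀ r < k, ∀ c < 2 ^ k, lk (L.getD r 0) c < 2 ^ k ∧ E x k (lk (L.getD r 0) c) = x r * E x k c

theorem Lk.apw {x : ℕ → G} {L : List ℕ} {k : ℕ} (h : Lk x L k) {w : List ℕ}
    (hw : w.all (· < k) = true) {c : ℕ} (hc : c < 2 ^ k) :
    apw L w c < 2 ^ k ∧ E x k (apw L w c) = W x w * E x k c := by
  induction w with
  | nil => exact ⟨hc, (one_mul _).symm⟩
  | cons r w ih =>
    rw [List.all_cons, Bool.and_eq_true, decide_eq_true_eq] at hw
    have := h r hw.1 _ (ih hw.2).1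
    exact ⟨this.1, by rw [W_cons, mul_assoc, ← (ih hw.2).2]; exact this.2⟩

/-- A verified model of the group generated by the letters. -/
structure Md (T : Tb) (L : List ℕ) (x : ℕ → G) : Prop where
  P : Pres T x
  I : Ind x T.n
  wf : T.wf = true
  len : L.length = T.n
  lk : Lk x L T.n
  bit : ∀ r < T.n, En.lk (L.getD r 0) 0 = 2 ^ r

theorem md {T : Tb} {L : List ℕ} {x : ℕ → G} (P : Pres T x) (I : Ind x T.n) (h : chk T L = true) :
    Md T L x := by
  simp only [chk, Bool.and_eq_true, beq_iff_eq, List.all_eq_true, List.mem_range, force_eq,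
    forceL_eq, allB_iff, Nat.beq_eq, Nat.add_eq] at h
  obtain ⟨⟨wf, len⟩, h⟩ := h
  have wf' := wf
  simp only [Tb.wf, List.all_eq_true, List.mem_range, Bool.and_eq_true] at wf'
  have h1 : ∀ k < T.n, ∀ c < 2 ^ k, lk (L.getD k 0) c = 2 ^ k + c ∧
      lk (L.getD k 0) (2 ^ k + c) = apw L (T.sq k) c := fun k hk c hc => by
    have := (h k hk).1 c hc
    cases e : Nat.beq (lk (L.getD k 0) c) (2 ^ k + c) <;> rw [e] at this
    · exact Bool.noConfusion this
    · exact ⟨Nat.eq_of_beq_eq_true e, Nat.eq_of_beq_eq_true this⟩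
  have key : ∀ k ≤ T.n, Lk x L k := fun k hk => by
    induction k with
    | zero => exact fun _ h => absurd h (by omega)
    | succ k ih =>
      have ih := ih (by omega)
      intro r hr c hc
      rcases Nat.lt_succ_iff_lt_or_eq.1 hr with hr | rfl <;> rcases split hc with l | ⟨c, l, rfl⟩
      · have := ih r hr c l
        exact ⟨by omega, by rw [E_lo x this.1, E_lo x l, this.2]⟩
      · have := ih.apw (List.all_eq_true.2 ((wf' k hk).2 r hr)) l
        rw [(h k hk).2 r hr c l]
        exact ⟨by omega, by rw [E_hi x this.1, E_hi x l, this.2, ← mul_assoc, ← mul_assoc,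
          P.cj k hk r hr]⟩
      · rw [(h1 r hk c l).1]
        exact ⟨by omega, by rw [E_hi x l, E_lo x l]⟩
      · have := ih.apw (List.all_eq_true.2 (wf' r hk).1) l
        rw [(h1 r hk c l).2]
        exact ⟨by omega, by rw [E_lo x this.1, E_hi x l, this.2, ← mul_assoc, P.sq r hk]⟩
  exact ⟨P, I, wf, len, key _ le_rfl, fun r hr => (h1 r hr 0 (by positivity)).1⟩

theorem beq_land (c k : ℕ) : Nat.beq (Nat.land c (2 ^ k)) 0 = !c.testBit k := by
  have : Nat.land c (2 ^ k) = (c.testBit k).toNat * 2 ^ k := Nat.and_two_pow c k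
  rw [this]
  cases c.testBit k
  · simp
  · exact Bool.eq_false_iff.2 fun e => absurd (Nat.eq_of_beq_eq_true e) (by simp)

namespace Md

variable {T : Tb} {L : List ℕ} {x : ℕ → G} (M : Md T L x) {c d : ℕ}
include M

theorem mul (hd : d < 2 ^ T.n) (c : ℕ) :
    mul L c d < 2 ^ T.n ∧ E x T.n (mul L c d) = E x T.n c * E x T.n d := by
  have key : ∀ j k d', k + j = T.n → d' < 2 ^ T.n → E x T.n d' = E x k c * E x T.n d →
      mulA c (L.drop k) d' < 2 ^ T.n ∧ E x T.n (mulA c (L.drop k) d') = E x T.n c * E x T.n d := by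
    intro j
    induction j with
    | zero =>
      intro k d' e h1 h2
      rw [List.drop_eq_nil_of_le (by rw [M.len]; omega)]
      exact ⟨h1, by rw [← show k = T.n from e] at h2 ⊢; exact h2⟩
    | succ j ih =>
      intro k d' e h1 h2
      have l : k < L.length := by rw [M.len]; omega
      have b : Nat.land L[k] 65535 = 2 ^ k := by
        rw [← M.bit k (by omega), List.getD_eq_getElem _ _ l]; rfl
      have m := M.lk k (by omega) d' h1
      rw [List.getD_eq_getElem _ _ l] at m
      rw [List.drop_eq_getElem_cons l]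
      change Bool.rec (motive := fun _ => ℕ) (mulA c _ _) (mulA c _ _) _ < _ ∧
        E x T.n (Bool.rec (motive := fun _ => ℕ) (mulA c _ _) (mulA c _ _) _) = _
      rw [b, beq_land]
      cases e' : c.testBit k
      · exact ih (k + 1) d' (by omega) h1 (by rw [E, e', h2]; rfl)
      · exact ih (k + 1) _ (by omega) m.1 (by rw [E, e', m.2, h2, ← mul_assoc]; rfl)
  simpa [En.mul] using key T.n 0 d (zero_add _) hd (one_mul _).symm

theorem mul_lt (c : ℕ) (hd : d < 2 ^ T.n) : En.mul L c d < 2 ^ T.n := (M.mul hd c).1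

theorem E_mul (c : ℕ) (hd : d < 2 ^ T.n) : E x T.n (En.mul L c d) = E x T.n c * E x T.n d :=
  (M.mul hd c).2

theorem inj (hc : c < 2 ^ T.n) (hd : d < 2 ^ T.n) : E x T.n c = E x T.n d ↔ c = d :=
  ⟨E_inj M.I hc hd, fun e => e ▸ rfl⟩

theorem surj [Finite G] {g : G} (hg : g ∈ H x T.n) : ∃ c < 2 ^ T.n, g = E x T.n c :=
  E_surj M.P M.wf le_rfl hg

theorem cw {w : List ℕ} (hw : w.all (· < T.n) = true) :
    cw L w < 2 ^ T.n ∧ E x T.n (cw L w) = W x w := by
  simpa [En.cw] using M.lk.apw hw (c := 0) (by positivity)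

/-- `c d = c' d'`. -/
theorem eq_iff {c' d' : ℕ} (hd : d < 2 ^ T.n) (hd' : d' < 2 ^ T.n) :
    Nat.beq (En.mul L c d) (En.mul L c' d') = true ↔
      E x T.n c * E x T.n d = E x T.n c' * E x T.n d' := by
  rw [Nat.beq_eq, ← M.inj (M.mul_lt c hd) (M.mul_lt c' hd'), M.E_mul c hd, M.E_mul c' hd']

/-- `c d = e`. -/
theorem eq_iff' {e : ℕ} (hd : d < 2 ^ T.n) (he : e < 2 ^ T.n) :
    Nat.beq (En.mul L c d) e = true ↔ E x T.n c * E x T.n d = E x T.n e := by
  rw [Nat.beq_eq, ← M.inj (M.mul_lt c hd) he, M.E_mul c hd]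

theorem sq_iff (hc : c < 2 ^ T.n) : Nat.beq (En.mul L c c) 0 = true ↔ E x T.n c * E x T.n c = 1 := by
  rw [M.eq_iff' hc (by positivity), E_zero]

/-- Letters `y` with the codes `im`. -/
theorem hom {y : ℕ → G} {im : List ℕ} (c : ℕ)
    (h : ∀ r < im.length, c.testBit r = true → E x T.n (im.getD r 0) = y r) :
    hom L im c < 2 ^ T.n ∧ E x T.n (hom L im c) = E y im.length c := by
  have key : ∀ j k d, k + j = im.length → d < 2 ^ T.n → E x T.n d = E y k c →
      homA L c (im.drop k) (2 ^ k) d < 2 ^ T.n ∧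
        E x T.n (homA L c (im.drop k) (2 ^ k) d) = E y im.length c := by
    intro j
    induction j with
    | zero =>
      intro k d e h1 h2
      rw [List.drop_eq_nil_of_le (by omega)]
      exact ⟨h1, by rw [← show k = im.length from e]; exact h2⟩
    | succ j ih =>
      intro k d e h1 h2
      have l : k < im.length := by omega
      have e2 : homA L c (im[k] :: im.drop (k + 1)) (2 ^ k) d = Bool.rec (motive := fun _ => ℕ)
          (homA L c (im.drop (k + 1)) (2 ^ k + 2 ^ k) (En.mul L im[k] d))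
          (homA L c (im.drop (k + 1)) (2 ^ k + 2 ^ k) d) (Nat.beq (Nat.land c (2 ^ k)) 0) :=
        force_eq (2 ^ k) fun m => Bool.rec (motive := fun _ => ℕ)
          (homA L c (im.drop (k + 1)) (m + m) (En.mul L im[k] d))
          (homA L c (im.drop (k + 1)) (m + m) d) (Nat.beq (Nat.land c m) 0)
      rw [List.drop_eq_getElem_cons l, e2, beq_land, ← mul_two, ← pow_succ]
      cases e' : c.testBit k
      · exact ih (k + 1) d (by omega) h1 (by rw [E, e', h2]; rfl)
      · exact ih (k + 1) _ (by omega) (M.mul_lt _ h1) (by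
          rw [E, e', M.E_mul _ h1, h2, ← h k l e', List.getD_eq_getElem _ _ l]; rfl)
  simpa [En.hom] using key im.length 0 0 (zero_add _) (by positivity) (E_zero _ _)

end Md

theorem E_conj (x : ℕ → G) (g : G) (k c : ℕ) :
    E (fun i => g * x i * g⁻¹) k c = g * E x k c * g⁻¹ := by
  induction k with
  | zero => simp [E]
  | succ k ih => rw [E, E, ih]; split_ifs <;> group

/-! ### Conjugation, classes, partial actions -/

/-- `c ^ (2 ^ k - 1)`. -/
def pw (L : List ℕ) (c : ℕ) (k : ℕ) : ℕ :=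
  Nat.rec (motive := fun _ => ℕ) 0 (fun _ ih => force ih fun d => mul L c (mul L d d)) k

/-- A candidate for the inverse (exponent at most 32). -/
def inv (L : List ℕ) (c : ℕ) : ℕ := force c fun c => Bool.rec (pw L c 5) c (Nat.beq (mul L c c) 0)

def mem (c : ℕ) (l : List ℕ) : Bool :=
  List.rec (motive := fun _ => Bool) false (fun d _ ih => Bool.rec ih true (Nat.beq c d)) l

theorem mem_iff {c : ℕ} {l : List ℕ} : mem c l = true ↔ c ∈ l := by
  induction l with
  | nil => simp [mem]
  | cons d l ih =>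
    change Bool.rec (mem c l) true (Nat.beq c d) = true ↔ _
    cases e : Nat.beq c d
    · simpa [Nat.ne_of_beq_eq_false e] using ih
    · simp [Nat.eq_of_beq_eq_true e]

/-- A set of codes as a bit mask. -/
def msk (l : List ℕ) : ℕ :=
  List.rec (motive := fun _ => ℕ) 0 (fun d _ ih => Nat.lor (Nat.shiftLeft 1 d) ih) l

def tb (m c : ℕ) : Bool := Nat.beq (Nat.land (Nat.shiftRight m c) 1) 1

theorem tb_eq (m i : ℕ) : tb m i = m.testBit i := by
  have h : Nat.land (Nat.shiftRight m i) 1 = (m >>> i) % 2 := Nat.and_one_is_mod _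
  rw [tb, h, Nat.testBit, Nat.and_comm, Nat.and_one_is_mod]
  rcases Nat.mod_two_eq_zero_or_one (m >>> i) with h | h <;> rw [h] <;> rfl

theorem tb_msk {l : List ℕ} {c : ℕ} : tb (msk l) c = true ↔ c ∈ l := by
  rw [tb_eq]
  induction l with
  | nil => simp [msk]
  | cons d l ih =>
    change (1 <<< d ||| msk l).testBit c = true ↔ _
    rw [Nat.testBit_or, Bool.or_eq_true, ih, Nat.shiftLeft_eq, one_mul, Nat.testBit_two_pow]
    simp [eq_comm]

/-- The orbit of `r` under conjugation by the codes `gs` (lowest first), for a polycyclic series. -/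
def orb (L : List ℕ) (r : ℕ) (gs : List ℕ) : List ℕ :=
  gs.foldl (fun O g => forceL O fun O => force (inv L g) fun i =>
    Bool.rec O (Bool.rec (O ++ O.map fun c => mul L g (mul L c i)) O (mem (mul L g (mul L r i)) O))
      (Nat.beq (mul L g i) 0)) [r]

/-- The codes of the letters. -/
def lts (n : ℕ) : List ℕ := (List.range n).map (2 ^ ·)

/-- The union of the classes of the codes `R`. -/
def cls (L : List ℕ) (n : ℕ) (R : List ℕ) : ℕ := msk (R.flatMap fun r => force r fun r => orb L r (lts n))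

/-- `g` acts on the letters in the mask `m` through the codes `im`. -/
def AcC (x : ℕ → G) (g : G) (m : ℕ) (im : List ℕ) (n : ℕ) : Prop :=
  ∀ r < im.length, m.testBit r = true → E x n (im.getD r 0) = g * x r * g⁻¹

/-- The codes of a substitution. -/
def ims (L : List ℕ) (n : ℕ) (f : List (ℕ × List ℕ)) : List ℕ :=
  (List.range n).map fun r => cw L (app f [r])

/-- The relations of the letter `k` of `T'` hold for the codes `im`. -/
def rel (L : List ℕ) (T' : Tb) (k : ℕ) (im : List ℕ) : Bool := force (im.getD k 0) fun c =>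
  Nat.beq (mul L c c) ((T'.sq k).foldr (fun r d => mul L (im.getD r 0) d) 0) &&
  (List.range k).all fun r => Nat.beq (mul L (im.getD r 0) c)
    (mul L c ((T'.cj k r).foldr (fun r d => mul L (im.getD r 0) d) 0))

/-- All lists of codes that satisfy the relations of `T'`, the `k`-th code taken from `cand k`. -/
def exts (L : List ℕ) (T' : Tb) (cand : ℕ → List ℕ → List ℕ) : ℕ → List (List ℕ)
  | 0 => [[]]
  | k + 1 => (exts L T' cand k).flatMap fun im => forceL im fun im =>
      ((cand k im).map fun c => im ++ [c]).filter (rel L T' k)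

namespace Md

variable {T : Tb} {L : List ℕ} {x : ℕ → G} (M : Md T L x) {c d : ℕ}
include M

theorem pw_lt (c k : ℕ) : pw L c k < 2 ^ T.n := by
  induction k with
  | zero => exact Nat.two_pow_pos _
  | succ k ih =>
    exact (force_eq (pw L c k) fun d => En.mul L c (En.mul L d d)).trans_lt (M.mul_lt _ (M.mul_lt _ ih))

theorem E_inv {i : ℕ} (hi : i < 2 ^ T.n) (h : Nat.beq (En.mul L c i) 0 = true) :
    E x T.n i = (E x T.n c)⁻¹ :=
  eq_inv_of_mul_eq_one_right (by rw [(M.eq_iff' hi (by positivity)).1 h, E_zero])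

theorem inv_lt (hc : c < 2 ^ T.n) : inv L c < 2 ^ T.n := by
  rw [inv, force_eq]
  cases Nat.beq (En.mul L c c) 0
  exacts [M.pw_lt c 5, hc]

theorem orb {K : Subgroup G} {r : ℕ} (hr : r < 2 ^ T.n) {gs : List ℕ}
    (hg : ∀ g ∈ gs, g < 2 ^ T.n ∧ E x T.n g ∈ K) (hc : c ∈ orb L r gs) :
    c < 2 ^ T.n ∧ ∃ h ∈ K, E x T.n c = h * E x T.n r * h⁻¹ := by
  refine List.foldlRecOn (motive := fun O : List ℕ => ∀ c ∈ O, c < 2 ^ T.n ∧
    ∃ h ∈ K, E x T.n c = h * E x T.n r * h⁻¹) gs _ (fun c hc => ?_) (fun O ih g hg' c hc => ?_) c hc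
  · rw [List.mem_singleton.1 hc]
    exact ⟨hr, 1, one_mem _, by simp⟩
  · rw [forceL_eq, force_eq] at hc
    cases e : Nat.beq (En.mul L g (inv L g)) 0 <;> rw [e] at hc
    · exact ih c hc
    cases e' : mem (En.mul L g (En.mul L r (inv L g))) O <;> rw [e'] at hc
    swap
    · exact ih c hc
    rcases List.mem_append.1 hc with k | k
    · exact ih c k
    obtain ⟨d, hd, rfl⟩ := List.mem_map.1 k
    obtain ⟨-, h, h1, h2⟩ := ih d hd
    have l := M.inv_lt (hg g hg').1
    refine ⟨M.mul_lt _ (M.mul_lt _ l), _, mul_mem (hg g hg').2 h1, ?_⟩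
    rw [M.E_mul _ (M.mul_lt _ l), M.E_mul _ l, M.E_inv l e, h2]; group

/-- A code in the mask `cls L n R` is conjugate under `H x n` to a member of `R`. -/
theorem cls {n : ℕ} (hn : n ≤ T.n) {R : List ℕ} (hR : R.all (· < 2 ^ T.n) = true)
    (hc : tb (cls L n R) c = true) : ∃ r ∈ R, ∃ h ∈ H x n, E x T.n c = h * E x T.n r * h⁻¹ := by
  obtain ⟨r, hr, e⟩ := List.mem_flatMap.1 (tb_msk.1 hc)
  rw [force_eq] at e
  refine ⟨r, hr, (M.orb (of_decide_eq_true (List.all_eq_true.1 hR r hr)) (fun g hg => ?_) e).2⟩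
  obtain ⟨i, hi, rfl⟩ := List.mem_map.1 hg
  have hi := List.mem_range.1 hi
  exact ⟨Nat.pow_lt_pow_right one_lt_two (by omega), by rw [E_pow x (by omega)]; exact x_mem hi⟩

theorem acC {g : G} {S : List ℕ} {f : List (ℕ × List ℕ)} (A : Act x g S f) {n : ℕ}
    (h : (S.all fun r => (app f [r]).all (· < T.n)) = true) : AcC x g (msk S) (ims L n f) T.n :=
  fun r hr hm => by
    have hr : r < n := by simpa [ims] using hr
    have hm := tb_msk.1 ((tb_eq _ _).trans hm)
    rw [A r hm, ← (M.cw (List.all_eq_true.1 h r hm)).2]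
    simp [ims, hr]

/-- The image of a code under a partial action. -/
theorem act {g : G} {m : ℕ} {im : List ℕ} (A : AcC x g m im T.n) (hl : im.length ≤ T.n)
    (hc : c < 2 ^ im.length) (hm : Nat.beq (Nat.land c m) c = true) :
    En.hom L im c < 2 ^ T.n ∧ E x T.n (En.hom L im c) = g * E x T.n c * g⁻¹ := by
  have := M.hom (y := fun i => g * x i * g⁻¹) c fun r hr e => A r hr (by
    rw [← Nat.eq_of_beq_eq_true hm] at e
    exact (Bool.and_eq_true_iff.1 ((Nat.testBit_and c m r).symm.trans e)).2)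
  rwa [E_conj, ← E_mono x hc hl] at this

/-- Elements `y` of the group that satisfy the relations of `T'` are found by `exts`. -/
theorem exts [Finite G] {T' : Tb} {y : ℕ → G} (Q : Pres T' y) (wf : T'.wf = true)
    {cand : ℕ → List ℕ → List ℕ} {k : ℕ} (hk : k ≤ T'.n) (hy : ∀ i < k, y i ∈ H x T.n)
    (hc : ∀ i < k, ∀ im : List ℕ, im.length = i → (∀ j < i, im.getD j 0 < 2 ^ T.n ∧
      E x T.n (im.getD j 0) = y j) → ∀ c < 2 ^ T.n, E x T.n c = y i → c ∈ cand i im) :
    ∃ im ∈ exts L T' cand k, im.length = k ∧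
      ∀ j < k, im.getD j 0 < 2 ^ T.n ∧ E x T.n (im.getD j 0) = y j := by
  induction k with
  | zero => exact ⟨[], by simp [En.exts], rfl, fun _ h => absurd h (by omega)⟩
  | succ k ih =>
    obtain ⟨im, h1, h2, h3⟩ := ih (by omega) (fun i hi => hy i (by omega)) fun i hi => hc i (by omega)
    obtain ⟨c, c1, c2⟩ := M.surj (hy k k.lt_succ_self)
    have h4 : ∀ j < k + 1, (im ++ [c]).getD j 0 < 2 ^ T.n ∧ E x T.n ((im ++ [c]).getD j 0) = y j :=
      fun j hj => by
        rcases Nat.lt_succ_iff_lt_or_eq.1 hj with l | rfl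
        · rw [List.getD_append _ _ _ _ (by omega)]; exact h3 j l
        · rw [List.getD_append_right _ _ _ _ h2.le, h2, Nat.sub_self]; exact ⟨c1, c2.symm⟩
    refine ⟨im ++ [c], List.mem_flatMap.2 ⟨im, h1, ?_⟩, by simp [h2], h4⟩
    rw [forceL_eq]
    refine List.mem_filter.2 ⟨List.mem_map_of_mem (hc k k.lt_succ_self im h2 h3 c c1 c2.symm), ?_⟩
    generalize im ++ [c] = jm at h4
    have fw : ∀ w : List ℕ, (∀ r ∈ w, decide (r < k) = true) →
        w.foldr (fun r d => En.mul L (jm.getD r 0) d) 0 < 2 ^ T.n ∧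
        E x T.n (w.foldr (fun r d => En.mul L (jm.getD r 0) d) 0) = W y w := fun w hw => by
      induction w with
      | nil => exact ⟨Nat.two_pow_pos _, E_zero _ _⟩
      | cons r w ih =>
        have := ih fun s hs => hw s (List.mem_cons_of_mem _ hs)
        have l := of_decide_eq_true (hw r List.mem_cons_self)
        exact ⟨M.mul_lt _ this.1, by
          rw [List.foldr_cons, M.E_mul _ this.1, this.2, (h4 r (by omega)).2, W_cons]⟩
    simp only [Tb.wf, List.all_eq_true, List.mem_range, Bool.and_eq_true] at wf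
    have hk' := h4 k k.lt_succ_self
    simp only [rel, force_eq, Bool.and_eq_true, List.all_eq_true, List.mem_range]
    refine ⟨(M.eq_iff' hk'.1 (fw _ (wf k hk).1).1).2 ?_, fun r hr =>
      (M.eq_iff hk'.1 (fw _ ((wf k hk).2 r hr)).1).2 ?_⟩
    · rw [(fw _ (wf k hk).1).2, hk'.2, Q.sq k hk]
    · rw [(fw _ ((wf k hk).2 r hr)).2, hk'.2, (h4 r (by omega)).2, Q.cj k hk r hr]

/-- Counting along an injective map. -/
theorem cnt_le [Finite G] {p q : ℕ → Bool} {f : G → G} (hf : Function.Injective f)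
    (h : ∀ c < 2 ^ T.n, p c = true → f (E x T.n c) ∈ H x T.n ∧
      ∀ d < 2 ^ T.n, E x T.n d = f (E x T.n c) → q d = true) : cnt T.n p ≤ cnt T.n q := by
  classical
  rw [cnt, cnt, ← List.toFinset_card_of_nodup nodup_flt, ← List.toFinset_card_of_nodup nodup_flt]
  choose φ h1 h2 using fun c (hc : c < 2 ^ T.n ∧ p c = true) => M.surj (h c hc.1 hc.2).1
  refine Finset.card_le_card_of_injOn (fun c => if hc : c < 2 ^ T.n ∧ p c = true then φ c hc else 0)
    (fun c hc => ?_) fun c hc d hd e => ?_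
  · have hc := mem_flt.1 (List.mem_toFinset.1 hc)
    simp only [dif_pos hc, Finset.mem_coe, List.mem_toFinset, mem_flt]
    exact ⟨h1 c hc, (h c hc.1 hc.2).2 _ (h1 c hc) (h2 c hc).symm⟩
  · have hc := mem_flt.1 (List.mem_toFinset.1 hc)
    have hd := mem_flt.1 (List.mem_toFinset.1 hd)
    simp only [dif_pos hc, dif_pos hd] at e
    exact E_inj M.I hc.1 hd.1 (hf (by rw [h2 c hc, h2 d hd, e]))

/-- The order of a subgroup given by a test. -/
theorem card_eq [Finite G] {K : Subgroup G} (hK : K ≤ H x T.n) {p : ℕ → Bool}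
    (h : ∀ c < 2 ^ T.n, p c = true ↔ E x T.n c ∈ K) : Nat.card K = cnt T.n p := by
  classical
  rw [cnt, ← List.toFinset_card_of_nodup nodup_flt, ← Nat.card_eq_finsetCard]
  refine (Nat.card_congr (Equiv.ofBijective (fun c => ⟨E x T.n c.1,
    (h _ (mem_flt.1 (List.mem_toFinset.1 c.2)).1).1 (mem_flt.1 (List.mem_toFinset.1 c.2)).2⟩)
    ⟨fun c d e => Subtype.ext (E_inj M.I (mem_flt.1 (List.mem_toFinset.1 c.2)).1
      (mem_flt.1 (List.mem_toFinset.1 d.2)).1 (congrArg Subtype.val e)), fun g => ?_⟩)).symm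
  obtain ⟨c, c1, c2⟩ := M.surj (hK g.2)
  exact ⟨⟨c, List.mem_toFinset.2 (mem_flt.2 ⟨c1, (h c c1).2 (c2 ▸ g.2)⟩)⟩, Subtype.ext c2.symm⟩

end Md

theorem _root_.H85.FZ.Pres.cjg {T : Tb} {x : ℕ → G} (P : Pres T x) (g : G) :
    Pres T fun i => g * x i * g⁻¹ := by
  have k : ∀ w, W (fun i => g * x i * g⁻¹) w = g * W x w * g⁻¹ := fun w => by
    induction w with
    | nil => simp
    | cons r w ih => rw [W_cons, W_cons, ih]; group
  exact ⟨fun s hs r hr => by rw [k, conj_mul, conj_mul, P.cj s hs r hr],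
    fun s hs => by rw [k, conj_mul, P.sq s hs]⟩

end H85.En
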