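import Cfsg.Agent.H85.DZAn

/-! DZ: adjusting by centralizers, transport of actions, pairs of type `-`. -/

set_option autoImplicit false
set_option linter.unusedSectionVars false

namespace H85.En

open Subgroup Cfsg H14 H98 H1.Gold H31.S2 H85.FZ H85.DZ H49.D8

universe u

/-- `e` together with `c ↦ d`. -/
def adM (L : List ℕ) (n : ℕ) (e : Mv) (c d : ℕ) : Mv := fM e fun e => force c fun c => force d fun d =>
  forceL (flt n (tb e.1)) fun l => ofP ((l.map fun a => pr a (lk e.2 a)) ++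
    l.map fun a => pr (mul L c a) (mul L d (lk e.2 a)))

/-- A substitution on the letters `S`, transported along the codes `im`. -/
def trM (L im S : List ℕ) (f : List (ℕ × List ℕ)) : Mv := forceL im fun im =>
  gnM L (S.map fun r => (im.getD r 0, ev L im (app f [r])))

/-- The product of the moves with the indices `w` (the first one is applied last). -/
def wM (n : ℕ) (ms : List Mv) (K : ℕ) (w : List ℕ) : Mv :=
  w.foldr (fun i e => cmpM n (ms.getD i (0, 0)) e) (ofP ((flt n (tb K)).map fun c => pr c c))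

/-- The test holds for all codes `< 2 ^ k` that act on `cs` as `e`, and there is such a code. -/
def fus (L : List ℕ) (k : ℕ) (e : Mv) (cs : List ℕ) (test : ℕ → Bool) : Bool :=
  fM e fun e => forceL cs fun cs => forceL (flt k (agr L e cs)) fun l => !l.isEmpty && l.all test

/-- The extremality test for `y` with the help of the pairs of type `-`; `D` is the first label, `a`
and `b` are the codes of `t` and of the extremal conjugate, `K` is the mask of the conjugate of `T`. -/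
def prOK (L : List ℕ) (n : ℕ) (lb : List Mv) (C : List Cl) (a b y K : ℕ) : Bool :=
  force (clo1 C y) fun Y => force K fun K => force (lb.getD 0 (0, 0)).1 fun D =>
    tb (lb.getD 0 (0, 0)).2 y && invo L y && ((czl L n a).all fun c => decide (c < 32)) &&
    ((czl L n b).all fun c => !invo L c || tb K c || tb D c || tb Y c) &&
    force (Nat.lor (clo1 C a) (clo1 C b)) fun U =>
      xtr L n lb C (cz L n y) b [] [] [(true, [.la 0 true [1]])] (tb U)

variable {G : Type u} [Group G] {T : Tb} {L : List ℕ} {x : ℕ → G} {g h t w y : G} {e f : Mv}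
  {n k b c d K : ℕ} {P Q R : Subgroup G} {C : List Cl} {Ps : List (G → Prop)} {lb : List Mv}

/-- (FUSE) -/
theorem fuse [Finite G] (hS : IsSyl 2 P (P ⊔ cen Q)) (hP : P ≤ nor Q) (hh : IsPGroup 2 (zpowers h))
    (hy : y ∈ P) (e : y⁻¹ * h ∈ cen Q) : ∃ c ∈ cen Q, c * h * c⁻¹ ∈ P := by
  obtain ⟨n, n1, n2⟩ := hS.exists_cj_le hh (zpowers_le.2 (by
    rw [← mul_inv_cancel_left y h]; exact mul_mem_sup hy e))
  obtain ⟨a, a1, c, c1, rfl⟩ := (mem_sup_left_norm (hP.trans (normalizer_le_normalizer_centralizer _))).1 n1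
  refine ⟨c, c1, ?_⟩
  have := mul_mem (mul_mem (inv_mem a1) (n2 (conj_mem_cj (mem_zpowers h)))) a1
  rwa [show a⁻¹ * (a * c * h * (a * c)⁻¹) * a = c * h * c⁻¹ by group] at this

theorem syl_sup [Finite G] (hP : IsPGroup 2 P) (hn : P ≤ nor Q)
    (sc : ∀ R ≤ cen Q, IsPGroup 2 R → R ≤ P) : IsSyl 2 P (P ⊔ cen Q) :=
  ⟨le_sup_left, hP, fun R h1 h2 h3 => le_antisymm (fun g hg => by
    obtain ⟨a, a1, c, c1, rfl⟩ :=
      (mem_sup_left_norm (hn.trans (normalizer_le_normalizer_centralizer _))).1 (h3 hg)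
    exact mul_mem a1 (sc (R ⊓ cen Q) inf_le_right (h1.to_le inf_le_left)
      ⟨(mul_mem_cancel_left (h2 a1)).1 hg, c1⟩)) h2⟩

theorem two_of_sq (hP : IsPGroup 2 P) (e : h * h ∈ P) : IsPGroup 2 (zpowers h) := by
  obtain ⟨k, hk⟩ := isPGroup_iff_forall.1 hP _ e
  exact isPGroup_zpowers (k := k + 1) (by rw [pow_succ', pow_mul, pow_two, hk])

/-- The pair `(t', w)` has the type `-`. -/
def Nt (t : G) (T : Subgroup G) (t' w : G) : Prop := ∀ g, g * t * g⁻¹ = t' → g⁻¹ * w * g ∉ T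

theorem Nt.cj {t' : G} (h : Nt t P t' w) (k : G) : Nt t P (k * t' * k⁻¹) (k * w * k⁻¹) := fun g e => by
  have := h (k⁻¹ * g) (by rw [mul_inv_rev, mul_assoc k⁻¹, ← mul_assoc, mul_assoc k⁻¹, e]; group)
  rwa [show (k⁻¹ * g)⁻¹ * w * (k⁻¹ * g) = g⁻¹ * (k * w * k⁻¹) * g by group] at this

theorem _root_.H85.DZ.Dd.nt {v s u a d : G} (h : Dd t v s u a d) : Nt t (cl [a, u, v, t, s]) t d :=
  fun g e k => by
    obtain ⟨ψ, h1, h2⟩ := h.psi
    have hg : g ∈ cen1 t := mem_cen1.2 (mul_inv_eq_iff_eq_mul.1 e)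
    have hd : d ∈ cen1 t := mem_cen1.2 (mul_inv_eq_iff_eq_mul.1 h.dt)
    have := h1 ((⟨g, hg⟩ : cen1 t)⁻¹ * ⟨d, hd⟩ * ⟨g, hg⟩) k
    rw [map_mul, map_mul, h2, map_inv, mul_right_comm, inv_mul_cancel] at this
    exact absurd this (by decide)

theorem _root_.H85.DZ.Dd.mul_t {v s u a d : G} (h : Dd t v s u a d) (r : Tr t v s u a) :
    Dd t v s u a (d * t) := by
  have k : ∀ y, y * t = t * y → d * t * y * (d * t)⁻¹ = d * y * d⁻¹ := fun y e => by
    rw [mul_assoc d, ← e]; group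
  have dt := mul_inv_eq_iff_eq_mul.1 h.dt
  refine ⟨(k t rfl).trans h.dt, (k v r.vt).trans h.dv, (k s r.st).trans h.ds, (k a r.ta).trans h.da,
    (k u r.ut).trans h.du, ?_, ?_, ?_⟩
  · rw [mul_assoc, ← mul_assoc t, ← dt, mul_assoc, r.tt, mul_one]; exact h.dd
  · have m : ∀ z : G, t ∈ cl [a, u, v, t, s, z] := fun _ => mem_cl (by simp)
    have n : ∀ z z' : G, z ∈ cl [a, u, v, t, s, z'] → cl [a, u, v, t, s, z] ≤ cl [a, u, v, t, s, z'] :=
      fun z z' e => cl_le.2 fun y hy => by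
        rcases (by simpa [or_assoc] using hy : y ∈ [a, u, v, t, s] ∨ y = z) with k | rfl
        exacts [mem_cl (List.mem_append_left [z'] k), e]
    rw [le_antisymm (n _ d (mul_mem (mem_cl (by simp)) (m _)))
      (n _ _ ((mul_mem_cancel_right (m _)).1 (mem_cl (by simp))))]
    exact h.syl
  · obtain ⟨ψ, h1, h2⟩ := h.psi
    refine ⟨ψ, h1, fun e => ?_⟩
    rw [show (⟨d * t, e⟩ : cen1 t) = ⟨d, mem_cen1.2 dt⟩ * ⟨t, mem_cen1.2 rfl⟩ from rfl, map_mul, h2,
      h1 _ (mem_cl (by simp)), mul_one]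

namespace Md

variable (M : Md T L x)
include M

theorem ad (A : Ap x T.n g e) (h : E x T.n d = g * E x T.n c * g⁻¹) : Ap x T.n g (adM L T.n e c d) := by
  simp only [adM, fM_eq, force_eq, forceL_eq]
  refine ofP_ap fun p hp => ?_
  rcases List.mem_append.1 hp with k | k <;> obtain ⟨a, ha, rfl⟩ := List.mem_map.1 k <;>
    obtain ⟨h1, h2, h3⟩ := A a (mem_flt.1 ha).2
  · have := lo_pr (h1.trans_le (Nat.pow_le_pow_right two_pos M.le16)) (En.lk e.2 a)
    rw [this.1, this.2]; exact ⟨h1, h2, h3⟩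
  · have := lo_pr ((M.mul_lt c h1).trans_le (Nat.pow_le_pow_right two_pos M.le16)) (En.mul L d (En.lk e.2 a))
    rw [this.1, this.2, M.E_mul _ h1, M.E_mul _ h2, h3, h, conj_mul]
    exact ⟨M.mul_lt _ h1, M.mul_lt _ h2, rfl⟩

theorem tr {z : ℕ → G} {im S : List ℕ} {f : List (ℕ × List ℕ)} (A : Act z g S f)
    (h1 : ∀ c ∈ im, c < 2 ^ T.n) (h2 : ∀ r < im.length, E x T.n (im.getD r 0) = h * z r * h⁻¹)
    (h3 : (S.all fun r => r < im.length && (app f [r]).all (· < im.length)) = true) :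
    Ap x T.n (h * g * h⁻¹) (trM L im S f) := by
  rw [trM, forceL_eq]
  refine M.gn fun p hp => ?_
  obtain ⟨r, hr, rfl⟩ := List.mem_map.1 hp
  have := Bool.and_eq_true_iff.1 (List.all_eq_true.1 h3 r hr)
  have k : ∀ w : List ℕ, w.all (· < im.length) = true →
      W (fun i => E x T.n (im.getD i 0)) w = h * W z w * h⁻¹ := fun w hw => by
    induction w with
    | nil => simp
    | cons i w ih =>
      rw [List.all_cons, Bool.and_eq_true, decide_eq_true_eq] at hw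
      rw [W_cons, W_cons, ih hw.2, h2 i hw.1, conj_mul]
  rw [(M.ev_spec h1 _).2, k _ this.2, h2 r (of_decide_eq_true this.1), ← A r hr]; group

theorem wrd {ms : List Mv} (h : Mvs x T.n ms) (K : ℕ) (w : List ℕ) : ∃ g, Ap x T.n g (wM T.n ms K w) := by
  induction w with
  | nil => exact ⟨1, ofP_map M.le16 (p := id) (q := id) fun c hc =>
      ⟨(mem_flt.1 hc).1, (mem_flt.1 hc).1, by simp⟩⟩
  | cons i w ih =>
    obtain ⟨g, A⟩ := ih
    obtain ⟨k, B⟩ : ∃ k, Ap x T.n k (ms.getD i (0, 0)) := by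
      by_cases e : i < ms.length
      · rw [List.getD_eq_getElem _ _ e]; exact h _ (List.getElem_mem e)
      · rw [List.getD_eq_default _ _ (not_lt.1 e)]
        exact ⟨1, fun c hc => absurd (tb_zero.symm.trans hc) Bool.noConfusion⟩
    exact ⟨_, M.cmp B A⟩

theorem ap_cen (A : Ap x T.n g e) (hc : y ∈ cen (H x T.n)) : Ap x T.n (y * g) e := fun c k => by
  obtain ⟨h1, h2, h3⟩ := A c k
  refine ⟨h1, h2, ?_⟩
  rw [mul_inv_rev, ← mul_assoc, eq_mul_inv_iff_mul_eq, ← mem_cen_iff.1 hc _ (E_mem _ _ _), h3]; group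

theorem ap_cen' (A : Ap x T.n g e) (hc : y ∈ cen (H x T.n)) : Ap x T.n (y * g * y⁻¹) e := fun c k => by
  obtain ⟨h1, h2, h3⟩ := M.ap_cen A hc c k
  refine ⟨h1, h2, ?_⟩
  rw [h3, mul_assoc (y * g) y⁻¹, mem_cen_iff.1 (inv_mem hc) _ (E_mem _ _ _)]; group

variable [Finite G]

/-- (FUSE) for the engine. -/
theorem fus_spec (A : Ap x T.n h e) (hk : k ≤ T.n) {cs : List ℕ}
    (hS : IsSyl 2 (H x k) (H x k ⊔ cen (cl (cs.map (E x T.n))))) (hP : H x k ≤ nor (cl (cs.map (E x T.n))))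
    (hh : IsPGroup 2 (zpowers h)) {test : ℕ → Bool} (e' : fus L k e cs test = true) :
    ∃ c ∈ cen (cl (cs.map (E x T.n))), ∃ b < 2 ^ T.n, c * h * c⁻¹ = E x T.n b ∧ test b = true := by
  simp only [fus, fM_eq, forceL_eq, Bool.and_eq_true, Bool.not_eq_true', List.isEmpty_eq_false_iff_exists_mem,
    List.all_eq_true, mem_flt] at e'
  have l : ∀ b < 2 ^ k, b < 2 ^ T.n := fun b hb => hb.trans_le (Nat.pow_le_pow_right two_pos hk)
  obtain ⟨⟨a, a1, a2⟩, e2⟩ := e'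
  rw [M.agr_iff A (l a a1)] at a2
  have ya : E x T.n a ∈ H x k := E_mono x a1 hk ▸ E_mem x k a
  have hc := M.cen_of fun c hc => (a2 c hc).2
  obtain ⟨c, c1, c2⟩ := fuse hS hP hh ya hc
  obtain ⟨b, b1, b2⟩ := E_surj M.P M.wf hk c2
  rw [← E_mono x b1 hk] at b2
  refine ⟨c, c1, b, l b b1, b2, e2 b ⟨b1, (M.agr_iff A (l b b1)).2 fun j hj => ⟨(a2 j hj).1, ?_⟩⟩⟩
  have hn : h ∈ nor (cen (cl (cs.map (E x T.n)))) := by
    rw [← mul_inv_cancel_left (E x T.n a) h]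
    exact mul_mem (normalizer_le_normalizer_centralizer _ (hP ya)) (le_normalizer hc)
  have := mul_mem c1 (conj_mem_of_mem_normalizer (inv_mem hn) (inv_mem c1))
  rw [← b2, show (c * h * c⁻¹)⁻¹ * h = c * (h⁻¹ * c⁻¹ * h⁻¹⁻¹) by group]
  exact mem_cen_iff.1 this _ (mem_cl (List.mem_map_of_mem hj))

/-- An involution that forms a pair of type `-` with the extremal conjugate of `t` is extremal. -/
theorem pr_spec (B : Lab x T.n (IsConj t :: Ps) lb) (r : Rc x T.n C) (hS : IsSyl 2 (H x T.n) ⊤)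
    (h5 : 5 ≤ T.n) {a y : ℕ} (ha : a < 2 ^ T.n) (hy : y < 2 ^ T.n) (ta : E x T.n a = t)
    (tb' : E x T.n b = g * t * g⁻¹) (hK : Sat x T.n (· ∈ H98.cj g (H x 5)) K)
    (N : Nt t (H x 5) (E x T.n b) (E x T.n y)) (h : prOK L T.n lb C a b y K = true) :
    IsSyl 2 (H x T.n ⊓ cen1 (E x T.n y)) (cen1 (E x T.n y)) := by
  simp only [prOK, force_eq, Bool.and_eq_true, List.all_eq_true, decide_eq_true_eq, Bool.or_eq_true,
    Bool.not_eq_true'] at h
  obtain ⟨⟨⟨⟨h1, h2⟩, h3⟩, h4⟩, h⟩ := h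
  rw [M.invo_iff hy] at h2
  obtain ⟨⟨hb, -, by'⟩, -⟩ := M.xtr_y h
  obtain ⟨D, lb, rfl, ⟨-, d1, d2⟩, -⟩ := List.forall₂_cons_left_iff.1 B |>.imp fun _ h => h.imp fun _ h =>
    (⟨h.2.2, h.1, h.2.1⟩ : _ ∧ _ ∧ _)
  have h2' := M.two.to_le (inf_le_left (b := cen1 (E x T.n y)))
  obtain ⟨S, s1, s2⟩ := exists_isSyl_le h2' inf_le_right
  obtain ⟨n, -, n2⟩ := hS.exists_cj_le s1.isPGroup le_top
  obtain ⟨c, c1, c2, k, k1, k2⟩ := M.xtr_spec B r h (fun c hc => ((M.sgz hy).iff c hc).1)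
    ((cj_mono n s2).trans n2) .nil
  obtain ⟨z, hz, j, j1, j2⟩ : ∃ z, (z = a ∨ z = b) ∧ ∃ j ∈ H x T.n,
      E x T.n z = j * n * E x T.n b * (j * n)⁻¹ := by
    rw [tb_lor, Bool.or_eq_true] at c2
    have : ∀ z, tb (clo1 C z) c = true → ∃ j ∈ H x T.n, E x T.n z = j * n * E x T.n b * (j * n)⁻¹ :=
      fun z hz => by
        obtain ⟨i, i1, i2⟩ := r.clo1 hz
        exact ⟨(k * i)⁻¹, inv_mem (mul_mem k1 i1), by
          rw [mul_inv_rev _ n, mul_assoc _ n, ← mul_assoc, mul_assoc _ (n * _), k2, i2]; group⟩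
    exact c2.elim (fun e => ⟨a, .inl rfl, this a e⟩) fun e => ⟨b, .inr rfl, this b e⟩
  have le : H98.cj (j * n) S ≤ H x T.n := by
    rw [← cj_cj, ← cj_eq_self (le_normalizer j1)]; exact cj_mono _ n2
  obtain ⟨w, w1, w2⟩ := M.surj (le (conj_mem_cj (s2 ⟨E_mem x _ y, mem_cen1.2 rfl⟩)))
  have N' := N.cj (j * n)
  rw [← j2, w2] at N'
  have cw : E x T.n w ∈ cen1 (E x T.n z) := by
    rw [← w2, j2, ← cj_cen1]
    exact conj_mem_cj (mem_cen1.2 (mem_cen1.1 (((M.sgz hy).iff b hb).1 by').2).symm)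
  rcases hz with rfl | rfl
  · refine absurd ?_ (N' 1 (by simp [ta]))
    have := h3 w (((M.czl_spec ha).2 w).2 ⟨w1, cw⟩)
    rw [inv_one, one_mul, mul_one, E_mono x (k := 5) this h5]
    exact E_mem _ _ _
  rcases h4 w (((M.czl_spec hb).2 w).2 ⟨w1, cw⟩) with ((e | e) | e) | e
  · rw [(M.invo_iff w1).2 ⟨by rw [← w2, conj_mul, h2.1]; simp, by
      rw [← w2, ne_eq, conj_eq_one_iff]; exact h2.2⟩] at e
    exact Bool.noConfusion e
  · exact absurd (mem_cj.1 (hK w w1 e)) (N' g tb'.symm)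
  · exact absurd ((d1 w w1 e).trans (w2 ▸ isConj_of _ _ : IsConj (E x T.n y) (E x T.n w)).symm) (d2 y hy h1)
  obtain ⟨i, i1, i2⟩ := r.clo1 e
  refine s1.of_card_ge h2' inf_le_right ?_
  rw [← card_cj (i⁻¹ * (j * n))]
  refine card_le_of_le (le_inf ?_ ?_)
  · rw [← cj_cj, ← cj_eq_self (le_normalizer (inv_mem i1))]; exact cj_mono _ le
  · refine (cj_mono _ s1.le).trans (le_of_eq ?_)
    rw [cj_cen1, mul_inv_rev i⁻¹, mul_assoc i⁻¹, ← mul_assoc, mul_assoc i⁻¹, w2, i2]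
    congr 1; group

end Md

end H85.En
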