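import Cfsg.Agent.H49.D8Spec
import Cfsg.Agent.H85.FZKit

/-! Interface of DZ (`blueprints/DZ.md`), part 1: the tower `H49.D8.Tower` up to the side data.
Letters as in `H85.FZSpec`.  `D` is the class of `t`, `T* = T` or `T ⟨d⟩` is Sylow in `C(t)`. -/

set_option autoImplicit false
set_option linter.unusedSectionVars false

namespace H85.DZ

open Subgroup Cfsg H14 H98 H1.Gold H31.S2 H85.FZ H49.D8

universe u

variable {G : Type u} [Group G]

/-- `T ⟨d⟩` is Sylow in `C(t)`. -/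
structure Dd (t v s u a d : G) : Prop where
  dt : d * t * d⁻¹ = t
  dv : d * v * d⁻¹ = s
  ds : d * s * d⁻¹ = v
  da : d * a * d⁻¹ = u
  du : d * u * d⁻¹ = a
  dd : d * d = 1 ∨ d * d = t
  syl : IsSyl 2 (cl [a, u, v, t, s, d]) (cen1 t)
  psi : ∃ ψ : cen1 t →* ℤˣ, (∀ x : cen1 t, (x : G) ∈ cl [a, u, v, t, s] → ψ x = 1) ∧
    ∀ h, ψ ⟨d, h⟩ = -1

/-- `T` is Sylow in `C(t)`, or there is a `d` that normalizes `P`. -/
def Nd (t v s u a : G) (P : Subgroup G) : Prop :=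
  IsSyl 2 (cl [a, u, v, t, s]) (cen1 t) ∨ ∃ d ∈ nor P, Dd t v s u a d

structure Loc (t v s u a σ ρ : G) : Prop extends Lc t v s u a σ ρ where
  top : IsSyl 2 (cl [a, u, v, t, s]) (cen1 t) ∨ ∃ d, Dd t v s u a d

structure Base (t v s u a σ ρ : G) : Prop extends Loc t v s u a σ ρ where
  nu : ¬ IsConj t u
  na : ¬ IsConj t a

structure Nar (t v s u a σ ρ : G) : Prop extends Base t v s u a σ ρ where
  narA : ∀ g ∈ nor (cl [a, u, v, t]), g * t * g⁻¹ ≠ t * u ∧ g * t * g⁻¹ ≠ t * a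
  narB : ∀ g ∈ nor (cl [u, a, s, t]), g * t * g⁻¹ ≠ t * u ∧ g * t * g⁻¹ ≠ t * a

structure Wid (t v s u a σ ρ : G) : Prop extends Base t v s u a σ ρ where
  exu : ∃ g ∈ N0 t v s u a, g * t * g⁻¹ = t * u
  exa : ∃ g ∈ N0 t v s u a, g * t * g⁻¹ = t * a

/-- `D ∩ Z(T) = {t, t a}`. -/
structure Zp (t v s u a σ ρ : G) : Prop extends Base t v s u a σ ρ where
  ntz : ¬ IsConj t (t * (u * a))
  ntu : ¬ IsConj t (t * u)
  exa : ∃ g ∈ N0 t v s u a, g * t * g⁻¹ = t * a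

structure N1 (t v s u a σ ρ y : G) : Prop extends Nar t v s u a σ ρ where
  pres : Pres tbN (val [a, u, v, t, s, y])
  nd : Nd t v s u a (cl [a, u, v, t, s, y])

structure W1 (t v s u a σ ρ p q : G) (α β γa γu : Bool) : Prop extends Base t v s u a σ ρ where
  pres : Pres (tbW α β γa γu) (val [a, u, v, t, s, p, q])
  σp : σ * p * σ⁻¹ = p * W (val [a, u]) (ow β [1, 0])
  ρq : ρ * q * ρ⁻¹ = q * W (val [a, u]) (ow α [1, 0])
  nd : Nd t v s u a (cl [a, u, v, t, s, p, q])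

structure WD (t v s u a σ ρ p q : G) (α β γa γu : Bool) (i j : ℕ) (k l : Bool) : Prop
    extends W1 t v s u a σ ρ p q α β γa γu where
  sA : SdW t v s u a σ p q i k
  sB : SdW t s v a u ρ q p j l

/-- The elements that act trivially on the factors of the chain `1 ≤ Q₁ ≤ Q₂ ≤ ⋯`. -/
def Triv (g : G) : Subgroup G → List (Subgroup G) → Prop
  | _, [] => True
  | Q₀, Q₁ :: L => (∀ x ∈ Q₁, g * x * g⁻¹ * x⁻¹ ∈ Q₀) ∧ Triv g Q₁ L

/-- `C(Q) ≤ K ≤ N(Q)` and `K / C(Q)` is a `2`-group. -/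
structure St (Q K : Subgroup G) : Prop where
  two : IsPGroup 2 Q
  ge : cen Q ≤ K
  le : K ≤ nor Q
  odd : ∀ g ∈ K, Odd (orderOf g) → g ∈ cen Q

/-- The outcome, with the outer involutions of `He.2`. -/
def Out2 (X : Subgroup G) (t : G) : Prop :=
  SectionalPRankLE 2 4 X ∨ (t ∉ X ∧ (Sp44 X ∨ L52 X ∨ U52 X ∨
    (Spor.IsoHe X ∧ ∀ x, x ∉ X → x * x = 1 → IsConj t x))) ∨ (t ∈ X ∧ Spor.IsoHS X)

/-! ### Jobs -/

/-- DZ-L: lifting.  (1) the stabilizer of a chain, (2) Frattini, (3) Frattini with `S₃`,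
(4) two `2`-subgroups of `K`, (5) `(Y X) ^ 3` inner. -/
structure JobL : Prop where
  stab : ∀ (G : Type u) [Group G] [Finite G] (L : List (Subgroup G)) (Q : Subgroup G),
    (⊥ :: L ++ [Q]).IsChain (· ≤ ·) → IsPGroup 2 Q → ∃ K, St Q K ∧
      (∀ g, g ∈ K ↔ Triv g ⊥ (L ++ [Q])) ∧ ∀ g, (∀ R ∈ L ++ [Q], g ∈ nor R) → g ∈ nor K
  lift0 : ∀ (G : Type u) [Group G] [Finite G] (Q K P : Subgroup G), St Q K → IsPGroup 2 P →
    P ≤ nor K → ∃ R, IsSyl 2 R K ∧ P ≤ nor R ∧ P ⊓ K ≤ R ∧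
      ∀ g ∈ nor K, ∃ c ∈ cen Q, c * g ∈ nor R
  lift : ∀ (G : Type u) [Group G] [Finite G] (Q K R : Subgroup G) (s σ : G), St Q K → Q ≤ K →
    (∀ x ∈ cen Q, x ∈ R → x ∈ Q) → IsSyl 2 R K → s ∈ nor R → s ∈ nor Q → s * s = 1 →
    σ ∈ nor K → σ ∈ nor Q → σ * σ * σ ∈ cen Q → s * σ * s * σ ∈ cen Q →
    ∃ c ∈ cen Q, c * σ ∈ nor R ∧ s * (c * σ) * s = (c * σ)⁻¹ ∧ c * σ * (c * σ) * (c * σ) ∈ cen R
  adj : ∀ (G : Type u) [Group G] [Finite G] (Q K P P' : Subgroup G), St Q K → IsPGroup 2 P →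
    IsPGroup 2 P' → P ≤ K → P' ≤ K → ∃ c ∈ cen Q, IsPGroup 2 ↥(P ⊔ cj c P')
  adj1 : ∀ (G : Type u) [Group G] [Finite G] (Q : Subgroup G) (Y X : G) (k : ℕ), IsPGroup 2 Q →
    Y ∈ nor Q → X ∈ nor Q → Y * Y ∈ Q → X * X ∈ Q → (Y * X) ^ 2 ^ k ∈ Q ⊔ cen Q →
    ∃ c ∈ cen Q, IsPGroup 2 ↥(Q ⊔ cl [Y, c * X * c⁻¹])
  adj3 : ∀ (G : Type u) [Group G] [Finite G] (Q : Subgroup G) (Y X : G), IsPGroup 2 Q →
    (∀ R ≤ cen Q, IsPGroup 2 R → R ≤ Q) → Y ∈ nor Q → X ∈ nor Q → Y * Y = 1 → X * X = 1 →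
    Y * X * (Y * X * (Y * X)) ∈ Q ⊔ cen Q → ∃ m ∈ Q, ∃ c ∈ cen Q,
      Y * X * (Y * X * (Y * X)) * m⁻¹ ∈ cen Q ∧ c * (X * Y) * X * (c * (X * Y))⁻¹ = Y * m

/-- DZ-D: the normal form of `d`; the case that `T*` is Sylow in `G`. -/
def JobD : Prop :=
  ∀ (G : Type u) [Group G] [Finite G] (t v s u a σ ρ : G), Lc t v s u a σ ρ →
    Hd t (cl [a, u, v, t, s]) → SectionalPRankLE 2 4 G ∨
      (Loc t v s u a σ ρ ∧ ∃ n ∈ nor (cl [a, u, v, t, s]), n * t * n⁻¹ ≠ t)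

/-- DZ-Z: fusion in `Z(T)`. -/
def JobZ : Prop :=
  ∀ (G : Type u) [Group G] [Finite G] (t v s u a σ ρ : G), Loc t v s u a σ ρ →
    (∃ n ∈ nor (cl [a, u, v, t, s]), n * t * n⁻¹ ≠ t) → ∃ u a,
      (Nar t v s u a σ ρ ∧ ∃ y ∈ N0 t v s u a, y * t * y⁻¹ = t * (u * a) ∧ y * u = u * y) ∨
      Wid t v s u a σ ρ ∨ Zp t v s u a σ ρ ∨ Zp t s v a u ρ σ

/-- DZ-Zp: `S₈`, `S₉`. -/
def JobZp : Prop :=
  ∀ (G : Type u) [Group G] [Finite G] (t v s u a σ ρ : G), Zp t v s u a σ ρ →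
    SectionalPRankLE 2 4 G

/-- DZ-N: the narrow data. -/
def JobN : Prop :=
  ∀ (G : Type u) [Group G] [Finite G] (t v s u a σ ρ : G), Nar t v s u a σ ρ →
    (∃ y ∈ N0 t v s u a, y * t * y⁻¹ = t * (u * a) ∧ y * u = u * y) →
    ∃ σ ρ y Z k Z' k', N1 t v s u a σ ρ y ∧ SdN t v s u a σ y Z k ∧ SdN t s v a u ρ y Z' k'

/-- DZ-W: the wide data. -/
def JobW : Prop :=
  ∀ (G : Type u) [Group G] [Finite G] (t v s u a σ ρ : G), Wid t v s u a σ ρ → ∃ σ ρ p q k l,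
    WD t v s u a σ ρ p q false false false false 0 0 k l ∨
    WD t v s u a σ ρ p q false false true true 1 1 k l ∨
    WD t v s u a σ ρ p q false true false true 2 3 k l ∨
    WD t s v a u ρ σ q p false true false true 2 3 k l ∨
    WD t v s u a σ ρ p q true true true true 3 3 k l

/-- Narrow, types (E, E). -/
def JobNE : Prop :=
  ∀ (G : Type u) [Group G] [Finite G] (X : Subgroup G) (t v s u a σ ρ y : G) (k k' : Bool), AS X t →
    N1 t v s u a σ ρ y → SdN t v s u a σ y false k → SdN t s v a u ρ y false k' → Out2 X t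

/-- Narrow, type Z. -/
def JobNZ : Prop :=
  ∀ (G : Type u) [Group G] [Finite G] (X : Subgroup G) (t v s u a σ ρ y : G) (k Z' k' : Bool),
    AS X t → N1 t v s u a σ ρ y → SdN t v s u a σ y true k → SdN t s v a u ρ y Z' k' → Out2 X t

def JobWA : Prop :=
  ∀ (G : Type u) [Group G] [Finite G] (X : Subgroup G) (t v s u a σ ρ p q : G) (k l : Bool), AS X t →
    WD t v s u a σ ρ p q false false false false 0 0 k l → Out2 X t

def JobWB : Prop :=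
  ∀ (G : Type u) [Group G] [Finite G] (X : Subgroup G) (t v s u a σ ρ p q : G) (k l : Bool), AS X t →
    WD t v s u a σ ρ p q false false true true 1 1 k l → Out2 X t

def JobWC : Prop :=
  ∀ (G : Type u) [Group G] [Finite G] (X : Subgroup G) (t v s u a σ ρ p q : G) (k l : Bool), AS X t →
    WD t v s u a σ ρ p q false true false true 2 3 k l → Out2 X t

def JobWD : Prop :=
  ∀ (G : Type u) [Group G] [Finite G] (X : Subgroup G) (t v s u a σ ρ p q : G) (k l : Bool), AS X t →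
    WD t v s u a σ ρ p q true true true true 3 3 k l → Out2 X t

/-- The tower with the sharper outcome. -/
def Tower2 : Prop :=
  ∀ (G : Type u) [Group G] [Finite G] (X : Subgroup G) (t v s u a σ ρ : G), AS X t →
    Lc t v s u a σ ρ → Hd t (cl [a, u, v, t, s]) → Out2 X t

/-! ### Symmetry -/

variable {t v s u a σ ρ p q y d : G} {P : Subgroup G}

theorem Dd.swap (h : Dd t v s u a d) : Dd t s v a u d :=
  ⟨h.dt, h.ds, h.dv, h.du, h.da, h.dd, by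
    rw [le_antisymm (cl_mono (l := [u, a, s, t, v, d]) (l' := [a, u, v, t, s, d]) (by simp))
      (cl_mono (by simp))]; exact h.syl, by rw [cl_swap]; exact h.psi⟩

theorem Nd.swap (h : Nd t v s u a P) : Nd t s v a u P :=
  h.imp (by rw [cl_swap]; exact id) fun ⟨d, h1, h2⟩ => ⟨d, h1, h2.swap⟩

theorem lc_swap (h : Lc t v s u a σ ρ) : Lc t s v a u ρ σ := ⟨h.toTr.swap, h.B, h.A⟩

theorem Loc.swap (h : Loc t v s u a σ ρ) : Loc t s v a u ρ σ :=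
  ⟨lc_swap h.toLc, h.top.imp (by rw [cl_swap]; exact id) fun ⟨d, h⟩ => ⟨d, h.swap⟩⟩

theorem Base.swap (h : Base t v s u a σ ρ) : Base t s v a u ρ σ := ⟨h.toLoc.swap, h.na, h.nu⟩

theorem Nar.swap (h : Nar t v s u a σ ρ) : Nar t s v a u ρ σ :=
  ⟨h.toBase.swap, fun g hg => (h.narB g hg).symm, fun g hg => (h.narA g hg).symm⟩

theorem Wid.swap (h : Wid t v s u a σ ρ) : Wid t s v a u ρ σ :=
  ⟨h.toBase.swap, by rw [N0_swap]; exact h.exa, by rw [N0_swap]; exact h.exu⟩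

theorem N1.swap (h : N1 t v s u a σ ρ y) : N1 t s v a u ρ σ y :=
  ⟨h.toNar.swap, h.pres.derive' tbN [(0, [1]), (1, [0]), (2, [4]), (4, [2])]
    (fun i hi => by change i < 6 at hi; interval_cases i <;> wsimp) rfl (by decide +kernel), by
    rw [le_antisymm (cl_mono (l := [u, a, s, t, v, y]) (l' := [a, u, v, t, s, y]) (by simp))
      (cl_mono (by simp))]; exact h.nd.swap⟩

theorem W1.swap {α β γa γu : Bool} (h : W1 t v s u a σ ρ p q α β γa γu) :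
    W1 t s v a u ρ σ q p β α γu γa := by
  have e : ∀ b, W (val [u, a]) (ow b [1, 0]) = W (val [a, u]) (ow b [1, 0]) := fun b => by
    cases b
    · rfl
    · simp [ow, h.au]
  refine ⟨h.toBase.swap, h.pres.derive' _ [(0, [1]), (1, [0]), (2, [4]), (4, [2]), (5, [6]), (6, [5])]
    (fun i hi => by change i < 7 at hi; interval_cases i <;> wsimp) ?_ ?_, by rw [e, h.ρq],
    by rw [e, h.σp], ?_⟩
  · clear e h; revert α β γa γu; decide +kernel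
  · clear e h; revert α β γa γu; decide +kernel
  · rw [le_antisymm (cl_mono (l := [u, a, s, t, v, q, p]) (l' := [a, u, v, t, s, p, q]) (by simp))
      (cl_mono (by simp))]
    exact h.nd.swap

theorem tower2_of (jD : JobD.{u}) (jZ : JobZ.{u}) (jP : JobZp.{u}) (jN : JobN.{u}) (jW : JobW.{u})
    (j3 : JobNE.{u}) (j4 : JobNZ.{u}) (ja : JobWA.{u}) (jb : JobWB.{u}) (jc : JobWC.{u})
    (jd : JobWD.{u}) : Tower2.{u} := by
  intro G _ _ X t v s u a σ ρ hX h hd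
  rcases jD G t v s u a σ ρ h hd with k | ⟨h, hn⟩
  · exact Or.inl (H3.sectionalPRankLE_subgroup k X)
  obtain ⟨u, a, ⟨h, e⟩ | h | h | h⟩ := jZ G t v s u a σ ρ h hn
  · obtain ⟨σ, ρ, y, Z, k, Z', k', h, h1, h2⟩ := jN G t v s u a σ ρ h e
    cases Z
    · cases Z'
      exacts [j3 G X _ _ _ _ _ _ _ _ _ _ hX h h1 h2, j4 G X _ _ _ _ _ _ _ _ _ _ _ hX h.swap h2 h1]
    · exact j4 G X _ _ _ _ _ _ _ _ _ _ _ hX h h1 h2
  · obtain ⟨σ, ρ, p, q, k, l, h | h | h | h | h⟩ := jW G t v s u a σ ρ h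
    exacts [ja G X _ _ _ _ _ _ _ _ _ _ _ hX h, jb G X _ _ _ _ _ _ _ _ _ _ _ hX h,
      jc G X _ _ _ _ _ _ _ _ _ _ _ hX h, jc G X _ _ _ _ _ _ _ _ _ _ _ hX h,
      jd G X _ _ _ _ _ _ _ _ _ _ _ hX h]
  · exact Or.inl (H3.sectionalPRankLE_subgroup (jP G _ _ _ _ _ _ _ h) X)
  · exact Or.inl (H3.sectionalPRankLE_subgroup (jP G _ _ _ _ _ _ _ h) X)

theorem Tower2.tower (h : Tower2.{u}) : Tower.{u} := fun G _ _ X t v s u a σ ρ hX l d =>
  (h G X t v s u a σ ρ hX l d).imp_right (Or.imp_left fun k =>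
    ⟨k.1, k.2.imp_right (Or.imp_right (Or.imp_right And.left))⟩)

end H85.DZ
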