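import Cfsg.Agent.H85.DZKit
import Cfsg.Agent.H85.DZEng
import Cfsg.Agent.H49.D8Kit
import Cfsg.Agent.H92.MW4

/-! DZ: transfer in `G = X ⟨t⟩`, rank criteria, and their forms for the bit engine. -/

set_option autoImplicit false
set_option linter.unusedSectionVars false

namespace H85.DZ

open Subgroup Cfsg H14 H98 H1.Gold H31.S2 H85.FZ H49.D8 H85.En

universe u

variable {G : Type u} [Group G] [Finite G] {t x y y' g : G} {X S U R R' E₈ : Subgroup G}

/-- `U ⊓ S` has index at most `2` in `S`. -/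
def Mu (S : Subgroup G) (U : G → Prop) : Prop := ∀ a ∈ S, ∀ b ∈ S, U (a * b) ↔ (U a ↔ U b)

theorem Mu.hom {U : G → Prop} (h : Mu S U) : ∃ φ : S →* ℤˣ, ∀ a : S, φ a = 1 ↔ U a := by
  classical
  refine ⟨MonoidHom.mk' (fun a => if U a then 1 else -1) fun a b => ?_, fun a => ?_⟩
  · simp only [coe_mul, h _ a.2 _ b.2]
    by_cases ha : U a <;> by_cases hb : U b <;> simp [ha, hb]
  · by_cases ha : U a <;> simp [ha]

theorem hom_triv {X : Type*} [Group X] [IsSimpleGroup X] (hna : ¬ IsMulCommutative X)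
    {B : Type*} [CommGroup B] (f : X →* B) (x : X) : f x = 1 := by
  rcases f.normal_ker.eq_bot_or_eq_top with h | h
  · exact absurd ⟨⟨fun a b => (MonoidHom.ker_eq_bot_iff f).1 h (by
      rw [map_mul, map_mul, mul_comm])⟩⟩ hna
  · exact (h ▸ mem_top x : x ∈ f.ker)

theorem odd_index (hS : IsSyl 2 S ⊤) : Odd S.index := by
  have := hS.not_dvd_relIndex
  rwa [relIndex_top_right, ← even_iff_two_dvd, Nat.not_even_iff_odd] at this

theorem as_mem_or (hX : AS X t) (tt : t * t = 1) (g : G) : g ∈ X ∨ g * t ∈ X := by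
  have := hX.normal
  obtain ⟨a, ha, b, hb, rfl⟩ := mem_sup_of_normal_left.1 (hX.sup ▸ mem_top g : g ∈ X ⊔ zpowers t)
  rcases (H85.mem_zpowers_of_sq tt).1 hb with rfl | rfl
  · exact Or.inl (by simpa using ha)
  · exact Or.inr (by simpa [mul_assoc, tt] using ha)

theorem as_hom (hX : AS X t) (f : G →* ℤˣ) (hx : x ∈ X) : f x = 1 := by
  have := hX.simple
  exact hom_triv hX.nab (f.comp X.subtype) ⟨x, hx⟩

/-- A nontrivial sign character has the kernel `X`. -/
theorem as_ker (hX : AS X t) (tt : t * t = 1) (f : G →* ℤˣ) (hy : f y ≠ 1) (g : G) :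
    f g = 1 ↔ g ∈ X := by
  have ft : f t ≠ 1 := fun e => (as_mem_or hX tt y).elim (fun k => hy (as_hom hX f k)) fun k => hy (by
    simpa [e] using as_hom hX f k)
  refine ⟨fun e => (as_mem_or hX tt g).resolve_right fun k => ft ?_, as_hom hX f⟩
  simpa [e] using as_hom hX f k

theorem as_mul (hX : AS X t) (tt : t * t = 1) (a b : G) : a * b ∈ X ↔ (a ∈ X ↔ b ∈ X) := by
  have := hX.normal
  by_cases ha : a ∈ X
  · simp [ha, mul_mem_cancel_left ha]
  by_cases hb : b ∈ X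
  · simp [ha, hb, mul_mem_cancel_right hb]
  refine iff_of_true ?_ (by simp [ha, hb])
  have := mul_mem ((as_mem_or hX tt a).resolve_left ha)
    (this.mem_comm ((as_mem_or hX tt b).resolve_left hb))
  rwa [mul_assoc, ← mul_assoc t, tt, one_mul] at this

theorem as_conj (hX : AS X t) (h : IsConj x y) : x ∈ X ↔ y ∈ X := by
  obtain ⟨c, rfl⟩ := isConj_iff.1 h
  exact ⟨fun k => hX.normal.conj_mem _ k c, fun k => by simpa [mul_assoc] using hX.normal.conj_mem _ k c⁻¹⟩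

theorem as_top (hX : AS X t) (ht : t ∈ X) : X = ⊤ := by
  rw [← hX.sup, sup_eq_left.2 (zpowers_le.2 ht)]

theorem as_out (hX : AS X t) (hy : y ∉ X) : t ∉ X := fun e => hy (as_top hX e ▸ mem_top y)

theorem as_syl (hX : AS X t) (hS : IsSyl 2 S ⊤) : IsSyl 2 (S ⊓ X) X :=
  have := hX.normal
  hS.inf_of_le_normalizer le_top (le_top.trans (normalizer_eq_top _).ge)

/-- The value of the transfer at an involution `y`, tested on a `2`-subgroup `R` of `C(y)`. -/
theorem tr_val (hS : IsSyl 2 S ⊤) (φ : S →* ℤˣ) (α : ℤˣ) (yy : y * y = 1) (hR : IsPGroup 2 R)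
    (yR : y ∈ R) (Ry : R ≤ cen1 y)
    (h : ∀ g, cj g R ≤ S → ∀ e : g * y * g⁻¹ ∈ S, φ ⟨_, e⟩ = α) : φ.transfer y = α :=
  H92.MW.transfer_ext (odd_index hS) hR yR yy (fun _ ht => mem_cen1.1 (Ry ht)) φ α
    (Int.units_mul_self α) fun g k e => h g (fun z hz => by
      simpa [H92.MW.cn, mul_assoc] using k _ (mem_cj.1 hz)) e

/-- (TR) If no extremal conjugate of `y` lies in `U`, then `y ∉ X`. -/
theorem tr_out {U : G → Prop} (hX : AS X t) (hS : IsSyl 2 S ⊤) (hU : Mu S U) (yy : y * y = 1)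
    (hR : IsPGroup 2 R) (yR : y ∈ R) (Ry : R ≤ cen1 y)
    (h : ∀ g, cj g R ≤ S → ¬ U (g * y * g⁻¹)) : y ∉ X := fun k => by
  obtain ⟨φ, hφ⟩ := hU.hom
  have := tr_val hS φ (-1) yy hR yR Ry fun g k e =>
    (Int.units_eq_one_or _).resolve_left fun e' => h g k ((hφ _).1 e')
  rw [as_hom hX _ k] at this
  exact absurd this (by decide)

/-- (TR2) With the same `U`: if all extremal conjugates of `y'` lie in `U`, then `y' ∈ X`. -/
theorem tr_in {U : G → Prop} (hX : AS X t) (tt : t * t = 1) (hS : IsSyl 2 S ⊤) (hU : Mu S U)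
    (yy : y * y = 1) (hR : IsPGroup 2 R) (yR : y ∈ R) (Ry : R ≤ cen1 y)
    (h : ∀ g, cj g R ≤ S → ¬ U (g * y * g⁻¹)) (yy' : y' * y' = 1) (hR' : IsPGroup 2 R')
    (yR' : y' ∈ R') (Ry' : R' ≤ cen1 y') (h' : ∀ g, cj g R' ≤ S → U (g * y' * g⁻¹)) : y' ∈ X := by
  obtain ⟨φ, hφ⟩ := hU.hom
  have := tr_val hS φ (-1) yy hR yR Ry fun g k e =>
    (Int.units_eq_one_or _).resolve_left fun e' => h g k ((hφ _).1 e')
  exact (as_ker hX tt _ (by rw [this]; decide) y').1
    (tr_val hS φ 1 yy' hR' yR' Ry' fun g k e => (hφ _).2 (h' g k))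

/-- (TRX) Transfer in `X`. -/
theorem tr_X {U : G → Prop} (hX : AS X t) (hS : IsSyl 2 S ⊤) (hU : Mu (S ⊓ X) U) (yy : y * y = 1)
    (hR : IsPGroup 2 R) (yR : y ∈ R) (Ry : R ≤ cen1 y) (RX : R ≤ X) :
    ∃ g ∈ X, cj g R ≤ S ∧ U (g * y * g⁻¹) := by
  by_contra! h
  have := hX.simple
  obtain ⟨φ, hφ⟩ := Mu.hom (S := (S ⊓ X).subgroupOf X) (U := fun a => U a) fun a ha b hb => hU _ ha _ hb
  have := tr_val (as_syl hX hS).subgroupOf_top φ (-1) (y := ⟨y, RX yR⟩) (Subtype.ext yy)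
    (isPGroup_subgroupOf hR X) yR (fun z hz => mem_cen1.2 (Subtype.ext (mem_cen1.1 (Ry hz))))
    fun g k e => (Int.units_eq_one_or _).resolve_left fun e' => h g g.2 (fun z hz => by
      have m := mem_cj.1 hz
      have : (g * ⟨_, RX m⟩ * g⁻¹ : X) ∈ _ := k (conj_mem_cj (H := R.subgroupOf X) m)
      simpa [mul_assoc] using (mem_subgroupOf.1 this).1) ((hφ _).1 e')
  rw [hom_triv hX.nab] at this
  exact absurd this (by decide)

/-- A self-centralizing `E₈` in a Sylow subgroup of `X`. -/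
theorem sr8X (hX : AS X t) (hS : IsSyl 2 S ⊤) (hE : E₈ ≤ S ⊓ X) (h2 : ∀ e ∈ E₈, e * e = 1)
    (h8 : Nat.card E₈ = 8) (hC : S ⊓ X ⊓ cen E₈ ≤ E₈) : SectionalPRankLE 2 4 X :=
  sce8 (as_syl hX hS).subgroupOf_top (E := E₈.subgroupOf X) (fun _ h => hE h)
    (fun e he => Subtype.ext (h2 e he))
    (by rw [← h8]; exact Nat.card_congr (subgroupOfEquivOfLe (hE.trans inf_le_right)).toEquiv)
    fun a ha => hC ⟨ha.1, mem_cen_iff.2 fun e he => congrArg Subtype.val
      (mem_cen_iff.1 ha.2 ⟨e, (hE he).2⟩ he)⟩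

/-! ### Forms for the engine -/

/-- The parity of the number of common bits. -/
def par (b c : ℕ) : Bool := force (Nat.land b c) fun y => force (Nat.xor y (Nat.shiftRight y 8)) fun y =>
  force (Nat.xor y (Nat.shiftRight y 4)) fun y => force (Nat.xor y (Nat.shiftRight y 2)) fun y =>
    Nat.beq (Nat.land (Nat.xor y (Nat.shiftRight y 1)) 1) 1

/-- `φ` is a homomorphism to `Bool`. -/
def muOK (L : List ℕ) (n : ℕ) (φ : ℕ → Bool) : Bool :=
  !φ 0 && (List.range n).all fun r => force (L.getD r 0) fun t =>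
    allB n fun c => φ (lk t c) == (φ c ^^ φ (2 ^ r))

/-- The list of the eight products. -/
def e8 (L : List ℕ) (a b c : ℕ) : List ℕ :=
  [0, a, b, mul L a b, c, mul L a c, mul L b c, mul L a (mul L b c)]

def cm (L : List ℕ) (a b : ℕ) : Bool := Nat.beq (mul L a b) (mul L b a)

/-- `⟨a, b, c⟩` is an `E₈` that is self-centralizing in the kernel of `φ`. -/
def e8OK (L : List ℕ) (n : ℕ) (φ : ℕ → Bool) (a b c : ℕ) : Bool :=
  [a, b, c].all (fun e => decide (e < 2 ^ n) && !φ e && Nat.beq (mul L e e) 0) && cm L a b && cm L a c &&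
    cm L b c && forceL (e8 L a b c) fun l => decide l.Nodup &&
      allB n fun g => φ g || !(cm L g a && cm L g b && cm L g c) || mem g l

variable {T : Tb} {L : List ℕ} {z : ℕ → G} (M : Md T L z) {φ : ℕ → Bool} {c d : ℕ}
include M

theorem cm_iff (hc : c < 2 ^ T.n) (hd : d < 2 ^ T.n) :
    cm L c d = true ↔ E z T.n c * E z T.n d = E z T.n d * E z T.n c := M.eq_iff hd hc

theorem mu_mul (h : muOK L T.n φ = true) (hc : c < 2 ^ T.n) (hd : d < 2 ^ T.n) :
    φ (mul L c d) = (φ c ^^ φ d) := by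
  simp only [muOK, Bool.and_eq_true, Bool.not_eq_true', List.all_eq_true, List.mem_range, force_eq,
    allB_iff, beq_iff_eq] at h
  have key : ∀ k ≤ T.n, ∀ c < 2 ^ k, φ (mul L c d) = (φ c ^^ φ d) := fun k hk => by
    induction k with
    | zero =>
      intro c hc
      obtain rfl : c = 0 := by omega
      rw [(M.inj (M.mul_lt 0 hd) hd).1 (by rw [M.E_mul _ hd, E_zero, one_mul]), h.1, Bool.false_xor]
    | succ k ih =>
      intro c hc
      rcases split hc with l | ⟨c, l, rfl⟩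
      · exact ih (by omega) c l
      have l' : c < 2 ^ T.n := l.trans_le (Nat.pow_le_pow_right two_pos (by omega))
      have l2 : 2 ^ k + c < 2 ^ T.n := hc.trans_le (Nat.pow_le_pow_right two_pos hk)
      have e : E z T.n (2 ^ k + c) = z k * E z T.n c := by
        rw [E_mono z hc hk, E_hi z l, E_mono z (n := T.n) l (by omega)]
      have m1 := M.lk k hk c l'
      have m2 := M.lk k hk _ (M.mul_lt c hd)
      rw [(M.inj (M.mul_lt _ hd) m2.1).1 (by rw [m2.2, M.E_mul _ hd, M.E_mul _ hd, e, mul_assoc]),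
        (M.inj l2 m1.1).1 (by rw [m1.2, e]), h.2 k hk _ (M.mul_lt c hd), h.2 k hk c l',
        ih (by omega) c l]
      cases φ c <;> cases φ d <;> cases φ (2 ^ k) <;> rfl
  exact key _ le_rfl c hc

/-- The kernel of `φ` as a predicate on `G`. -/
theorem mu (h : muOK L T.n φ = true) : ∃ U : G → Prop, Mu (H z T.n) U ∧
    ∀ c < 2 ^ T.n, U (E z T.n c) ↔ φ c = false := by
  have k : ∀ c < 2 ^ T.n, (∃ d < 2 ^ T.n, E z T.n c = E z T.n d ∧ φ d = false) ↔ φ c = false :=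
    fun c hc => ⟨fun ⟨d, hd, e, k⟩ => (M.inj hc hd).1 e ▸ k, fun k => ⟨c, hc, rfl, k⟩⟩
  refine ⟨fun g => ∃ d < 2 ^ T.n, g = E z T.n d ∧ φ d = false, fun a ha b hb => ?_, k⟩
  obtain ⟨c, hc, rfl⟩ := M.surj ha
  obtain ⟨d, hd, rfl⟩ := M.surj hb
  rw [← M.E_mul _ hd]
  simp only [k _ (M.mul_lt c hd), k c hc, k d hd, mu_mul M h hc hd]
  cases φ c <;> cases φ d <;> simp

/-- `X` is read off from the letters. -/
theorem memX (hX : AS X t) (tt : t * t = 1) (h : muOK L T.n φ = true)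
    (hl : ∀ r < T.n, z r ∈ X ↔ φ (2 ^ r) = false) (hc : c < 2 ^ T.n) :
    E z T.n c ∈ X ↔ φ c = false := by
  obtain ⟨U, h1, h2⟩ := mu M h
  rw [← h2 c hc]
  have key : ∀ k ≤ T.n, E z k c ∈ X ↔ U (E z k c) := fun k hk => by
    induction k with
    | zero => simpa [E] using (h1 1 (one_mem _) 1 (one_mem _))
    | succ k ih =>
      rw [E]
      split_ifs
      · rw [as_mul hX tt, h1 _ (x_mem hk) _ (H_mono (by omega) (E_mem z k c)), ih (by omega), hl k hk,
          ← h2 _ (Nat.pow_lt_pow_right one_lt_two hk), E_pow z hk]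
      · exact ih (by omega)
  exact key _ le_rfl

/-- The rank criterion for a Sylow subgroup `S ≥ H z n` whose elements that centralize `⟨a, b, c⟩` and
lie in `X` are in `H z n`. -/
theorem sr8 (hX : AS X t) (hS : IsSyl 2 S ⊤) (le : H z T.n ≤ S)
    (hφ : ∀ c < 2 ^ T.n, E z T.n c ∈ X ↔ φ c = false) {a b c : ℕ} (h : e8OK L T.n φ a b c = true)
    (hC : ∀ g ∈ S ⊓ X, g ∈ cen1 (E z T.n a) → g ∈ cen1 (E z T.n b) → g ∈ cen1 (E z T.n c) →
      g ∈ H z T.n) : SectionalPRankLE 2 4 X := by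
  classical
  simp only [e8OK, Bool.and_eq_true, List.all_cons, List.all_nil, decide_eq_true_eq, forceL_eq,
    Bool.not_eq_true', allB_iff, Bool.or_eq_true, mem_iff, and_true] at h
  obtain ⟨⟨⟨⟨⟨⟨⟨a1, a2⟩, a3⟩, ⟨⟨b1, b2⟩, b3⟩, ⟨c1, c2⟩, c3⟩, ab⟩, ac⟩, bc⟩, nd, h⟩ := h
  rw [M.sq_iff ‹_›] at a3 b3 c3
  rw [cm_iff M ‹_› ‹_›] at ab ac bc
  have P : Pres (.of 3 []) (val [E z T.n c, E z T.n b, E z T.n a]) := by
    refine ⟨fun i hi j hj => ?_, fun i hi => ?_⟩ <;> change i < 3 at hi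
    · interval_cases i <;> interval_cases j <;> wsimp
      exacts [bc.symm, ac.symm, ab.symm]
    · interval_cases i <;> wsimp
      exacts [c3, b3, a3]
  have lt : ∀ e ∈ e8 L a b c, e < 2 ^ T.n ∧ E z T.n e ∈ cl [E z T.n c, E z T.n b, E z T.n a] := by
    have ma : E z T.n a ∈ cl [E z T.n c, E z T.n b, E z T.n a] := mem_cl (by simp)
    have mb : E z T.n b ∈ cl [E z T.n c, E z T.n b, E z T.n a] := mem_cl (by simp)
    have mc : E z T.n c ∈ cl [E z T.n c, E z T.n b, E z T.n a] := mem_cl (by simp)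
    simp only [e8, List.mem_cons, List.not_mem_nil, or_false, forall_eq_or_imp, forall_eq,
      M.E_mul _ b1, M.E_mul _ c1, M.E_mul _ (M.mul_lt b c1), E_zero]
    exact ⟨⟨Nat.two_pow_pos _, one_mem _⟩, ⟨a1, ma⟩, ⟨b1, mb⟩, ⟨M.mul_lt _ b1, mul_mem ma mb⟩, ⟨c1, mc⟩,
      ⟨M.mul_lt _ c1, mul_mem ma mc⟩, ⟨M.mul_lt _ c1, mul_mem mb mc⟩,
      M.mul_lt _ (M.mul_lt _ c1), mul_mem ma (mul_mem mb mc)⟩
  have EH : cl [E z T.n c, E z T.n b, E z T.n a] ≤ H z T.n ⊓ X := cl_le.2 (by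
    simp [E_mem, hφ _ a1, hφ _ b1, hφ _ c1, a2, b2, c2])
  refine sr8X hX hS (EH.trans (inf_le_inf_right _ le)) (fun e he => ?_) (le_antisymm ?_ ?_)
    fun g hg => ?_
  · obtain ⟨w, hw, rfl⟩ := P.mem_cl rfl 3 le_rfl he
    rw [← W_append]
    exact P.W_eq (w' := []) ((by decide : ∀ w ∈ subs 3, (Tb.of 3 []).same (w ++ w) [] = true) w hw)
  · have := P.card_dvd rfl (k := 3) le_rfl
    rw [H_val] at this
    exact Nat.le_of_dvd (by decide) this
  · have : ((e8 L a b c).toFinset.image (E z T.n) : Set G) ⊆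
        cl [E z T.n c, E z T.n b, E z T.n a] := fun g hg => by
      obtain ⟨e, he, rfl⟩ := Finset.mem_image.1 hg
      exact (lt e (List.mem_toFinset.1 he)).2
    have := Set.ncard_le_ncard this
    rwa [Set.ncard_coe_finset, Finset.card_image_of_injOn fun e he f hf k => (M.inj
      (lt e (List.mem_toFinset.1 he)).1 (lt f (List.mem_toFinset.1 hf)).1).1 k,
      List.toFinset_card_of_nodup nd] at this
  · have k := mem_cen_iff.1 hg.2
    have ka := k (E z T.n a) (mem_cl (by simp))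
    have kb := k (E z T.n b) (mem_cl (by simp))
    have kc := k (E z T.n c) (mem_cl (by simp))
    obtain ⟨e, he, rfl⟩ := M.surj (hC g hg.1 (mem_cen1.2 ka) (mem_cen1.2 kb) (mem_cen1.2 kc))
    rcases h e he with (k1 | k1) | k1
    · rw [(hφ e he).1 hg.1.2] at k1; exact absurd k1 (by decide)
    · rw [(cm_iff M he a1).2 ka, (cm_iff M he b1).2 kb, (cm_iff M he c1).2 kc] at k1
      exact absurd k1 (by decide)
    · exact (lt e k1).2

end H85.DZ
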