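import Cfsg.Agent.H85.DZFu

/-! DZ, branch WB with `d`: the computations (definitions). -/

set_option autoImplicit false

namespace H85.DZ.WB

open H85.FZ H85.En

def T1 : Tb := tbW false false true true
def fX (k : Bool) : List (ℕ × List ℕ) := swp swW (fY 1 k)
def fσ (k : Bool) : List (ℕ × List ℕ) := sg ++ [(6, [7]), (7, 7 :: eY 1 k)]
def fρ : List (ℕ × List ℕ) := [(1, [4, 0]), (4, [4, 0, 1])]
def fp (k b : Bool) : List (ℕ × List ℕ) := (5, 6 :: (ow b [1] ++ ow (k ^^ b) [0])) :: fd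
def T2 (k : Bool) : Tb := T1.ext (fY 1 k)
def i8 (k b j : Bool) : List ℕ := [2, 1, 4, 111 - k.toNat, 119 - k.toNat, 36 + 3 * b.toNat,
  71 - 3 * (k ^^ b).toNat, 128 + 3 * j.toNat]
def T3 (k b j : Bool) : Tb := xt (T2 k) (i8 k b j) 0
def i9 (k b i j : Bool) : List ℕ := [5, 6, 4, 171 + 2 * k.toNat,
  464 + (i ^^ j ^^ !k).toNat + 2 * j.toNat + 4 * i.toNat, 39 - 4 * b.toNat, 64 + 4 * (k ^^ b).toNat,
  131 + 4 * (k ^^ b).toNat, 256 + 7 * (k ^^ !i).toNat]
def T4 (k b i j : Bool) : Tb := xt (T3 k b (!(k ^^ b))) (i9 k b i j) 0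
def eX (k : Bool) : Mv := forceL (mk T1) fun L => acM L (List.range 7) (fX k)
def eσ (k : Bool) : Mv := forceL (mk (T2 k)) fun L => acM L [0, 1, 2, 3, 5, 6, 7] (fσ k)

/-- Extension by an involution `g`, where `g⁻¹` acts as `e`. -/
def stp (L : List ℕ) (T : Tb) (e : Mv) (ok : List ℕ → Bool) : Bool :=
  fM e fun e => (allB T.n fun b => (lts T.n).any fun c =>
    tb e.1 c && !Nat.beq (mul L c b) (mul L b (lk e.2 c))) &&
  (axs L T e []).all fun im => forceL im fun im => !qOK L T.n im (im.map (hom L im)) 0 || ok im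

/-- The letters `< k` normalize the subgroup with the mask `K` and the generators `cs`. -/
def nrg (L : List ℕ) (n k K : ℕ) (cs : List ℕ) : Bool := force K fun K =>
  (lts k).all fun r => cs.all fun c => tb K (cjc L n r c)

def sw : List (Bool × List At) := [(true, []), (true, [.ne [1] [2]]), (true, [.eq [0, 0] [1]]),
  (true, [.ne [0, 0] [], .ne [0, 0] [1], .ne [0, 0] [2], .ne [0, 0] [1, 2], .eq [0, 0, 0, 0] []])]

def tA (L : List ℕ) (n : ℕ) (C : List Cl) (P : List ℕ) (D : Mv) (y : ℕ) : Bool :=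
  par 224 y && swp' L n [D] C y 3 3 sw && muOK L n (par 224) &&
  fM (fz C P (seed C [3]) 3, clo1 C y) fun Z =>
    xtc L n [Z, D] C (ful n) y [[], [.la 0 false [1]], [.la 1 false [0]]] (par 224) &&
    xtc L n [Z, D] C (ful n) 25 [[.la 1 true [1]]] (!par 224 ·)

def tB (L : List ℕ) (n : ℕ) (C : List Cl) (P : List ℕ) (D X : Mv) : Bool :=
  prOK L n [D] C 8 25 256 (msk ((List.range 32).map (lk X.2))) && (List.range 32).all (tb X.1) &&
  force (fz C P (ncj L n [D] C 256 0 0 [[], [.la 0 false [0]]]) 3) fun N => force (mul L 256 128) fun c =>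
  forceL [1, 2, 4, 16, 32, 64, c] fun cs => force (gm L cs) fun K => fM (inrM L n 512) fun E =>
  fM (inrM L n 8) fun t => nrg L n 9 (ful 7) (lts 7) && clo L n cs && nrg L n n K cs &&
    tb X.1 (mul L c c) && fus L 9 (cjM n X (inrM L n c)) (lts 7) fun b =>
      !Nat.beq (mul L b b) (lk X.2 (mul L c c)) ||
        fus L n (cjM n (wM n [adM L n X c b, E, t] K [0, 1, 0, 2, 1, 0]) E) cs fun b => !invo L b || tb N b

def lv10 (k : Bool) (L : List ℕ) : Bool := fM (eX k) fun X => withC L 10 fun C =>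
  forceL (prs C 10 [adM L 10 (eσ k) 256 512, X, acM L [0, 1, 3, 4] fρ]) fun P =>
  force (fz C P (seed C [8]) 3) fun D => force (fz C P (ncj L 10 [] C 25 (msk (flt 10 (!invo L ·))) D [[]]) 3) fun N =>
    Nat.beq (czl L 10 25).length 64 && sylOK L 10 [(D, N)] C 25 [(true, []), (true, [.la 0 true [1]])] &&
    ((C.any fun e => Nat.beq e.2.2.length 256 && tA L 10 C P (D, N) e.1) || tB L 10 C P (D, N) X)

def ch : List (List ℕ) := [[4, 3], [1, 2, 4], [1, 2, 4, 96, 160]]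
def RA : List ℕ := [1, 2, 4, 8, 32, 64, 128]

def lv9 (k b j : Bool) (L : List ℕ) : Bool := fM (eσ k) fun σ =>
  ch.all (clo L 9) && clo L 9 RA && forceL (ch.map (gm L)) fun Ks => force (gm L RA) fun K =>
  Nat.beq (Nat.land K σ.1) σ.1 && lfOK L 9 σ (Ks ++ [K]) && fM (inrM L 9 256) fun d =>
  trv L 9 d 1 (Ks ++ [K]) && fM (cjM 9 σ d) fun e => actOK L 9 e [1, 2, 4, 8] &&
    stp L (T3 k b j) (invM 9 e) fun im => (j == !(k ^^ b)) &&
      [false, true].any fun i => [false, true].any fun j => im == i9 k b i j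

def lv8 (k b : Bool) (d : Mv) (L : List ℕ) : Bool :=
  actOK L 8 d [1, 2, 4, 8] && stp L (T2 k) (invM 8 d) fun im => [false, true].any fun j => im == i8 k b j

def lv7 (k b sq : Bool) (L : List ℕ) : Bool :=
  fM (acM L (List.range 7) (fY 1 k)) fun Y => fM (eX k) fun X =>
  tb X.1 8 && Nat.beq (lk X.2 8) 25 &&
  (axs L T1 (acM L (List.range 6) (fp k b)) []).all fun im => fM (imM L 7 im) fun d =>
    fM (cmpM 7 d d) fun dd => fM (cmpM 7 Y (cjM 7 d X)) fun h =>
    (lts 7).all (tb dd.1) && (lts 7).all (tb h.1) && nrm 7 h (ful 5) && nrm 7 h (ful 4) &&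
    Nat.beq (lk h.2 8) 8 && (!agr L dd (lts 7) (bif sq then 8 else 0) || !innM L 5 h (lts 7) ||
      !sq && fM (cjM 7 X d) fun d => fM (cmpM 7 Y d) fun c => innM L 7 (cmpM 7 c c) (lts 7) &&
        run (T2 k) (lv8 k b d))

/-- `d p d⁻¹ ∈ q ⟨a, u⟩`. -/
def lv0 (L : List ℕ) : Bool :=
  (axs L T1 (acM L (List.range 5) fd) []).all fun im => mem (im.getD 5 0) [64, 65, 66, 67]

end H85.DZ.WB
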