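import Cfsg.Agent.H85.DZWBd
import Cfsg.Agent.H30.DZL

/-! DZ, branch WB with `d`: the analysis of the Sylow subgroup of order `1024`. -/

set_option autoImplicit false
set_option linter.unusedSectionVars false

namespace H85.DZ.WB

open Subgroup Cfsg H14 H98 H1.Gold H31.S2 H85.FZ H85.En H49.D8

universe u

/-- `decide` after projections. -/
scoped macro "dz" : term => `(by first | decide | (dsimp only; decide) | rfl)

variable {G : Type u} [Group G] [Finite G] {T : Tb} {L : List ℕ} {x x' : ℕ → G} {g y : G} {e : Mv}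
  {n k K : ℕ} {t v s u a σ ρ : G} {X₀ P : Subgroup G}

theorem E_fun (h : ∀ i < k, x' i = x i) (c : ℕ) : E x' k c = E x k c := by
  induction k with
  | zero => rfl
  | succ k ih => rw [E, E, ih fun i hi => h i (by omega), h k k.lt_succ_self]

theorem ap_fun (A : Ap x k g e) (h : ∀ i < k, x' i = x i) (hk : k ≤ n) : Ap x' n g e := fun c hc => by
  obtain ⟨h1, h2, h3⟩ := A c hc
  have := Nat.pow_le_pow_right two_pos hk
  exact ⟨by omega, by omega, by rw [E_mono x' h1 hk, E_mono x' h2 hk, E_fun h, E_fun h, h3]⟩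

theorem ap_cen (A : Ap x n g e) (hc : y ∈ cen (H x n)) : Ap x n (y * g) e := fun c k => by
  obtain ⟨h1, h2, h3⟩ := A c k
  refine ⟨h1, h2, ?_⟩
  rw [mul_inv_rev, ← mul_assoc, eq_mul_inv_iff_mul_eq, ← mem_cen_iff.1 hc _ (E_mem _ _ _), h3]; group

theorem two_cj (hP : IsPGroup 2 P) (hy : y ∈ P) (g : G) : IsPGroup 2 (zpowers (g * y * g⁻¹)) :=
  (isPGroup_cj g hP).to_le (zpowers_le.2 (conj_mem_cj hy))

theorem cl_lts (hk : k ≤ n) : cl ((lts k).map (E x n)) = H x k :=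
  le_antisymm (cl_le.2 fun y hy => by
    obtain ⟨c, hc, rfl⟩ := List.mem_map.1 hy
    obtain ⟨r, hr, rfl⟩ := mem_lts.1 hc
    rw [E_pow x (by omega)]; exact x_mem hr) (H_le fun r hr =>
    mem_cl (List.mem_map.2 ⟨_, mem_lts.2 ⟨r, hr, rfl⟩, E_pow x (by omega)⟩))

theorem nrg_spec (M : Md T L x) {cs : List ℕ} (h : Sg x T.n K (cl (cs.map (E x T.n)))) (hk : k ≤ T.n)
    (e : nrg L T.n k K cs = true) : H x k ≤ nor (cl (cs.map (E x T.n))) := H_le fun r hr =>
  mem_normalizer_fintype fun y hy => (cl_le (K := (cl (cs.map (E x T.n))).comap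
    (MulAut.conj (x r)).toMonoidHom)).2 (fun z hz => by
      obtain ⟨c, hc, rfl⟩ := List.mem_map.1 hz
      simp only [nrg, force_eq, List.all_eq_true] at e
      have l := M.cjc_spec (Nat.pow_lt_pow_right one_lt_two (show r < T.n by omega)) c
      have := (h.iff _ l.1).1 (e _ (mem_lts.2 ⟨r, hr, rfl⟩) c hc)
      rwa [l.2, E_pow x (by omega)] at this) hy

theorem nin (M : Md T L x) (h1 : y * y = 1) (h2 : y ≠ 1) :
    Sat x T.n (¬ IsConj y ·) (msk (flt T.n (!invo L ·))) := fun c hc e k => by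
  obtain ⟨g, k⟩ := isConj_iff.1 k
  have := (mem_flt.1 (tb_msk.1 e)).2
  rw [(M.invo_iff hc).2 ⟨by rw [← k, conj_mul, h1]; simp, by rwa [← k, ne_eq, conj_eq_one_iff]⟩] at this
  exact Bool.noConfusion this

theorem stp_spec (M : Md T L x) (A : Ap x T.n g⁻¹ e) (hg : g ∈ nor (H x T.n)) (gg : g * g = 1)
    {ok : List ℕ → Bool} (h : stp L T e ok = true) :
    ∃ im, ok im = true ∧ Pres (xt T im 0) (ext x T.n g) ∧ Ind (ext x T.n g) (T.n + 1) := by
  simp only [stp, fM_eq, Bool.and_eq_true, allB_iff, List.any_eq_true, List.all_eq_true, forceL_eq,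
    Bool.or_eq_true, Bool.not_eq_true'] at h
  obtain ⟨im, h1, h2, h3⟩ := M.axs_spec A (inv_mem hg) []
  have k : ∀ c, hom L im c < 2 ^ T.n ∧ E x T.n (hom L im c) = g⁻¹ * E x T.n c * g⁻¹⁻¹ := fun c => by
    have := M.hom (y := fun i => g⁻¹ * x i * g⁻¹⁻¹) (im := im) c fun r hr _ => (h3 r (h2 ▸ hr)).2
    rwa [E_conj, h2] at this
  have o : qOK L T.n im (im.map (hom L im)) 0 = true := by
    simp only [qOK, force_eq, Bool.and_eq_true, List.all_eq_true, List.mem_range]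
    refine ⟨fun r hr => ?_, Nat.beq_eq ▸ (M.inj (k 0).1 (by positivity)).1 (by rw [(k 0).2]; simp)⟩
    rw [show (im.map (hom L im)).getD r 0 = hom L im (im.getD r 0) by simp [h2, hr],
      M.eq_iff (k _).1 (by positivity), (k _).2, (h3 r hr).2, E_pow x hr, E_zero,
      inv_eq_of_mul_eq_one_right gg, inv_eq_of_mul_eq_one_right gg]
    simp [← mul_assoc, gg, mul_assoc _ g g]
  refine ⟨im, (h.2 im h1).resolve_left (by simp [o]), M.P.ext M.wf (fun i hi => ?_)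
    (by rw [(W_wd x _ _).1, E_zero, gg]) ?_, M.I.ext fun hb' => ?_⟩
  · have hi := List.mem_range.1 hi
    rw [app_range hi, (W_wd x _ _).1, (h3 i hi).2]
  · simp only [Bool.and_eq_true, List.all_eq_true, List.mem_range]
    exact ⟨fun i hi => by rw [app_range hi]; exact List.all_eq_true.1 (W_wd x _ _).2,
      List.all_eq_true.1 (W_wd x _ _).2⟩
  · obtain ⟨b, hb, e'⟩ := M.surj hb'
    subst e'
    obtain ⟨c, -, c1, c2⟩ := h.1 b hb
    rw [(M.eq_iff hb (A c c1).2.1).2 (by rw [(A c c1).2.2]; group)] at c2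
    exact Bool.noConfusion c2

theorem clA {l : List G} (hn : 4 ≤ n) :
    cl ([1, 2, 4, 8].map (E (val (a :: u :: v :: t :: l)) n)) = cl [a, u, v, t] :=
  (cl_lts (k := 4) hn).trans (H_val _ 4)

theorem scA (h : Lc t v s u a σ ρ) {l : List G} (hn : 4 ≤ n) (hP : IsPGroup 2 P) :
    ∀ y ∈ P, y ∈ cen (cl ([1, 2, 4, 8].map (E (val (a :: u :: v :: t :: l)) n))) →
      y ∈ H (val (a :: u :: v :: t :: l)) n := fun y h1 h2 =>
  H_mono hn ((H_val (a :: u :: v :: t :: l) 4).ge (ca2m h hP h1 (by rwa [clA hn] at h2)))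

theorem tA_spec (hX : AS X₀ t) (tt : t * t = 1) (M : Md T L x) {C : List Cl} {P : List ℕ} {D : Mv} {y : ℕ}
    (r : Rc x T.n C) (hP : Prs x T.n P) (B : Lab x T.n [IsConj t] [D]) (hS : IsSyl 2 (H x T.n) ⊤)
    (c : IsConj t (E x T.n 25)) (h : tA L T.n C P D y = true) : False := by
  simp only [tA, fM_eq, Bool.and_eq_true] at h
  obtain ⟨⟨⟨-, h1⟩, h2⟩, h3, h4⟩ := h
  have B' := B.cons (iv_conj _) (r.fz (iv_conj _) hP (r.seed (R := [3]) (iv_conj (E x T.n 3))
    fun _ e => List.mem_singleton.1 e ▸ .refl _) 3) (r.sat1 (iv_conj _).not fun k => M.swp_spec B r hS h1 k.symm)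
  exact as_out hX (M.trOut hX B' r hS h2 (M.sgH le_rfl) h3) ((as_conj hX c).2
    (M.trIn hX tt B' r hS h2 (M.sgH le_rfl) h3 (M.sgH le_rfl) h4))

theorem l10 (hX : AS X₀ t) (h : Base t v s u a σ ρ) {p q Y d d' X σ' : G} {k : Bool} (hn : T.n = 10)
    (M : Md T L (val [a, u, v, t, s, p, q, Y, d, d']))
    (AX : Ap (val [a, u, v, t, s, p, q, Y, d, d']) 7 X (eX k))
    (Aσ : Ap (val [a, u, v, t, s, p, q, Y, d, d']) 10 σ' (eσ k)) (ed : d' = σ' * d * σ'⁻¹)
    (e0 : E (val [a, u, v, t, s, p, q, Y, d, d']) 10 25 = X * t * X⁻¹)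
    (N : Nt t (cl [a, u, v, t, s]) (X * t * X⁻¹) d) (key : lv10 k L = true) : False := by
  obtain ⟨n, cj', sq'⟩ := T
  obtain rfl : n = 10 := hn
  have e5 : H (val [a, u, v, t, s, p, q, Y, d, d']) 5 = cl [a, u, v, t, s] := H_val _ 5
  have Aρ : Act (val [a, u, v, t, s, p, q, Y, d, d']) ρ [0, 1, 3, 4] fρ := by
    simp only [Act, fρ, List.mem_cons, List.not_mem_nil, or_false, forall_eq_or_imp, forall_eq]
    wsimp
    exact ⟨h.B.σu, h.B.σa, h.B.σt, h.B.σv⟩
  have sc := fun R (h1 : R ≤ cen (H (val [a, u, v, t, s, p, q, Y, d, d']) 7)) h2 y hy =>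
    scA h.toLc (n := 9) (l := [s, p, q, Y, d, d']) dz h2 y hy
      (centralizer_le ((cl_lts (k := 4) dz).trans_le (H_mono dz)) (h1 hy))
  have e8 : E (val [a, u, v, t, s, p, q, Y, d, d']) 10 8 = t := E_pow _ (k := 3) dz
  have e256 : E (val [a, u, v, t, s, p, q, Y, d, d']) 10 256 = d := E_pow _ (k := 8) dz
  have e512 : E (val [a, u, v, t, s, p, q, Y, d, d']) 10 512 = d' := E_pow _ (k := 9) dz
  generalize val [a, u, v, t, s, p, q, Y, d, d'] = x at *
  have AX' : Ap x 10 X (eX k) := ap_fun AX (fun _ _ => rfl) dz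
  rw [lv10, fM_eq] at key
  obtain ⟨C, r, key⟩ := M.withC key
  simp only [forceL_eq, force_eq, Bool.and_eq_true, Bool.or_eq_true, List.any_eq_true, Nat.beq_eq] at key
  obtain ⟨⟨k1, k2⟩, key⟩ := key
  have hP := M.prs (.cons (M.ad (c := 256) (d := 512) Aσ (by rw [e256, e512, ed]))
    (.cons AX' (.cons (M.ac Aρ dz) .nil))) C
  have c0 : IsConj t (E x 10 25) := e0 ▸ isConj_of _ _
  have s0 := M.sylD h.toLoc dz c0 k1
  have B := fun K' => Lab.nil.cons (iv_conj t) (r.fz (iv_conj t) hP (r.seed (R := [8]) (iv_conj t)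
    fun _ e => List.mem_singleton.1 e ▸ e8.symm ▸ .refl _) 3) (r.fz (iv_conj t).not hP ((M.ncj_spec (ts := [[]]) .nil r dz s0
      ((nin M h.tt fun e => h.toLoc.ne_one (e ▸ IsConj.refl _)).mono fun _ k j => k (c0.trans j)) K').mono
        fun _ k j => k (c0.symm.trans j)) 3)
  have hS := M.syl (B _) r s0 k2
  replace B := B (fz C (prs C 10 [adM L 10 (eσ k) 256 512, eX k, acM L [0, 1, 3, 4] fρ]) (seed C [8]) 3)
  rcases key with ⟨e, -, -, key⟩ | key
  · exact tA_spec hX h.tt M r hP B hS c0 key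
  simp only [tB, forceL_eq, force_eq, fM_eq, Bool.and_eq_true] at key
  obtain ⟨⟨j1, j2⟩, ⟨⟨⟨j3, j4⟩, j5⟩, j6⟩, j7⟩ := key
  have sd := M.pr_spec B r hS dz dz dz e8 e0 (fun c hc e => by
    obtain ⟨c, c1, rfl⟩ := List.mem_map.1 (tb_msk.1 e)
    rw [(AX' c (List.all_eq_true.1 j2 c c1)).2.2, E_mono x (k := 5) (List.mem_range.1 c1) dz]
    exact conj_mem_cj (E_mem _ _ _)) (by rwa [e5, e0, e256]) j1
  have NW := r.fz (iv_conj _).not hP (M.ncj_spec (ts := [[], [.la 0 false [0]]]) B r dz sd .zero 0) 3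
  have lc := M.mul_lt 256 (show 128 < 2 ^ 10 by decide)
  have n9 := nrg_spec M (by rw [cl_lts dz]; exact M.sgH (k := 7) dz) dz j3
  obtain ⟨o, o1, b, b1, b2, b3⟩ := M.fus_spec (M.cj AX' (M.inr lc)) dz
    (syl_sup (M.P.isPGroup M.wf dz) n9 fun R h1 h2 => sc R (by rwa [cl_lts dz] at h1) h2)
    n9 (two_cj M.two (E_mem _ _ _) X) j7
  rw [cl_lts dz] at o1
  have AO : Ap x 10 (o * X) (eX k) := ap_fun (ap_cen AX o1) (fun _ _ => rfl) dz
  have b4 : E x 10 b = o * X * E x 10 (mul L 256 128) * (o * X)⁻¹ := by rw [← b2]; group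
  rw [(M.eq_iff' b1 (AO _ j6).2.1).2 (by rw [(AO _ j6).2.2, M.E_mul _ lc, b4, conj_mul]), Bool.not_true,
    Bool.false_or] at b3
  obtain ⟨γ, Aγ⟩ := M.wrd (.cons (M.ad AO b4) (.cons (M.inr (b := 512) dz)
    (.cons (M.inr (b := 8) dz) .nil))) _ [0, 1, 0, 2, 1, 0]
  obtain ⟨c, -, f, f1, f2, f3⟩ := M.fus_spec (M.cj Aγ (M.inr (b := 512) dz)) le_rfl
    (hS.of_le le_sup_left le_top) (nrg_spec M (M.sg j4) le_rfl j5) (two_cj M.two (E_mem _ _ _) γ) b3
  have cf : IsConj (E x 10 256) (E x 10 f) := by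
    rw [← f2, e256, e512, ed]
    exact ((isConj_of _ _).trans (isConj_of _ _)).trans (isConj_of _ _)
  have i1 := j1
  simp only [prOK, force_eq, Bool.and_eq_true] at i1
  have i2 := (M.invo_iff dz).1 i1.1.1.1.2
  rcases Bool.or_eq_true_iff.1 f3 with e | e
  · exact nin M i2.1 i2.2 f f1 (tb_msk.2 (mem_flt.2 ⟨f1, e⟩)) cf
  · exact NW f f1 e cf

end H85.DZ.WB
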