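import Cfsg.Agent.H63.KgvSpec
import Mathlib.FieldTheory.KummerExtension
import Mathlib.RingTheory.Polynomial.Resultant.Basic

/-! # The product of the Gauss sums of order `r` is `1` modulo `r` -/

set_option autoImplicit false

namespace H85.KgvH6

open Polynomial Finset H63.Kgv

theorem res (r : ℕ) (hr : r.Prime) (F : ℤ[X][X]) : ∃ Q : ℤ[X], ∀ (φ : ℤ[X] →+* ℂ) (ζ : ℂ),
    IsPrimitiveRoot ζ r →
    ∏ i ∈ range r, eval (ζ ^ i) (F.map φ) = eval 1 (F.map φ) ^ r + r * φ Q := by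
  have : Fact r.Prime := ⟨hr⟩
  have h1 : (C (r : ℤ) : ℤ[X]) ∣ resultant (X ^ r - C 1) F r F.natDegree - eval 1 F ^ r := by
    rw [C_dvd_iff_dvd_coeff]
    intro i
    rw [← ZMod.intCast_zmod_eq_zero_iff_dvd]
    have h : (mapRingHom (Int.castRingHom (ZMod r)))
        (resultant (X ^ r - C 1) F r F.natDegree - eval 1 F ^ r) = 0 := by
      rw [map_sub, ← resultant_map_map, map_pow, sub_eq_zero]
      have e : (X ^ r - C 1 : ℤ[X][X]).map (mapRingHom (Int.castRingHom (ZMod r))) =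
          (X - C 1) ^ r := by
        rw [sub_pow_char]; simp
      rw [e, resultant_X_sub_C_pow_left _ _ _ _ natDegree_map_le, eval_one_map]
    have h2 := congrArg (fun f => coeff f i) h
    simpa only [coe_mapRingHom, coeff_map, coeff_zero, eq_intCast] using h2
  obtain ⟨Q, hQ⟩ := h1
  refine ⟨Q, fun φ ζ hζ => ?_⟩
  have h2 := congrArg φ hQ
  rw [map_sub, ← resultant_map_map, map_pow, ← eval_one_map, map_mul, sub_eq_iff_eq_add'] at h2
  have e : (X ^ r - C 1 : ℤ[X][X]).map φ = ∏ i ∈ range r, (X - C (ζ ^ i * 1)) := by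
    rw [← X_pow_sub_C_eq_prod hζ hr.pos (one_pow r)]; simp
  have d : (∏ i ∈ range r, (X - C (ζ ^ i * 1) : ℂ[X])).natDegree = r := by
    rw [← X_pow_sub_C_eq_prod hζ hr.pos (one_pow r), natDegree_X_pow_sub_C]
  have h3 := resultant_prod_left (range r) (fun i => (X - C (ζ ^ i * 1) : ℂ[X])) (F.map φ)
    F.natDegree (by simp only [leadingCoeff_X_sub_C, prod_const_one]; exact one_ne_zero)
    natDegree_map_le
  rw [d, ← e, h2] at h3
  have h4 : φ (C (r : ℤ)) = r := by simp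
  rw [h4] at h3
  rw [h3]
  refine prod_congr rfl fun i _ => ?_
  have h5 := resultant_X_sub_C_pow_left (ζ ^ i * 1) (F.map φ) 1 F.natDegree natDegree_map_le
  rw [pow_one, pow_one] at h5
  rw [natDegree_X_sub_C, h5, mul_one]

theorem ee_pow (p : ℕ) [Fact p.Prime] (t : ZMod p) (k : ℕ) : ee p t ^ k = ee p (t * k) := by
  rw [← AddChar.map_nsmul_eq_pow, nsmul_eq_mul, mul_comm]

theorem job : JH6 := by
  intro br lf p _ M K _ _ _ g θ s r d ω hr hd hrd hω
  classical
  let F : ℤ[X][X] := -∑ j ∈ range (p ^ d - 1), C (X ^ (tr p M g d j).val) * X ^ j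
  obtain ⟨Q, hQ⟩ := res r hr F
  refine ⟨fun c => ∑ k ∈ Q.support.filter (fun k : ℕ => (k : ZMod p) = c), Q.coeff k, fun t ht => ?_⟩
  have ev : ∀ x : Kˣ, eval (θ x : ℂ) (F.map (eval₂RingHom (Int.castRingHom ℂ) (ee p t))) =
      GG p M g θ t d x := fun x => by
    simp only [F, GG, Polynomial.map_neg, Polynomial.map_sum, Polynomial.map_mul, map_C,
      Polynomial.map_pow, map_X, eval_neg, eval_finsetSum, eval_mul, eval_C, eval_pow, eval_X,
      coe_eval₂RingHom, eval₂_X_pow, ee_pow, ZMod.natCast_zmod_val]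
  have hζ : IsPrimitiveRoot ((θ ω : ℂˣ) : ℂ) r := by
    rw [IsPrimitiveRoot.coe_units_iff, ← hω, ← orderOf_injective θ s.inj ω]
    exact IsPrimitiveRoot.orderOf _
  have h1 : GG p M g θ t d 1 = 1 := by
    obtain ⟨F, L, _, _, _, _, _, ψ, χ, γ, ψ', χ', γ', b, -⟩ :=
      br p M K g θ s d 1 (by simpa using hd)
    have e : χ 1 = 1 := (MulChar.eq_iff b.gen _ _).2 (by
      rw [b.val 1 (one_pow _), map_one, Units.val_one, MulChar.one_apply_coe])
    rw [b.gs t 1 (one_pow _), e, gaussSum_one_left (b.ne t ht), neg_neg]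
  have h2 := hQ (eval₂RingHom (Int.castRingHom ℂ) (ee p t)) _ hζ
  have h3 := ev 1
  rw [map_one, Units.val_one, h1] at h3
  rw [h3, one_pow] at h2
  have hp : 0 < p ^ d := pow_pos (Fact.out : p.Prime).pos d
  have h4 : ∀ i ∈ range r, HH p M g θ t (ω ^ i) ^ d =
      eval (((θ ω : ℂˣ) : ℂ) ^ i) (F.map (eval₂RingHom (Int.castRingHom ℂ) (ee p t))) := fun i _ => by
    rw [← Units.val_pow_eq_pow_val, ← map_pow, ev]
    refine lf p M K g θ s t d _ ht hd ?_
    have : (ω ^ i) ^ (p ^ d - 1) = 1 := by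
      rw [← pow_mul, mul_comm, pow_mul, orderOf_dvd_iff_pow_eq_one.1 (hω.symm ▸ hrd : orderOf ω ∣ p ^ d - 1), one_pow]
    rw [← Nat.sub_add_cancel hp, pow_succ, this, one_mul]
  rw [prod_congr rfl h4, h2]
  congr 2
  rw [coe_eval₂RingHom, eval₂_eq_sum, Polynomial.sum_def,
    ← sum_fiberwise Q.support (fun k : ℕ => (k : ZMod p))]
  refine sum_congr rfl fun c _ => ?_
  rw [Int.cast_sum, sum_mul]
  refine sum_congr rfl fun k hk => ?_
  rw [ee_pow, (mem_filter.1 hk).2, eq_intCast]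

end H85.KgvH6
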