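import Cfsg.Agent.H85.DZWBd
import Cfsg.Agent.H85.L3Spec

/-! L33, branch WB: the computations. -/

set_option Elab.async false
set_option autoImplicit false

namespace H85.L33.WB

open H85.FZ H85.En H85.DZ.WB

def lvA (k : Bool) (L : List ℕ) : Bool := fM (eX k) fun X => withC L 10 fun C =>
  forceL (prs C 10 [adM L 10 (eσ k) 256 512, X, acM L [0, 1, 3, 4] fρ]) fun P =>
  force (fz C P (seed C [8]) 3) fun D => force (fz C P (ncj L 10 [] C 25 (msk (flt 10 (!invo L ·))) D [[]]) 3) fun N =>
    Nat.beq (czl L 10 25).length 64 && sylOK L 10 [(D, N)] C 25 [(true, []), (true, [.la 0 true [1]])] &&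
    C.any fun e => Nat.beq e.2.2.length 256 && tA L 10 C P (D, N) e.1

theorem a0 (b j : Bool) : run (T4 false b false j) (lvA false) = true := by
  cases b <;> cases j <;> decide +kernel

theorem a1 (b j : Bool) : run (T4 true b true j) (lvA true) = true := by
  cases b <;> cases j <;> decide +kernel

theorem keyA (k b j : Bool) : run (T4 k b k j) (lvA k) = true := by
  cases k
  exacts [a0 b j, a1 b j]

/-- The codes of the letters of `TS` and the codes of the old letters. -/
def iso : Bool → Bool → Bool → List ℕ × List ℕ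
  | false, false, false => ([3, 4, 98, 384, 166, 736, 193, 832, 119, 25], [84, 85, 2, 775, 338, 170, 251, 237, 228, 156])
  | false, false, true => ([3, 4, 98, 384, 166, 736, 193, 835, 119, 25], [84, 85, 2, 775, 338, 171, 250, 236, 229, 157])
  | false, true, false => ([3, 4, 98, 385, 166, 737, 193, 833, 119, 25], [84, 85, 2, 775, 338, 254, 174, 187, 228, 156])
  | false, true, true => ([3, 4, 98, 385, 166, 737, 193, 834, 119, 25], [84, 85, 2, 775, 338, 255, 175, 186, 229, 157])
  | true, false, false => ([3, 4, 99, 389, 160, 736, 198, 837, 118, 25], [84, 85, 2, 775, 338, 170, 174, 184, 229, 159])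
  | true, false, true => ([3, 4, 99, 389, 160, 736, 198, 838, 118, 25], [84, 85, 2, 775, 338, 171, 175, 185, 228, 158])
  | true, true, false => ([3, 4, 99, 388, 160, 737, 198, 836, 118, 25], [84, 85, 2, 775, 338, 254, 251, 238, 229, 159])
  | true, true, true => ([3, 4, 99, 388, 160, 738, 198, 836, 118, 25], [84, 85, 2, 775, 338, 255, 250, 239, 228, 159])

def ws (l : List ℕ) : List (ℕ × List ℕ) := (List.range 10).map fun i => (i, wd 10 (l.getD i 0))

def isoOK (T : Tb) (k : Bool) (c : List ℕ × List ℕ) : Bool :=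
  ((List.range TS.n).all fun s => T.same (app (ws c.1) [s, s]) (app (ws c.1) (TS.sq s)) &&
    (List.range s).all fun r => T.same (app (ws c.1) [r, s]) (app (ws c.1) (s :: TS.cj s r))) &&
  ((List.range 10).all fun r => (app (ws c.1) [r]).all (· < 10) &&
    (wd 10 (c.2.getD r 0)).all (· < 10) && T.same [r] (app (ws c.1) (wd 10 (c.2.getD r 0)))) &&
  (app (ws c.1) [9] == wd 10 25 && app (ws c.1) [8] == wd 10 (lk (eX k).2 4) &&
    T.same (app (ws c.1) [8, 6, 4, 1]) (wd 10 (lk (eX k).2 16)) && tb (eX k).1 4 && tb (eX k).1 16) &&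
  app (ws c.1) [0] == [1, 0] && app (ws c.1) [1] == [2] && T.same (app sg [1, 0]) [2]

theorem keyI (k b j : Bool) : isoOK (T4 k b (!k) j) k (iso k b j) = true := by
  cases k <;> cases b <;> cases j <;> decide +kernel

end H85.L33.WB
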