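import Cfsg.Agent.H85.Nine1
import Cfsg.Agent.S0105

/-! S2219: sections, and the Sylow 3-subgroup (`blueprints/NINE.md`, section 2). -/

set_option autoImplicit false
set_option linter.unusedSectionVars false

open Cfsg H28 H31 Subgroup

namespace H85.Nine

variable {G : Type*} [Group G] [Fintype G] {χ : G → ℂ}

theorem fix (hp : commutator G = ⊤) (hχ : IsCharacter G χ) {d : ℕ} (hd : χ 1 = d) (h18 : d < 18)
    {x l : G} (hx : x ^ 9 = 1) {r : ℕ} (hr : r.Prime) (h3 : r ≠ 3) (hl : orderOf l = r)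
    (c : Commute x l) (h : ∀ k, 0 < k → k < 9 → ∀ j, χ (x ^ k * l ^ j) = χ (x ^ k)) : χ l = χ 1 := by
  classical
  obtain ⟨s, s1, s2⟩ := hχ.exists_pairs c hx (hl ▸ pow_orderOf_eq_one l)
  obtain ⟨n, ρ, rfl⟩ := hχ
  obtain ⟨ε, h2, e3, h4, -⟩ := H29.exists_char_pow_eq_sum ρ l (isOfFinOrder_of_finite l)
  rw [hl] at h2
  have hn : Module.finrank ℂ (Fin n → ℂ) < 18 := by
    rw [Representation.char_one] at hd
    exact (Nat.cast_injective hd : _ = d) ▸ h18
  have geo : ∀ (q : ℕ) (z : ℂ), z ^ q = 1 → ∑ m ∈ Finset.range q, z ^ m = if z = 1 then (q : ℂ) else 0 :=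
    fun q z hz => by
      split_ifs with h
      · simp [h]
      · exact mul_right_cancel₀ (sub_ne_zero.2 h) (by rw [geom_sum_mul, hz]; simp)
  have h5 : ∀ ω : ℂ, ω ^ r = 1 → ω ≠ 1 → 9 ∣ (Finset.univ.filter fun i => ε i = ω).card := by
    intro ω hω hω1
    have hω0 : ω ≠ 0 := by
      rintro rfl
      simp [hr.ne_zero] at hω
    have hω' : ω⁻¹ ^ r = 1 := by rw [inv_pow, hω, inv_one]
    have a1 : ∑ j ∈ Finset.range r, ω⁻¹ ^ j * ∑ k ∈ Finset.range 9, ρ.character (x ^ k * l ^ j) =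
        ((r * (Finset.univ.filter fun i => ε i = ω).card : ℕ) : ℂ) := by
      have : ∀ j, ∑ k ∈ Finset.range 9, ρ.character (x ^ k * l ^ j) =
          ∑ k ∈ Finset.range 8, ρ.character (x ^ (k + 1)) + ρ.character (l ^ j) := fun j => by
        rw [Finset.sum_range_succ', pow_zero, one_mul]
        congr 1
        exact Finset.sum_congr rfl fun k hk => h _ k.succ_pos
          (Nat.succ_lt_succ (Finset.mem_range.1 hk)) j
      simp only [this, mul_add, Finset.sum_add_distrib, ← Finset.sum_mul, e3, Finset.mul_sum, ← mul_pow]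
      rw [Finset.sum_comm, Finset.sum_eq_zero fun k _ => by
        rw [← Finset.sum_mul, geo _ _ hω', if_neg (by simpa using hω1), zero_mul], zero_add,
        Finset.sum_comm, Finset.sum_congr rfl fun i _ => geo _ _ (by rw [mul_pow, hω', h2, mul_one])]
      simp [mul_inv_eq_one₀ hω0, Finset.sum_ite, mul_comm]
    have a2 : ∀ s : Multiset (ℂ × ℂ), (∀ p ∈ s, p.1 ^ 9 = 1 ∧ p.2 ^ r = 1) → ∃ K : ℕ,
        ∑ j ∈ Finset.range r, ω⁻¹ ^ j * ∑ k ∈ Finset.range 9,
          (s.map fun p => p.1 ^ k * p.2 ^ j).sum = ((r * (9 * K) : ℕ) : ℂ) := fun s hs => by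
      induction s using Multiset.induction_on with
      | empty => exact ⟨0, by simp⟩
      | cons a s ih =>
        obtain ⟨K, hK⟩ := ih fun p hp => hs p (Multiset.mem_cons_of_mem hp)
        obtain ⟨b1, b2⟩ := hs a (Multiset.mem_cons_self _ _)
        simp only [Multiset.map_cons, Multiset.sum_cons, Finset.sum_add_distrib, mul_add, hK,
          ← Finset.sum_mul, mul_left_comm _ (∑ k ∈ Finset.range 9, a.1 ^ k), ← Finset.mul_sum, ← mul_pow]
        rw [geo _ _ b1, geo _ _ (by rw [mul_pow, hω', b2, mul_one])]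
        split_ifs
        exacts [⟨K + 1, by push_cast; ring⟩, ⟨K, by simp⟩, ⟨K, by simp⟩, ⟨K, by simp⟩]
    obtain ⟨K, hK⟩ := a2 s (by simpa [hl] using s1)
    simp only [← s2, a1, Nat.cast_inj] at hK
    exact ⟨K, Nat.eq_of_mul_eq_mul_left hr.pos hK⟩
  by_cases hi : ∀ i, ε i = 1
  · simpa [hi] using e3 1
  obtain ⟨i, hi⟩ := not_forall.1 hi
  have h6 : ∀ j, ε j ≠ 1 → 9 ≤ (Finset.univ.filter fun k => ε k = ε j).card := fun j hj =>
    Nat.le_of_dvd (Finset.card_pos.2 ⟨j, by simp⟩) (h5 _ (h2 j) hj)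
  have h7 : ∀ j, ε j ≠ ε i → ε j = 1 := fun j hj => by
    by_contra h
    have h8 := Finset.card_le_univ ((Finset.univ.filter fun k => ε k = ε j) ∪
      (Finset.univ.filter fun k => ε k = ε i))
    rw [Finset.card_union_of_disjoint (Finset.disjoint_filter.2
      fun k _ (h1 : ε k = ε j) (h2 : ε k = ε i) => hj (h1 ▸ h2)), Fintype.card_fin] at h8
    have := h6 j h
    have := h6 i hi
    omega
  have h8 : (Finset.univ.filter fun k => ε k = ε i).card = 9 := by
    have := h5 _ (h2 i) hi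
    have h9 := Finset.card_le_univ (Finset.univ.filter fun k => ε k = ε i)
    have h10 := h6 i hi
    rw [Fintype.card_fin] at h9
    omega
  have h9 : LinearMap.det (ρ l) = 1 := by
    have := Abelianization.commutator_subset_ker (LinearMap.det.comp ρ).toHomUnits (hp ▸ mem_top l)
    simpa using congrArg Units.val this
  have h10 := h4 1
  simp only [pow_one, h9] at h10
  rw [← Finset.prod_filter_mul_prod_filter_not _ fun k => ε k = ε i,
    Finset.prod_eq_one (s := Finset.univ.filter fun k => ¬ ε k = ε i)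
      fun k hk => h7 k (by simpa using hk), mul_one,
    Finset.prod_congr rfl fun k hk => (Finset.mem_filter.1 hk).2, Finset.prod_const, h8] at h10
  exact (hi ((pow_eq_one_iff_of_coprime (Nat.Coprime.pow_left 2 ((Nat.coprime_primes Nat.prime_three
    hr).2 h3.symm))).1 ⟨h10.symm, h2 i⟩)).elim

local instance : Fact (Nat.Prime 3) := ⟨Nat.prime_three⟩

variable {P : Sylow 3 G} {Y : Subgroup G} {y z s u w n : G}

open Classical in
/-- The section of `u`. -/
noncomputable def sec (u : G) : Finset G := Finset.univ.filter fun g => IsConj u (pp Nat.prime_three g)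

theorem comm (h : Nat.card P = 9) (hu : u ∈ (P : Subgroup G)) (hw : w ∈ (P : Subgroup G)) :
    u * w = w * u :=
  have := IsPGroup.isMulCommutative_of_card_eq_prime_sq (p := 3) (G := (P : Subgroup G)) h
  setLike_mul_comm hu hw

theorem le_cen (h : Nat.card P = 9) (hu : u ∈ (P : Subgroup G)) : (P : Subgroup G) ≤ centralizer {u} :=
  fun _ hx => mem_centralizer_singleton_iff.2 (comm h hx hu)

theorem npc (h : Nat.card P = 9) (hu : u ∈ (P : Subgroup G))
    (hn : ∀ n ∈ normalizer ((P : Subgroup G) : Set G), n * u * n⁻¹ = u →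
      ∀ x ∈ (P : Subgroup G), x * n = n * x) : HasNormalPComplement 3 (centralizer ({u} : Set G)) := by
  refine ⟨P.subtype (le_cen h hu), _, inferInstance,
    MonoidHom.ker_transferSylow_isComplement' _ fun n k x hx => Subtype.ext ?_⟩
  exact hn n (mem_normalizer_fintype fun z hz => (mem_normalizer_iff.1 k ⟨z, le_cen h hu hz⟩).1 hz)
    (mul_inv_eq_iff_eq_mul.2 (mem_centralizer_singleton_iff.1 n.2)) x hx

theorem card_sec (h : Nat.card P = 9) (hu : u ∈ (P : Subgroup G))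
    (hC : HasNormalPComplement 3 (centralizer ({u} : Set G))) : 9 * (sec u).card = Nat.card G := by
  classical
  have k := (H41.isSec_centralizer (H41.exists_orderOf_eq_of_mem P.isPGroup' hu)).sum_section
    Nat.prime_three (isClassFunction_const (1 : ℂ))
  have e1 : (Finset.univ.filter fun g => ∃ x, IsPPart 3 g x ∧ IsConj u x) = sec u := by
    ext g
    simp only [sec, Finset.mem_filter, Finset.mem_univ, true_and]
    exact ⟨fun ⟨x, h1, h2⟩ => pp_eq Nat.prime_three h1 ▸ h2, fun h => ⟨_, pp_spec _ g, h⟩⟩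
  have e2 := H36.card_pPrimeCore_of_hasNPC hC
  have e3 := (pPrimeCore 3 (centralizer ({u} : Set G))).index_mul_card
  rw [H36.index_pPrimeCore_of_hasNPC hC, ← (P.subtype (le_cen h hu)).card_eq_multiplicity,
    Sylow.coe_subtype, Nat.card_congr (subgroupOfEquivOfLe (le_cen h hu)).toEquiv, show Nat.card (P : Subgroup G) = 9 from h] at e3
  rw [e1, ← e3, Finset.sum_congr (s₁ := Finset.univ) rfl
    (g := fun y : centralizer ({u} : Set G) => if ¬ 3 ∣ orderOf y then (1 : ℂ) else 0)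
    fun y _ => by simp only [pRegularPart]; congr, ← Finset.sum_filter, ← e2, Finset.sum_const,
    nsmul_eq_mul, mul_one] at k
  have : 9 * Nat.card (pPrimeCore 3 (centralizer ({u} : Set G))) * (sec u).card =
      Nat.card G * Nat.card (pPrimeCore 3 (centralizer ({u} : Set G))) := by exact_mod_cast k
  exact Nat.eq_of_mul_eq_mul_right Nat.card_pos (by rw [← this]; ring)

open Classical in
/-- The elements whose 3-part is conjugate to an element of `P` outside `Y`. -/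
noncomputable def St (P Y : Subgroup G) : Finset G :=
  Finset.univ.filter fun g => ∃ u ∈ P, u ∉ Y ∧ IsConj u (pp Nat.prime_three g)

open Classical in
noncomputable def Ps (P Y : Subgroup G) (g : G) : ℂ := if g ∈ St P Y then 3 else 0

theorem mem_St {P : Subgroup G} {g : G} :
    g ∈ St P Y ↔ ∃ u ∈ P, u ∉ Y ∧ IsConj u (pp Nat.prime_three g) := by simp [St]

theorem pp_self {x : G} (h : ∃ k, orderOf x = 3 ^ k) : pp Nat.prime_three x = x :=
  pp_eq _ (H41.isPPart_self Nat.prime_three h)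

theorem one_notMem {P : Subgroup G} : (1 : G) ∉ St P Y := fun e => by
  obtain ⟨u, -, h1, h2⟩ := mem_St.1 e
  rw [pp_self ⟨0, by simp⟩, isConj_one_left] at h2
  exact h1 (h2 ▸ one_mem _)

theorem Ps_part {P : Subgroup G} (g x : G) (h : IsPPart 3 g x) : Ps P Y g = Ps P Y x := by
  classical
  exact if_congr (by rw [mem_St, mem_St, pp_eq _ h, pp_self h.choose_spec.2.2.1]) rfl rfl

theorem Ps_on (hY : ∀ w ∈ Y, ∀ u ∈ (P : Subgroup G), IsConj w u → u ∈ Y) (hu : u ∈ (P : Subgroup G))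
    [Decidable (u ∈ Y)] : Ps P Y u = if u ∈ Y then 0 else 3 := by
  rw [Ps]
  split_ifs with a b b <;>
    rw [mem_St, pp_self (H41.exists_orderOf_eq_of_mem P.isPGroup' hu)] at a
  · obtain ⟨w, w1, w2, w3⟩ := a
    exact (w2 (hY u b w w1 w3.symm)).elim
  exact (a ⟨u, hu, b, IsConj.refl _⟩).elim

theorem psi (h : Nat.card P = 9) (hle : Y ≤ P) (h3 : Nat.card Y = 3)
    (hY : ∀ w ∈ Y, ∀ u ∈ (P : Subgroup G), IsConj w u → u ∈ Y) (hz : z ∈ (P : Subgroup G))
    (hz' : z ∉ Y) : ∃ m : ℕ, 0 < m ∧ 3 * (St P Y).card = m * Nat.card G ∧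
      (m = 1 → ∃ A B d, Tri (Ps P Y) A B d) := by
  classical
  have hn : (Y.subgroupOf P).Normal := ⟨fun a ha b => by
    rwa [show b * a * b⁻¹ = a from by rw [mul_inv_eq_iff_eq_mul]; exact Subtype.ext (comm h b.2 a.2)]⟩
  have hq : Nat.card ((P : Subgroup G) ⧸ Y.subgroupOf P) = 3 := by
    have := (Y.subgroupOf P).card_eq_card_quotient_mul_card_subgroup
    rw [Nat.card_congr (subgroupOfEquivOfLe hle).toEquiv, h3, show Nat.card (P : Subgroup G) = 9 from h] at this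
    omega
  have cf : IsClassFunction G (Ps P Y) := fun g x => by
    simp only [Ps, mem_St, pp_eq _ (H41.isPPart_conj (pp_spec Nat.prime_three g) x)]
    exact if_congr (exists_congr fun u => and_congr_right fun _ => and_congr_right fun _ =>
      ⟨fun e => e.trans (isConj_iff.2 ⟨x, rfl⟩).symm, fun e => e.trans (isConj_iff.2 ⟨x, rfl⟩)⟩) rfl rfl
  have gen : IsGeneralizedCharacter G (Ps P Y) := by
    have := star P cf (by
      convert (isGeneralizedCharacter_one.natCast_smul 3).sub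
        (isCharacter_regChar.isGeneralizedCharacter.comp (QuotientGroup.mk' (Y.subgroupOf P))) using 1
      ext u
      rw [Ps_on hY u.2, Pi.sub_apply]
      split_ifs with e
      · rw [QuotientGroup.mk'_apply, (QuotientGroup.eq_one_iff _).2 (mem_subgroupOf.2 e), regChar_one, hq]
        simp
      · rw [QuotientGroup.mk'_apply, regChar_of_ne fun e' => e (mem_subgroupOf.1 ((QuotientGroup.eq_one_iff _).1 e'))]
        simp)
    convert this using 2 with g
    exact Ps_part _ _ (pp_spec _ g)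
  have g0 : (Nat.card G : ℂ) ≠ 0 := Nat.cast_ne_zero.2 Nat.card_pos.ne'
  have e1 : classInner (Ps P Y) (fun _ => 1) = (Nat.card G : ℂ)⁻¹ * (3 * (St P Y).card) := by
    simp [classInner_one_right, Ps, mul_comm]
  have e2 : classInner (Ps P Y) (Ps P Y) = 3 * classInner (Ps P Y) fun _ => 1 := by
    rw [classInner_def, classInner_one_right, mul_left_comm, Finset.mul_sum (Finset.univ) _ 3]
    congr 1
    refine Finset.sum_congr rfl fun g _ => ?_
    rw [Ps]
    split_ifs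
    · rw [map_ofNat]
    · simp
  obtain ⟨m, hm⟩ := gen.classInner_int isGeneralizedCharacter_one
  have e3 : ((3 * (St P Y).card : ℕ) : ℤ) = m * Nat.card G := by
    rw [e1, inv_mul_eq_iff_eq_mul₀ g0, mul_comm (Nat.card G : ℂ)] at hm
    exact_mod_cast hm
  have e4 : 0 < (St P Y).card := Finset.card_pos.2 ⟨z, mem_St.2 ⟨z, hz, hz', by
    rw [pp_self (H41.exists_orderOf_eq_of_mem P.isPGroup' hz)]⟩⟩
  have e5 : 0 < m := pos_of_mul_pos_left (e3 ▸ by positivity) (Int.natCast_nonneg (Nat.card G))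
  lift m to ℕ using e5.le
  refine ⟨m, by exact_mod_cast e5, by exact_mod_cast e3, fun e => three gen (if_neg one_notMem) ?_ ?_⟩
  · simpa [e] using hm
  · rw [e2, hm, e]; simp

/-- The weight of `Ψ` when all classes have length 2. -/
theorem weight (h : Nat.card P = 9) (hle : Y ≤ P) (h3 : Nat.card Y = 3)
    (hc : ∀ u ∈ (P : Subgroup G), u ≠ 1 → HasNormalPComplement 3 (centralizer ({u} : Set G)) ∧
      IsConj u u⁻¹ ∧ ∀ w ∈ (P : Subgroup G), IsConj u w → w = u ∨ w = u⁻¹) :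
    3 * (St P Y).card = Nat.card G := by
  classical
  let U := ((P : Subgroup G) : Set G).toFinset \ (Y : Set G).toFinset
  have mU : ∀ u, u ∈ U ↔ u ∈ (P : Subgroup G) ∧ u ∉ Y := fun u => by
    simp only [U, Finset.mem_sdiff, Set.mem_toFinset, SetLike.mem_coe]
  have cU : U.card = 6 := by
    rw [Finset.card_sdiff_of_subset (Set.toFinset_mono hle), ← Nat.card_eq_card_toFinset,
      ← Nat.card_eq_card_toFinset]
    change Nat.card (P : Subgroup G) - Nat.card Y = 6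
    rw [h3, show Nat.card (P : Subgroup G) = 9 from h]
  have n1 : ∀ u ∈ U, u ≠ 1 := fun u hu e => ((mU u).1 hu).2 (e ▸ one_mem _)
  have k := Finset.sum_card_bipartiteAbove_eq_sum_card_bipartiteBelow (s := U) (t := St P Y)
    fun u g => IsConj u (pp Nat.prime_three g)
  rw [Finset.sum_congr rfl (g := fun _ => 2) (s₁ := St P Y) fun g hg => ?_] at k
  · have k2 := congrArg (9 * ·) k
    simp only [Finset.mul_sum] at k2
    rw [Finset.sum_congr rfl (g := fun _ => Nat.card G) fun u hu => ?_] at k2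
    · simp only [Finset.sum_const, cU, smul_eq_mul] at k2
      omega
    · rw [← card_sec h ((mU u).1 hu).1 (hc u ((mU u).1 hu).1 (n1 u hu)).1]
      congr 2
      ext g
      simp only [Finset.mem_bipartiteAbove, sec, Finset.mem_filter, Finset.mem_univ, true_and, mem_St]
      exact ⟨And.right, fun e => ⟨⟨u, ((mU u).1 hu).1, ((mU u).1 hu).2, e⟩, e⟩⟩
  · obtain ⟨u, u1, u2, u3⟩ := mem_St.1 hg
    have u4 := n1 u ((mU u).2 ⟨u1, u2⟩)
    obtain ⟨-, c1, c2⟩ := hc u u1 u4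
    refine Finset.card_eq_two.2 ⟨u, u⁻¹, fun e => ?_, ?_⟩
    · obtain ⟨k, hk⟩ := H41.exists_orderOf_eq_of_mem P.isPGroup' u1
      have := orderOf_eq_prime (p := 2) (x := u) (by rw [pow_two]; nth_rw 1 [e]; simp) u4
      have := Nat.prime_two.dvd_of_dvd_pow (hk ▸ this ▸ dvd_rfl : 2 ∣ 3 ^ k)
      omega
    · ext w
      simp only [Finset.mem_bipartiteBelow, mU, Finset.mem_insert, Finset.mem_singleton]
      refine ⟨fun e => c2 w e.1.1 (u3.trans e.2.symm), ?_⟩
      rintro (rfl | rfl)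
      exacts [⟨⟨u1, u2⟩, u3⟩, ⟨⟨inv_mem u1, fun e => u2 (inv_mem_iff.1 e)⟩, c1.symm.trans u3⟩]

/-- The Sylow 3-subgroup with two classes of length 2. -/
structure Sy (P : Sylow 3 G) (y z s : G) : Prop where
  card : Nat.card P = 9
  yP : y ∈ (P : Subgroup G)
  zP : z ∈ (P : Subgroup G)
  y3 : orderOf y = 3
  zY : z ∉ zpowers y
  cy : ∀ w ∈ (P : Subgroup G), IsConj y w → w = y ∨ w = y⁻¹
  cz : ∀ w ∈ (P : Subgroup G), IsConj z w → w = z ∨ w = z⁻¹
  sy : s * y * s⁻¹ = y⁻¹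
  sz : s * z * s⁻¹ = z⁻¹

theorem conjN (h : Nat.card P = 9) (hu : u ∈ (P : Subgroup G)) (hw : w ∈ (P : Subgroup G))
    (e : IsConj u w) : ∃ n ∈ normalizer ((P : Subgroup G) : Set G), n * u * n⁻¹ = w := by
  have := IsPGroup.isMulCommutative_of_card_eq_prime_sq (p := 3) (G := (P : Subgroup G)) h
  obtain ⟨g, rfl⟩ := isConj_iff.1 e
  obtain ⟨n, hn, e⟩ := P.conj_eq_normalizer_conj_of_mem u g⁻¹ hu (by rwa [inv_inv])
  exact ⟨n⁻¹, inv_mem hn, by simpa using e.symm⟩

theorem mem_zp (h : orderOf y = 3) (hw : w ∈ zpowers y) : w = 1 ∨ w = y ∨ w = y⁻¹ := by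
  classical
  obtain ⟨i, hi, rfl⟩ := Finset.mem_image.1 ((mem_zpowers_iff_mem_range_orderOf).1 hw)
  rw [h, Finset.mem_range] at hi
  interval_cases i
  exacts [Or.inl (pow_zero y), Or.inr (Or.inl (pow_one y)), Or.inr (Or.inr (eq_inv_of_mul_eq_one_left
    (by rw [← pow_succ]; exact orderOf_dvd_iff_pow_eq_one.1 h.dvd)))]

namespace Sy

variable (h : Sy P y z s)
include h

theorem gen {K : Subgroup G} (hy : y ∈ K) (hz : z ∈ K) : (P : Subgroup G) ≤ K := by
  have h1 := card_dvd_of_le (inf_le_left : (P : Subgroup G) ⊓ K ≤ P)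
  have l : zpowers y < (P : Subgroup G) ⊓ K := lt_of_le_of_ne (zpowers_le.2 ⟨h.yP, hy⟩)
    fun e => h.zY (e ▸ ⟨h.zP, hz⟩)
  have h2 := Nat.le_of_dvd Nat.card_pos (card_dvd_of_le l.le)
  have h3 : Nat.card (zpowers y) ≠ Nat.card ((P : Subgroup G) ⊓ K : Subgroup G) :=
    fun e => l.ne (eq_of_le_of_card_ge l.le e.ge)
  rw [show Nat.card (P : Subgroup G) = 3 ^ 2 from h.card] at h1
  rw [Nat.card_zpowers, h.y3] at h2 h3
  obtain ⟨i, hi, e⟩ := (Nat.dvd_prime_pow Nat.prime_three).1 h1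
  refine inf_eq_left.1 (eq_of_le_of_card_ge inf_le_left ?_)
  rw [show Nat.card (P : Subgroup G) = 9 from h.card]
  interval_cases i <;> omega

theorem inv_of (h1 : n * y * n⁻¹ = y⁻¹) (h2 : n * z * n⁻¹ = z⁻¹) :
    ∀ x ∈ (P : Subgroup G), n * x * n⁻¹ = x⁻¹ := fun x hx =>
  (h.gen (K := ⟨⟨⟨{x | x ∈ (P : Subgroup G) ∧ n * x * n⁻¹ = x⁻¹}, fun {a b} ha hb =>
    ⟨mul_mem ha.1 hb.1, by rw [← conj_mul, ha.2, hb.2, comm h.card ha.1 hb.1, mul_inv_rev]⟩⟩,
    one_mem _, by simp⟩, fun {a} ha => ⟨inv_mem ha.1, by rw [← conj_inv, ha.2]⟩⟩)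
    ⟨h.yP, h1⟩ ⟨h.zP, h2⟩ hx).2

theorem cen_of (h1 : n * y * n⁻¹ = y) (h2 : n * z * n⁻¹ = z) :
    ∀ x ∈ (P : Subgroup G), x * n = n * x := fun _ hx =>
  mem_centralizer_singleton_iff.1 (h.gen
    (mem_centralizer_singleton_iff.2 (mul_inv_eq_iff_eq_mul.1 h1).symm)
    (mem_centralizer_singleton_iff.2 (mul_inv_eq_iff_eq_mul.1 h2).symm) hx)

theorem sc : ∀ w ∈ zpowers y, ∀ u ∈ (P : Subgroup G), IsConj w u → u ∈ zpowers y := fun w hw u hu e => by
  rcases mem_zp h.y3 hw with rfl | rfl | rfl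
  · exact isConj_one_right.1 e ▸ one_mem _
  · rcases h.cy u hu e with rfl | rfl
    exacts [mem_zpowers _, inv_mem (mem_zpowers _)]
  · rcases h.cy u hu ((isConj_iff.2 ⟨s, h.sy⟩).trans e) with rfl | rfl
    exacts [mem_zpowers _, inv_mem (mem_zpowers _)]

theorem ny (hn : n ∈ normalizer ((P : Subgroup G) : Set G)) : n * y * n⁻¹ = y ∨ n * y * n⁻¹ = y⁻¹ :=
  h.cy _ ((mem_normalizer_iff.1 hn y).1 h.yP) (isConj_iff.2 ⟨n, rfl⟩)

theorem nz (hn : n ∈ normalizer ((P : Subgroup G) : Set G)) : n * z * n⁻¹ = z ∨ n * z * n⁻¹ = z⁻¹ :=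
  h.cz _ ((mem_normalizer_iff.1 hn z).1 h.zP) (isConj_iff.2 ⟨n, rfl⟩)

theorem swap (hz : z ^ 3 = 1) : Sy P z y s := by
  have z1 : z ≠ 1 := fun e => h.zY (e ▸ one_mem _)
  have z3 := orderOf_eq_prime hz z1
  refine ⟨h.card, h.zP, h.yP, z3, fun e => h.zY ?_, h.cz, h.cy, h.sz, h.sy⟩
  rcases mem_zp z3 e with rfl | rfl | rfl
  exacts [absurd h.y3 (by simp), mem_zpowers _, inv_mem_iff.1 (mem_zpowers _)]

theorem ne_inv (hu : u ∈ (P : Subgroup G)) (e : u = u⁻¹) : u = 1 := by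
  by_contra u4
  obtain ⟨k, hk⟩ := H41.exists_orderOf_eq_of_mem P.isPGroup' hu
  have := orderOf_eq_prime (p := 2) (x := u) (by rw [pow_two]; nth_rw 1 [e]; simp) u4
  have := Nat.prime_two.dvd_of_dvd_pow (hk ▸ this ▸ dvd_rfl : 2 ∣ 3 ^ k)
  omega

/-- Case I: every element of `N(P)` centralizes or inverts `P`. -/
theorem free (hI : ∀ n ∈ normalizer ((P : Subgroup G) : Set G), n * y * n⁻¹ = y ↔ n * z * n⁻¹ = z) :
    ∀ u ∈ (P : Subgroup G), u ≠ 1 → HasNormalPComplement 3 (centralizer ({u} : Set G)) ∧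
      IsConj u u⁻¹ ∧ ∀ w ∈ (P : Subgroup G), IsConj u w → w = u ∨ w = u⁻¹ := fun u hu u1 => by
  have k : ∀ n ∈ normalizer ((P : Subgroup G) : Set G), (∀ x ∈ (P : Subgroup G), x * n = n * x) ∨
      ∀ x ∈ (P : Subgroup G), n * x * n⁻¹ = x⁻¹ := fun n hn => by
    by_cases e : n * y * n⁻¹ = y
    · exact Or.inl (h.cen_of e ((hI n hn).1 e))
    · exact Or.inr (h.inv_of ((h.ny hn).resolve_left e) ((h.nz hn).resolve_left (mt (hI n hn).2 e)))
  refine ⟨npc h.card hu fun n hn e => (k n hn).resolve_right fun e' =>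
    u1 (h.ne_inv hu (e.symm.trans (e' u hu))), isConj_iff.2 ⟨s, h.inv_of h.sy h.sz u hu⟩,
    fun w hw e => ?_⟩
  obtain ⟨n, hn, rfl⟩ := conjN h.card hu hw e
  exact (k n hn).imp (fun e => by rw [← e u hu, mul_inv_cancel_right]) fun e => e u hu

theorem psi' : ∃ m : ℕ, 0 < m ∧ 3 * (St P (zpowers y)).card = m * Nat.card G ∧
    (m = 1 → ∃ A B d, Tri (Ps P (zpowers y)) A B d) :=
  psi h.card (zpowers_le.2 h.yP) (by rw [Nat.card_zpowers, h.y3]) h.sc h.zP h.zY

theorem triI (hI : ∀ n ∈ normalizer ((P : Subgroup G) : Set G), n * y * n⁻¹ = y ↔ n * z * n⁻¹ = z) :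
    ∃ A B d, Tri (Ps P (zpowers y)) A B d := by
  obtain ⟨m, -, e, k⟩ := h.psi'
  rw [weight h.card (zpowers_le.2 h.yP) (by rw [Nat.card_zpowers, h.y3]) (h.free hI)] at e
  exact k (Nat.eq_of_mul_eq_mul_right Nat.card_pos (e.symm.trans (one_mul _).symm))

/-- Case II. -/
theorem triII (hz : z ^ 3 = 1) (h1 : n * y * n⁻¹ = y⁻¹) (h2 : n * z * n⁻¹ = z) :
    (∃ A B d, Tri (Ps P (zpowers y)) A B d) ∨ ∃ A B d, Tri (Ps P (zpowers z)) A B d := by
  classical
  have h' := h.swap hz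
  obtain ⟨m, m0, e, k⟩ := h.psi'
  obtain ⟨m', m0', e', k'⟩ := h'.psi'
  have yz := mul_mem h.yP h.zP
  have c := comm h.card h.yP h.zP
  have hs := card_sec h.card yz (npc h.card yz fun g hg eg => by
    rw [← conj_mul] at eg
    rcases h.ny hg with a | a
    · exact h.cen_of a (by rwa [a, mul_right_inj] at eg)
    · have y1 : y ≠ 1 := fun e => by simpa [e] using h.y3
      rcases h.nz hg with b | b <;> rw [a, b] at eg
      · exact (y1 (h.ne_inv h.yP (mul_right_cancel eg).symm)).elim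
      · exact (h.zY (eq_inv_of_mul_eq_one_right (h.ne_inv yz (by
          nth_rw 2 [c]; rw [mul_inv_rev, eg])) ▸ inv_mem (mem_zpowers y))).elim)
  have i1 : St P (zpowers y) ∩ St P (zpowers z) ⊆ sec (y * z) := fun g hg => by
    obtain ⟨u, u1, u2, u3⟩ := mem_St.1 (Finset.mem_inter.1 hg).1
    obtain ⟨w, w1, w2, w3⟩ := mem_St.1 (Finset.mem_inter.1 hg).2
    have u4 : u ∉ zpowers z := fun e => w2 (h'.sc u e w w1 (u3.trans w3.symm))
    refine Finset.mem_filter.2 ⟨Finset.mem_univ _, IsConj.trans ?_ u3⟩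
    obtain ⟨a, ha, b, hb, rfl⟩ : ∃ a ∈ zpowers y, ∃ b ∈ zpowers z, a * b = u :=
      h.gen (K := ⟨⟨⟨{x | ∃ a ∈ zpowers y, ∃ b ∈ zpowers z, a * b = x}, by
        rintro _ _ ⟨a, ha, b, hb, rfl⟩ ⟨a', ha', b', hb', rfl⟩
        exact ⟨_, mul_mem ha ha', _, mul_mem hb hb', by
          rw [mul_assoc, mul_assoc, ← mul_assoc a', comm h.card (zpowers_le.2 h.yP ha')
            (zpowers_le.2 h.zP hb), mul_assoc]⟩⟩, 1, one_mem _, 1, one_mem _, mul_one _⟩, by
        rintro _ ⟨a, ha, b, hb, rfl⟩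
        exact ⟨_, inv_mem ha, _, inv_mem hb, by
          rw [comm h.card (zpowers_le.2 h.yP ha) (zpowers_le.2 h.zP hb), mul_inv_rev]⟩⟩)
        ⟨y, mem_zpowers _, 1, one_mem _, mul_one _⟩ ⟨1, one_mem _, z, mem_zpowers _, one_mul _⟩ u1
    rcases mem_zp h'.y3 hb with rfl | rfl | rfl
    · exact (u2 (by simpa using ha)).elim
    all_goals rcases mem_zp h.y3 ha with rfl | rfl | rfl
    · exact (u4 (by simp)).elim
    · exact IsConj.refl _
    · exact isConj_iff.2 ⟨n, by rw [← conj_mul, h1, h2]⟩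
    · exact (u4 (by simp)).elim
    · exact isConj_iff.2 ⟨s * n, by
        rw [show ∀ x w, s * n * (x * w) * (s * n)⁻¹ = s * (n * x * n⁻¹) * s⁻¹ * (s * (n * w * n⁻¹) * s⁻¹)
          from fun x w => by group, h1, h2, ← conj_inv, h.sy, h.sz, inv_inv]⟩
    · exact isConj_iff.2 ⟨s, by rw [← conj_mul, h.sy, h.sz]⟩
  have i2 : St P (zpowers y) ∪ St P (zpowers z) ⊂ Finset.univ := Finset.ssubset_univ_iff.2 fun q => by
    rcases Finset.mem_union.1 (q ▸ Finset.mem_univ (1 : G)) with a | a <;> exact one_notMem a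
  have j1 := Finset.card_le_card i1
  have j2 := Finset.card_lt_card i2
  have j3 := Finset.card_union_add_card_inter (St P (zpowers y)) (St P (zpowers z))
  rw [Finset.card_univ, ← Nat.card_eq_fintype_card] at j2
  by_contra q
  push Not at q
  have a1 : 2 ≤ m := by by_contra a; obtain ⟨A, B, d, T⟩ := k (by omega); exact q.1 A B d T
  have a2 : 2 ≤ m' := by by_contra a; obtain ⟨A, B, d, T⟩ := k' (by omega); exact q.2 A B d T
  nlinarith [Nat.mul_le_mul_right (Nat.card G) a1, Nat.mul_le_mul_right (Nat.card G) a2]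

end Sy

variable [IsSimpleGroup G] (hG : ¬ IsMulCommutative G) (h : Nat.card P = 9)
include hG h

theorem nofix (hu : u ∈ (P : Subgroup G))
    (e : ∀ n ∈ normalizer ((P : Subgroup G) : Set G), n * u * n⁻¹ = u) : u = 1 := by
  have hc := IsPGroup.isMulCommutative_of_card_eq_prime_sq (p := 3) (G := (P : Subgroup G)) h
  obtain ⟨N, hN, ⟨f⟩⟩ := Agent.S0105.result P hc
  rcases hN.eq_bot_or_eq_top with rfl | rfl
  · refine (hG ⟨⟨fun a b => ?_⟩⟩).elim
    have f' := QuotientGroup.quotientBot.symm.trans f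
    exact f'.injective (by
      rw [map_mul, map_mul]; exact Subtype.ext (comm h (f' a).2.1 (f' b).2.1))
  · have : Subsingleton (G ⧸ (⊤ : Subgroup G)) := QuotientGroup.subsingleton_quotient_top
    have := f.symm.injective.subsingleton
    exact congrArg Subtype.val (this.elim ⟨u, hu, fun n hn => mul_inv_eq_iff_eq_mul.1 (e n hn)⟩ 1)

theorem orb (hu : u ∈ (P : Subgroup G)) (u1 : u ≠ 1) [DecidablePred fun w => w ∈ (P : Subgroup G) ∧ IsConj u w] :
    4 ≤ (Finset.univ.filter fun w => w ∈ (P : Subgroup G) ∧ IsConj u w).card ∨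
    (Finset.univ.filter fun w => w ∈ (P : Subgroup G) ∧ IsConj u w).card = 2 ∧
      (∀ w ∈ (P : Subgroup G), IsConj u w → w = u ∨ w = u⁻¹) ∧
      ∃ n ∈ normalizer ((P : Subgroup G) : Set G), n * u * n⁻¹ = u⁻¹ := by
  classical
  set O := Finset.univ.filter fun w => w ∈ (P : Subgroup G) ∧ IsConj u w
  have mO : ∀ w, w ∈ O ↔ w ∈ (P : Subgroup G) ∧ IsConj u w := fun w => by simp only [O,
    Finset.mem_filter, Finset.mem_univ, true_and]
  have cO : ∀ n ∈ normalizer ((P : Subgroup G) : Set G), ∀ w ∈ O, n * w * n⁻¹ ∈ O := fun n hn w hw =>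
    (mO _).2 ⟨(mem_normalizer_iff.1 hn w).1 ((mO w).1 hw).1,
      ((mO w).1 hw).2.trans (isConj_iff.2 ⟨n, rfl⟩)⟩
  have uO := (mO u).2 ⟨hu, IsConj.refl _⟩
  obtain ⟨n, hn, e⟩ : ∃ n ∈ normalizer ((P : Subgroup G) : Set G), n * u * n⁻¹ ≠ u := by
    by_contra! k
    exact u1 (nofix hG h hu k)
  have h2 : 1 < O.card := Finset.one_lt_card.2 ⟨_, cO n hn u uO, u, uO, e⟩
  have h3 : ¬ 3 ∣ O.card := fun k => by
    letI := MulAction.compHom G ((MulAut.conj (G := G)).comp
      (normalizer ((P : Subgroup G) : Set G)).subtype)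
    have a := MulAction.index_stabilizer (normalizer ((P : Subgroup G) : Set G)) u
    rw [show MulAction.orbit (normalizer ((P : Subgroup G) : Set G)) u = O from Set.ext fun w =>
      ⟨fun ⟨m, hm⟩ => hm ▸ cO m m.2 u uO, fun hw => by
        obtain ⟨m, h1, h2⟩ := conjN h hu ((mO w).1 hw).1 ((mO w).1 hw).2
        exact ⟨⟨m, h1⟩, h2⟩⟩, Set.ncard_coe_finset] at a
    exact (P.subtype le_normalizer).not_dvd_index ((a ▸ k).trans (index_dvd_of_le fun x hx =>
      mul_inv_eq_iff_eq_mul.2 (comm h hx hu)))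
  refine or_iff_not_imp_left.2 fun k => ?_
  have c2 : O.card = 2 := by omega
  have eO : O = {u, n * u * n⁻¹} := (Finset.eq_of_subset_of_card_le (by
    simp [Finset.insert_subset_iff, uO, cO n hn u uO]) (by rw [Finset.card_pair e.symm, c2])).symm
  have nP := ((mO _).1 (cO n hn u uO)).1
  have i : n * u * n⁻¹ = u⁻¹ := eq_inv_of_mul_eq_one_right (nofix hG h (mul_mem hu nP) fun m hm => by
    have a := cO m hm u uO
    have b := cO m hm _ (cO n hn u uO)
    have c : m * u * m⁻¹ ≠ m * (n * u * n⁻¹) * m⁻¹ := fun c => e (by simpa using c.symm)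
    rw [eO, Finset.mem_insert, Finset.mem_singleton] at a b
    rw [← conj_mul]
    rcases a with a | a <;> rcases b with b | b
    exacts [(c (a.trans b.symm)).elim, by rw [a, b], by rw [a, b, comm h hu nP],
      (c (a.trans b.symm)).elim])
  exact ⟨c2, fun w hw k => by simpa [eO, i] using (mO w).2 ⟨hw, k⟩, n, hn, i⟩

theorem exists_sy (h3 : 3 ≤ Nat.card {C : ConjClasses G // ∃ g ∈ C.carrier, g ≠ 1 ∧ orderOf g ∣ 9}) :
    ∃ y z s, Sy P y z s ∧ (y = z ^ 3 ∨ z ^ 3 = 1) := by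
  classical
  have rep : ∀ C : {C : ConjClasses G // ∃ g ∈ C.carrier, g ≠ 1 ∧ orderOf g ∣ 9},
      ∃ u ∈ (P : Subgroup G), u ≠ 1 ∧ ConjClasses.mk u = C := fun ⟨C, g, g1, g2, g3⟩ => by
    obtain ⟨k, -, hk⟩ := (Nat.dvd_prime_pow Nat.prime_three (m := 2)).1 g3
    obtain ⟨Q, hQ⟩ := (IsPGroup.of_card (by rw [Nat.card_zpowers, hk]) :
      IsPGroup 3 (zpowers g)).exists_le_sylow
    obtain ⟨c, rfl⟩ := MulAction.exists_smul_eq G P Q
    have := hQ (mem_zpowers g)
    rw [Sylow.coe_subgroup_smul, mem_pointwise_smul_iff_inv_smul_mem] at this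
    exact ⟨c⁻¹ * g * c⁻¹⁻¹, by simpa using this, fun e => g2 (conj_eq_one_iff.1 e),
      (ConjClasses.mk_eq_mk_iff_isConj.2 (isConj_iff.2 ⟨_, rfl⟩).symm).trans
        (ConjClasses.mem_carrier_iff_mk_eq.1 g1)⟩
  have fin : ∀ y ∈ (P : Subgroup G), ∀ z ∈ (P : Subgroup G), y ≠ 1 → z ≠ 1 → ¬ IsConj y z →
      ((∀ w ∈ (P : Subgroup G), IsConj y w → w = y ∨ w = y⁻¹) ∧
        ∃ n ∈ normalizer ((P : Subgroup G) : Set G), n * y * n⁻¹ = y⁻¹) →
      ((∀ w ∈ (P : Subgroup G), IsConj z w → w = z ∨ w = z⁻¹) ∧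
        ∃ n ∈ normalizer ((P : Subgroup G) : Set G), n * z * n⁻¹ = z⁻¹) →
      ∃ y z s, Sy P y z s ∧ (y = z ^ 3 ∨ z ^ 3 = 1) := by
    have cyc : ∀ z ∈ (P : Subgroup G), z ^ 3 ≠ 1 →
        ((∀ w ∈ (P : Subgroup G), IsConj z w → w = z ∨ w = z⁻¹) ∧
        ∃ n ∈ normalizer ((P : Subgroup G) : Set G), n * z * n⁻¹ = z⁻¹) →
        ∃ y z s, Sy P y z s ∧ (y = z ^ 3 ∨ z ^ 3 = 1) := fun z hz z3 ⟨c, n, hn, e⟩ => by
      have z9 : (z ^ 3) ^ 3 = 1 := by
        have := congrArg Subtype.val (pow_card_eq_one' (x := (⟨z, hz⟩ : (P : Subgroup G))))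
        rwa [show Nat.card (P : Subgroup G) = 3 * 3 from h, coe_pow, pow_mul] at this
      have o := orderOf_eq_prime z9 z3
      refine ⟨_, z, n, ⟨h, pow_mem hz 3, hz, o, fun k => z3 ?_, fun w hw k => ?_, c,
        by rw [← conj_pow, e, inv_pow], e⟩, Or.inl rfl⟩
      · exact orderOf_dvd_iff_pow_eq_one.1 (o ▸ orderOf_dvd_of_mem_zpowers k)
      · obtain ⟨m, hm, rfl⟩ := conjN h (pow_mem hz 3) hw k
        rw [← conj_pow, ← inv_pow]
        exact (c _ ((mem_normalizer_iff.1 hm z).1 hz) (isConj_iff.2 ⟨m, rfl⟩)).imp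
          (congrArg (· ^ 3)) (congrArg (· ^ 3))
    intro y hy z hz y1 z1 nc cy cz
    by_cases y3 : y ^ 3 = 1
    swap
    · exact cyc y hy y3 cy
    by_cases z3 : z ^ 3 = 1
    swap
    · exact cyc z hz z3 cz
    obtain ⟨cy, n, hn, en⟩ := cy
    obtain ⟨cz, m, hm, em⟩ := cz
    have o := orderOf_eq_prime y3 y1
    have k : ∀ s, s * y * s⁻¹ = y⁻¹ → s * z * s⁻¹ = z⁻¹ →
        ∃ y z s, Sy P y z s ∧ (y = z ^ 3 ∨ z ^ 3 = 1) := fun s a b =>
      ⟨y, z, s, ⟨h, hy, hz, o, fun k => by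
        rcases mem_zp o k with rfl | rfl | rfl
        exacts [z1 rfl, nc (IsConj.refl _), nc (isConj_iff.2 ⟨n, en⟩)], cy, cz, a, b⟩, Or.inr z3⟩
    rcases cz _ ((mem_normalizer_iff.1 hn z).1 hz) (isConj_iff.2 ⟨n, rfl⟩) with a | a
    swap
    · exact k n en a
    rcases cy _ ((mem_normalizer_iff.1 hm y).1 hy) (isConj_iff.2 ⟨m, rfl⟩) with b | b
    swap
    · exact k m b em
    have e : ∀ x, n * m * x * (n * m)⁻¹ = n * (m * x * m⁻¹) * n⁻¹ := fun x => by group
    exact k (n * m) (by rw [e, b, en]) (by rw [e, em, ← conj_inv, a])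
  rw [Nat.card_eq_fintype_card] at h3
  obtain ⟨A, B, C, ab, ac, bc⟩ := Fintype.two_lt_card_iff.1 h3
  obtain ⟨a, a1, a2, a3⟩ := rep A
  obtain ⟨b, b1, b2, b3⟩ := rep B
  obtain ⟨c, c1, c2, c3⟩ := rep C
  have n : ∀ {x y : G} {X Y : {C : ConjClasses G // ∃ g ∈ C.carrier, g ≠ 1 ∧ orderOf g ∣ 9}},
      ConjClasses.mk x = X → ConjClasses.mk y = Y → X ≠ Y → ¬ IsConj x y := fun e e' k q =>
    k (Subtype.ext (e.symm.trans ((ConjClasses.mk_eq_mk_iff_isConj.2 q).trans e')))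
  have dj : ∀ {x y : G}, ¬ IsConj x y → Disjoint
      (Finset.univ.filter fun w => w ∈ (P : Subgroup G) ∧ IsConj x w)
      (Finset.univ.filter fun w => w ∈ (P : Subgroup G) ∧ IsConj y w) := fun k =>
    Finset.disjoint_filter.2 fun w _ e e' => k (e.2.trans e'.2.symm)
  have t := Finset.card_le_card (s := ((Finset.univ.filter fun w => w ∈ (P : Subgroup G) ∧ IsConj a w) ∪
    (Finset.univ.filter fun w => w ∈ (P : Subgroup G) ∧ IsConj b w)) ∪
    (Finset.univ.filter fun w => w ∈ (P : Subgroup G) ∧ IsConj c w))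
    (t := ((P : Subgroup G) : Set G).toFinset.erase 1) fun w hw => by
      simp only [Finset.mem_union, Finset.mem_filter, Finset.mem_univ, true_and] at hw
      rw [Finset.mem_erase, Set.mem_toFinset]
      rcases hw with (hw | hw) | hw <;> refine ⟨fun e => ?_, hw.1⟩ <;> rw [e, isConj_one_left] at hw
      exacts [a2 hw.2, b2 hw.2, c2 hw.2]
  rw [Finset.card_union_of_disjoint (Finset.disjoint_union_left.2 ⟨dj (n a3 c3 ac), dj (n b3 c3 bc)⟩),
    Finset.card_union_of_disjoint (dj (n a3 b3 ab)), Finset.card_erase_of_mem (by simp),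
    ← Nat.card_eq_card_toFinset, show Nat.card ((P : Subgroup G) : Set G) = 9 from h] at t
  rcases orb hG h a1 a2 with a4 | a4 <;> rcases orb hG h b1 b2 with b4 | b4 <;>
    rcases orb hG h c1 c2 with c4 | c4
  iterate 3 omega
  · exact fin b b1 c c1 b2 c2 (n b3 c3 bc) b4.2 c4.2
  · omega
  · exact fin a a1 c c1 a2 c2 (n a3 c3 ac) a4.2 c4.2
  all_goals exact fin a a1 b b1 a2 b2 (n a3 b3 ab) a4.2 b4.2

end H85.Nine
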