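import Cfsg.Agent.H49.D8Kit

/-! Interface of S3 (`blueprints/S3.md`, row S3139): a `2`-component of type `L₃(3)`.
`S = cl [v, s, j]` is semidihedral of order `16`, `D = cl [v, s]`, `V = cl [v, z]`. -/

set_option autoImplicit false
set_option linter.unusedSectionVars false

namespace H85.DY

open Subgroup H98 H1.Gold H85.FZ

variable {G : Type*} [Group G]

/-- `T ⟨d⟩` is Sylow in `C(t)`. -/
structure Dd (t v s u a d : G) : Prop where
  dt : d * t * d⁻¹ = t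
  dv : d * v * d⁻¹ = s
  ds : d * s * d⁻¹ = v
  da : d * a * d⁻¹ = u
  du : d * u * d⁻¹ = a
  dd : d * d = 1 ∨ d * d = t
  syl : IsSyl 2 (cl [a, u, v, t, s, d]) (cen1 t)

end H85.DY

namespace H85.S3

open Subgroup Cfsg H98 H1.Gold H85.FZ H49.D8

universe u

/-- The bound. -/
def Bd (X : Type*) : Prop := ¬ 2 ^ 11 ∣ Nat.card X

def Ty (X : Type*) [Group X] : Prop :=
  Nonempty (X ≃* Matrix.ProjectiveSpecialLinearGroup (Fin 3) (ZMod 3))

variable {G : Type u} [Group G]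

/-- The relations of `SD₁₆`. -/
structure SD (v s z j : G) : Prop extends DH v s z where
  jv : j * v * j⁻¹ = s
  js : j * s * j⁻¹ = v
  jj : j * j = z

/-- The facts used about `L₃(3)`. -/
structure KX (X : Type*) [Group X] : Prop where
  simple : IsSimpleGroup X
  sd : ∃ v s z j σ : X, SD v s z j ∧ IsSyl 2 (cl [v, s, j]) ⊤ ∧ Tri σ z v
  aut : ¬ 64 ∣ Nat.card (MulAut X)

/-- `A K / K` is a normal subgroup `L₃(3)` of `N / K` with trivial centralizer. -/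
structure Sc (N A K : Subgroup G) : Prop where
  AN : A ≤ N
  KN : K ≤ N
  nA : N ≤ nor A
  nK : N ≤ nor K
  odd : Odd (Nat.card ↥(A ⊓ K))
  cen : ∀ x ∈ N, (∀ a ∈ A, x * a * x⁻¹ * a⁻¹ ∈ K) → x ∈ K
  ty : ∃ (X : Type) (_ : Group X) (f : A →* X), Ty X ∧ Function.Surjective f ∧
    ∀ a : A, f a = 1 ↔ (a : G) ∈ K

/-- The frame of a Sylow `2`-subgroup `T` of `N`. -/
structure Fr (N A K T : Subgroup G) (v s z j : G) : Prop extends SD v s z j where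
  syl : IsSyl 2 T N
  S : T ⊓ A = cl [v, s, j]
  tri : ∃ σ ∈ A, Tri σ z v
  idx : ∀ c ∈ T ⊓ cen (cl [v, s]), ∀ c' ∈ T ⊓ cen (cl [v, s]),
    In K z c ∨ In K z c' ∨ In K z (c * c')
  out : ∀ c ∈ T ⊓ cen (cl [v, s]), ¬ In K z c → c * c ∈ K ∧ j * c * j⁻¹ = c * z ∧
    ∃ w, (w = c ∨ w = c * z) ∧ ∃ σ ∈ A, Tri σ z v ∧ σ * w = w * σ

/-- The `2`-component `A` of `C(t)`; `K` has cyclic Sylow `2`-subgroups. -/
structure Ct (t : G) (A K : Subgroup G) : Prop extends Sc (cen1 t) A K where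
  o : orderOf t = 2
  tK : t ∈ K
  cyc : ∀ P ≤ K, IsPGroup 2 P → IsCyclic P

/-! ### The case `T = ⟨t⟩ × SD₁₆` -/

structure SA (t v s z j σ n : G) : Prop extends SD v s z j where
  tt : t * t = 1
  vt : v * t = t * v
  st : s * t = t * s
  jt : j * t = t * j
  σt : σ * t = t * σ
  tS : t ∉ cl [v, s, j]
  syl : IsSyl 2 (cl [v, s, j, t]) (cen1 t)
  tri : Tri σ z v
  nT : n ∈ nor (cl [v, s, j, t])
  nt : n * t * n⁻¹ = t * z

/-- The `2`-subgroups of `C(x)`, `x` conjugate to `t`. -/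
structure KT (t : G) : Prop where
  nsq : ∀ y, ¬ IsConj t (y * y)
  le : ∀ x, IsConj t x → ∀ Q ≤ cen1 x, IsPGroup 2 Q → Nat.card Q ≤ 32
  rk : ∀ x, IsConj t x → ∀ E ≤ cen1 x, (∀ e ∈ E, e * e = 1) → Nat.card E ≤ 8
  sc : ∀ x, IsConj t x → ∀ E : Subgroup G, x ∈ E → (∀ e ∈ E, e * e = 1) → Nat.card E = 8 →
    ∀ Q ≤ cen E, IsPGroup 2 Q → Q ≤ E
  n16 : ∀ x, IsConj t x → ∀ E : Subgroup G, x ∈ E → (∀ e ∈ E, e * e = 1) → Nat.card E = 8 →
    ∀ Q ≤ cen1 x ⊓ nor E, IsPGroup 2 Q → Nat.card Q ≤ 16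
  inv : ∀ x, IsConj t x → ∀ l : List G, (∀ y ∈ l, y * y = 1) → cl l ≤ cen1 x → IsPGroup 2 (cl l) →
    Nat.card (cl l) ≤ 16
  no8 : ∀ x, IsConj t x → ∀ e ∈ cen1 x, ∀ y ∈ cen1 x, e * e = 1 → e * y * e⁻¹ = y⁻¹ → y ^ 8 = 1 →
    y ^ 4 = 1

/-- Letters `z 0, v 1, f 2, g 3, t 4, s 5`; `F = cl [z, v, f, g]` is `Z₄²` (`b = true`) or `E₁₆`. -/
def tbF (b : Bool) : Tb :=
  .of 6 [(4, 2, [2, 0]), (4, 3, [3, 1]), (5, 1, [1, 0]), (5, 3, [3, 2] ++ ow b [1, 0])]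
    [(2, ow b [0]), (3, ow b [1])]

/-- A Sylow `2`-subgroup of `N ⟨t, v, z⟩`. -/
structure SF (b : Bool) (t z v f g s σ : G) : Prop extends KT t where
  pres : Pres (tbF b) (val [z, v, f, g, t, s])
  card : Nat.card (cl [z, v, f, g, t, s]) = 64
  σt : σ * t * σ⁻¹ = t
  σz : σ * z * σ⁻¹ = v
  σv : σ * v * σ⁻¹ = v * z
  σf : σ * f * σ⁻¹ = g
  σg : σ * g * σ⁻¹ = (f * g)⁻¹
  ts : IsConj t (t * s)

/-- The conjugates of `t` in `C_P(V)`, `P` Sylow in `N(F ⟨t⟩)`. -/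
def ZC (t z v f g s : G) : Prop :=
  ∀ P, IsSyl 2 P (nor (cl [z, v, f, g, t])) → cl [z, v, f, g, t, s] ≤ P → ∀ x ∈ P, x * z = z * x →
    x * v = v * x → IsConj t x → x ∈ cl [z, v, f, g, t]

/-- Letters `z 0, f 1, v 2, g 3, s 4, x 5, t 6`; `J = cl [z, f, v, g, s, x]` is `D₈ × D₈`
(`c = false`) or of type `L₃(4)`. -/
def tbJ (c : Bool) : Tb :=
  .of 7 [(4, 2, [2, 0]), (4, 3, [3, 1]), (5, 2, [2, 1]), (5, 3, [3, 1] ++ ow c [0]), (6, 1, [1, 0]),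
    (6, 3, [3, 2]), (6, 5, [5, 4])]

/-- A Sylow `2`-subgroup of `N(F)`, `F = cl [z, f, v, g]`. -/
structure SJ (c : Bool) (t z f v g s x : G) : Prop extends KT t where
  pres : Pres (tbJ c) (val [z, f, v, g, s, x, t])
  card : Nat.card (cl [z, f, v, g, s, x, t]) = 128
  syl : IsSyl 2 (cl [z, f, v, g, s, x, t]) (nor (cl [z, f, v, g]))

/-! ### Jobs -/

def JobK : Prop := ∀ (X : Type u) [Group X] [Finite X], Ty X → KX X

def JobF0 : Prop :=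
  ∀ (M : Type u) [Group M] [Finite M] (X : Subgroup M), X.Normal → cen X = ⊥ → KX X →
    ∀ T, IsSyl 2 T ⊤ → ∃ v s z j, Fr ⊤ X ⊥ T v s z j

def JobLF : Prop :=
  ∀ (G : Type u) [Group G] [Finite G] (N A K : Subgroup G), Sc N A K →
    ∀ T, IsSyl 2 T N → ∃ v s z j, Fr N A K T v s z j

def JobLift : Prop := JobK.{u} → JobF0.{u} → JobLF.{u}

/-- If `4` divides `|K|` then `N(T)` fixes `t`. -/
def Fix (t : G) (K T : Subgroup G) : Prop :=
  ∀ r ∈ T, r ∈ K → r * r = t → ∀ n ∈ nor T, n * t * n⁻¹ = t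

def JobR2 : Prop :=
  ∀ (G : Type u) [Group G] [Finite G] (t : G) (A K T : Subgroup G) (v s z j : G), Ct t A K →
    Fr (cen1 t) A K T v s z j → Fix t K T

def JobR3 : Prop :=
  ∀ (G : Type u) [Group G] [Finite G] (X : Subgroup G) (t : G) (A K T : Subgroup G) (v s z j : G),
    AS X t → Ct t A K → Fr (cen1 t) A K T v s z j → Fix t K T →
    T ⊓ K = zpowers t ∧ ∃ n ∈ nor T, n * t * n⁻¹ = t * z

def JobR5 : Prop :=
  ∀ (G : Type u) [Group G] [Finite G] (t : G) (A K T : Subgroup G) (v s z j n : G), Ct t A K →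
    Fr (cen1 t) A K T v s z j → T ⊓ K = zpowers t → n ∈ nor T → n * t * n⁻¹ = t * z →
    (∃ σ, SA t v s z j σ n) ∨
      ∃ u a σ ρ d, Lc t v s u a σ ρ ∧ DY.Dd t v s u a d ∧ T = cl [a, u, v, t, s, d]

def JobKT : Prop :=
  ∀ (G : Type u) [Group G] [Finite G] (t v s z j σ n : G), SA t v s z j σ n → KT t

def JobA0 : Prop :=
  ∀ (G : Type u) [Group G] [Finite G] (t v s z j σ n : G), SA t v s z j σ n → KT t →
    ∃ b f g σ, SF b t z v f g s σ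

def JobZ1 : Prop :=
  ∀ (G : Type u) [Group G] [Finite G] (t z v f g s σ : G), SF true t z v f g s σ → ZC t z v f g s

def JobZ2 : Prop :=
  ∀ (G : Type u) [Group G] [Finite G] (t z v f g s σ : G), SF true t z v f g s σ → ZC t z v f g s →
    Bd G

def JobE1 : Prop :=
  ∀ (G : Type u) [Group G] [Finite G] (t z v f g s σ : G), SF false t z v f g s σ →
    Bd G ∨ ∃ c x, SJ c t z f v g s x

def JobE2 : Prop :=
  ∀ (G : Type u) [Group G] [Finite G] (t z f v g s x : G), SJ true t z f v g s x → Bd G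

def JobE4 : Prop :=
  ∀ (G : Type u) [Group G] [Finite G] (t z f v g s x : G), SJ false t z f v g s x → Bd G

/-- The tower (`H85.DY`). -/
def Tower : Prop :=
  ∀ (G : Type u) [Group G] [Finite G] (X : Subgroup G) (t v s u a σ ρ d : G), AS X t →
    Lc t v s u a σ ρ → DY.Dd t v s u a d →
    (∃ n ∈ nor (cl [a, u, v, t, s, d]), n * t * n⁻¹ ≠ t) → Bd X

def Core : Prop :=
  ∀ (G : Type u) [Group G] [Finite G] (X : Subgroup G) (t : G) (A K : Subgroup G), AS X t →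
    Ct t A K → Bd X

theorem Bd.sub (h : Bd G) (X : Subgroup G) : Bd X := fun k => h (k.trans X.card_subgroup_dvd_card)

theorem core_of (hF : JobLF.{u}) (r2 : JobR2.{u}) (r3 : JobR3.{u}) (r5 : JobR5.{u}) (kt : JobKT.{u})
    (a0 : JobA0.{u}) (z1 : JobZ1.{u}) (z2 : JobZ2.{u}) (e1 : JobE1.{u}) (e2 : JobE2.{u})
    (e4 : JobE4.{u}) (hT : Tower.{u}) : Core.{u} := by
  intro G _ _ X t A K hX h
  obtain ⟨T, hS⟩ := exists_isSyl 2 (cen1 t)
  obtain ⟨v, s, z, j, f⟩ := hF G _ A K h.toSc T hS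
  obtain ⟨e, n, hn, nt⟩ := r3 G X t A K T v s z j hX h f (r2 G t A K T v s z j h f)
  rcases r5 G t A K T v s z j n h f e hn nt with ⟨σ, k⟩ | ⟨u, a, σ, ρ, d, l, k, rfl⟩
  · obtain ⟨b, f, g, σ, k⟩ := a0 G _ _ _ _ _ _ _ k (kt G _ _ _ _ _ _ _ k)
    refine Bd.sub ?_ X
    cases b
    · rcases e1 G _ _ _ _ _ _ _ k with k | ⟨c, x, k⟩
      · exact k
      · cases c
        exacts [e4 G _ _ _ _ _ _ _ k, e2 G _ _ _ _ _ _ _ k]
    · exact z2 G _ _ _ _ _ _ _ k (z1 G _ _ _ _ _ _ _ k)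
  · exact hT G X t v s u a σ ρ d hX l k ⟨n, hn, by rw [nt]; simpa using f.z1⟩

end H85.S3
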