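import Cfsg.Agent.H14.FEKit
import Cfsg.Agent.H5.FEG

/-! Chapter X1 (S1308): two tools. -/

set_option autoImplicit false

namespace H85.X1

open Cfsg Subgroup MulAction H14 H98 H1.Gold H31.S2 H14.GC H14.FE
open scoped commutatorElement

universe u

/-- Squares of a strongly closed abelian subgroup are central modulo the odd core. -/
theorem gold0 {X : Type u} [Group X] [Finite X] (S : Sylow 2 X) (V : Subgroup X) (ab : Ab V)
    (sc : IsStronglyClosed V S) :
    ∀ v ∈ V, ∀ k ∈ normalClosure (V : Set X),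
      k * (v * v) * k⁻¹ * (v * v)⁻¹ ∈ opp 2 (normalClosure (V : Set X)) := by
  set K := normalClosure (V : Set X) with hK
  have hVK : V ≤ K := le_normalClosure
  have hN : (pPrimeCore 2 K).Normal := Subgroup.sSup_normal _ (fun _ h => h.1)
  let π := QuotientGroup.mk' (pPrimeCore 2 K)
  have hker : π.ker = pPrimeCore 2 K := QuotientGroup.ker_mk' _
  obtain ⟨-, h2, ⟨T, -, h3⟩, -⟩ := Cfsg.Agent.S2775.result S V
    ⟨⟨fun a b => Subtype.ext (ab a a.2 b b.2)⟩⟩ sc K hK _ π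
    (QuotientGroup.mk'_surjective _) hker
  have cm : ∀ x ∈ omegaOne 2 (T : Subgroup (K ⧸ pPrimeCore 2 K)),
      ∀ y ∈ omegaOne 2 (T : Subgroup (K ⧸ pPrimeCore 2 K)), x * y = y * x := by
    intro x hx y hy
    obtain ⟨x', hx', rfl⟩ : x ∈ (V.subgroupOf K).map π := h3 ▸ mem_sup_right hx
    obtain ⟨y', hy', rfl⟩ : y ∈ (V.subgroupOf K).map π := h3 ▸ mem_sup_right hy
    rw [← map_mul, ← map_mul]
    congr 1
    exact Subtype.ext (ab _ hx' _ hy')
  have sq : ∀ x ∈ omegaOne 2 (T : Subgroup (K ⧸ pPrimeCore 2 K)), x * x = 1 := by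
    intro x hx
    induction hx using closure_induction with
    | mem x hx => rw [← pow_two]; exact hx.2
    | one => exact one_mul _
    | mul x y hx hy ex ey =>
      calc x * y * (x * y) = x * (y * x) * y := by group
        _ = x * x * (y * y) := by rw [cm y hy x hx]; group
        _ = 1 := by rw [ex, ey, one_mul]
    | inv x _ ex => rw [← mul_inv_rev, ex, inv_one]
  intro v hv k hk
  have hm : π ⟨v, hVK hv⟩ ∈ center (K ⧸ pPrimeCore 2 K) ⊔
      omegaOne 2 (T : Subgroup (K ⧸ pPrimeCore 2 K)) :=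
    sup_le_sup_right h2 _ (h3 ▸ mem_map_of_mem π hv)
  obtain ⟨z, hz, w, hw, e⟩ := (mem_sup_of_normal_left).1 hm
  have c : π ⟨v, hVK hv⟩ * π ⟨v, hVK hv⟩ ∈ center (K ⧸ pPrimeCore 2 K) := by
    have : z * w * (z * w) = z * z := by
      calc z * w * (z * w) = z * (w * z) * w := by group
        _ = z * z * (w * w) := by rw [mem_center_iff.1 hz w]; group
        _ = z * z := by rw [sq w hw, mul_one]
    rw [← e, this]
    exact mul_mem hz hz
  have : (⟨k, hk⟩ : K) * (⟨v, hVK hv⟩ * ⟨v, hVK hv⟩) * (⟨k, hk⟩ : K)⁻¹ *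
      (⟨v, hVK hv⟩ * ⟨v, hVK hv⟩)⁻¹ ∈ π.ker := by
    rw [MonoidHom.mem_ker, map_mul, map_mul, map_mul, map_inv, map_inv, map_mul,
      mem_center_iff.1 c (π ⟨k, hk⟩), mul_inv_cancel_right, mul_inv_cancel]
  exact mem_map_of_mem K.subtype (hker ▸ this)

variable {G : Type u} [Group G] [Finite G]

/-- The conjugates of a strongly closed abelian subgroup normalise a tightly embedded `B`. -/
theorem gold {H S V B : Subgroup G} (hS : IsSyl 2 S H) (hV : V ≤ S) (ab : Ab V)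
    (sc : ∀ x ∈ V, ∀ h ∈ H, h * x * h⁻¹ ∈ S → h * x * h⁻¹ ∈ V)
    (te : ∀ d ∈ B, Inv d → cen1 d ≤ nor B) (h4 : Four (V ⊓ B)) {v : G} (hv : v ∈ V ⊓ B)
    (iv : Inv (v * v)) : ∀ h ∈ H, cj h V ≤ nor B := by
  obtain ⟨S', hS'⟩ := hS.exists_sylow
  have hVH : V ≤ H := hV.trans hS.le
  have g0 := gold0 S' (V.subgroupOf H) (fun a ha b hb => Subtype.ext (ab _ ha _ hb))
    ⟨by rw [hS']; exact fun x hx => hV hx, fun x hx g hg => by
      rw [hS'] at hg; exact sc _ hx _ g.2 hg⟩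
  set K := normalClosure ((V.subgroupOf H : Subgroup H) : Set H) with hK
  set O := (opp 2 K).map H.subtype with hO
  have cO : (Nat.card O).Coprime 2 := by
    rw [hO, card_map_of_injective H.subtype_injective]; exact coprime_card_opp K
  have nO : ∀ x ∈ V, x ∈ nor O := fun x hx =>
    map_le_normalizer_map H.subtype (self_le_normalizer_opp (p := 2) K)
      (mem_map_of_mem H.subtype (x := ⟨x, hVH hx⟩) (le_normalClosure (mem_subgroupOf.2 hx)))
  have OB : O ≤ nor B := by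
    obtain ⟨s, hs, t, ht, is, it, ne, cm⟩ := h4
    exact le_of_four (inv_iff.1 is) (inv_iff.1 it) cm ne cO (nO s hs.1) (nO t ht.1)
      (inf_le_right.trans (te s hs.2 is)) (inf_le_right.trans (te t ht.2 it))
      (inf_le_right.trans (te _ (mul_mem hs.2 ht.2) (is.mul it ne cm)))
  have KB : ∀ k ∈ K, (k : G) ∈ nor B := by
    intro k hk
    have m : (k : G) * (v * v) * (k : G)⁻¹ * (v * v) ∈ O := by
      have := mem_map_of_mem H.subtype (g0 ⟨v, hVH hv.1⟩ (mem_subgroupOf.2 hv.1) k hk)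
      simp only [map_mul, map_inv, subtype_apply] at this
      rwa [iv.inv_eq] at this
    obtain ⟨j, hj⟩ := H5.FEG.conj_odd (iv.conj (k : G)).2 iv.2
      ((Nat.coprime_two_right.1 cO).of_dvd_nat (orderOf_dvd_natCard _ m))
    set o := ((k : G) * (v * v) * (k : G)⁻¹ * (v * v)) ^ j
    have ho : o ∈ nor B := OB (pow_mem m j)
    have : o⁻¹ * k ∈ nor B := te _ (mul_mem hv.2 hv.2) iv (mem_centralizer_singleton_iff.2 (by
      calc o⁻¹ * k * (v * v) = o⁻¹ * ((k : G) * (v * v) * (k : G)⁻¹) * k := by group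
        _ = v * v * (o⁻¹ * k) := by rw [← hj]; group))
    simpa using mul_mem ho this
  intro h hh x hx
  have e : x = h * (h⁻¹ * x * h) * h⁻¹ := by group
  rw [e]
  exact KB (⟨h, hh⟩ * ⟨_, hVH (mem_cj.1 hx)⟩ * ⟨h, hh⟩⁻¹)
    ((normalClosure_normal).conj_mem _ (le_normalClosure (mem_subgroupOf.2 (mem_cj.1 hx))) _)

/-- A step in a 2-group. -/
theorem step {P Y V : Subgroup G} (hP : IsPGroup 2 P) (hV : V ≤ P) (hl : Y < V) (nY : P ≤ nor Y)
    (nV : P ≤ nor V) : ∃ w ∈ V, w ∉ Y ∧ w * w ∈ Y ∧ ∀ p ∈ P, ⁅w, p⁆ ∈ Y := by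
  haveI : (Y.subgroupOf P).Normal := (normal_subgroupOf_iff_le_normalizer (hl.le.trans hV)).2 nY
  haveI : (V.subgroupOf P).Normal := (normal_subgroupOf_iff_le_normalizer hV).2 nV
  let π := QuotientGroup.mk' (Y.subgroupOf P)
  have hQ : IsPGroup 2 (P ⧸ Y.subgroupOf P) := hP.to_quotient _
  haveI : ((V.subgroupOf P).map π).Normal := Normal.map inferInstance π (QuotientGroup.mk'_surjective _)
  obtain ⟨s, hs, is, hc⟩ := exists_inv_cen_two (H := ⊤) (P := (V.subgroupOf P).map π)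
    (hQ.to_subgroup _) (hQ.to_subgroup _) (normalizer_eq_top _).ge (by
      intro e
      obtain ⟨v, hv, hv'⟩ := SetLike.exists_of_lt hl
      have : π ⟨v, hV hv⟩ = 1 := mem_bot.1 (e ▸ mem_map_of_mem π (mem_subgroupOf.2 hv))
      exact hv' (mem_subgroupOf.1 ((QuotientGroup.eq_one_iff _).1 this)))
  obtain ⟨w, hw, rfl⟩ := hs
  refine ⟨w, hw, fun e => is.1 ((QuotientGroup.eq_one_iff _).2 (mem_subgroupOf.2 e)), ?_, fun p hp => ?_⟩
  · exact mem_subgroupOf.1 ((QuotientGroup.eq_one_iff (w * w)).1 is.2)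
  · have : π ⁅w, ⟨p, hp⟩⁆ = 1 := by
      rw [map_commutatorElement, commutatorElement_eq_one_iff_mul_comm]
      exact (mem_centralizer_iff.1 hc _ (mem_top _)).symm
    exact mem_subgroupOf.1 ((QuotientGroup.eq_one_iff _).1 this)

end H85.X1
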