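import Cfsg.Agent.H85.X1A
import Cfsg.Agent.H67.FeCS

/-! Chapter X1 (S1308): the weak closure `W` and the clique group `L`. -/

set_option autoImplicit false
set_option linter.unusedSectionVars false

namespace H85.X1

open Cfsg Subgroup MulAction H14 H98 H1.Gold H31.S2 H14.GC H14.FE
open scoped commutatorElement

universe u

section Defs

variable {G : Type u} [Group G]

/-- A 2-element that normalises a vertex centralises its part of the 2-group. -/
def FC (K : Subgroup G) : Prop := ∀ B, Vx K B → ∀ P : Subgroup G, IsPGroup 2 P → ∀ x ∈ P, x ∈ nor B →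
  ∀ y ∈ P, y ∈ B → x * y = y * x

/-- The subgroup generated by the vertex elements of `P`. -/
def W (K P : Subgroup G) : Subgroup G := closure {x | x ∈ P ∧ ∃ B, Vx K B ∧ x ∈ B}

def Full (K V : Subgroup G) : Prop := ∃ S, IsSyl 2 S ⊤ ∧ V = W K S

def L (K V : Subgroup G) : Subgroup G := sSup (FE.CP K V)

end Defs

variable {G : Type u} [Group G] [Finite G] {K P Q V V' B H J I : Subgroup G} {g x : G}

theorem W_le (K P : Subgroup G) : W K P ≤ P := (closure_le _).2 fun _ h => h.1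

theorem mem_W (hx : x ∈ P) (hB : Vx K B) (h : x ∈ B) : x ∈ W K P := subset_closure ⟨hx, B, hB, h⟩

theorem W_le_W (h : W K P ≤ Q) : W K P ≤ W K Q :=
  (closure_le _).2 fun _ hx => subset_closure ⟨h (subset_closure hx), hx.2⟩

theorem cj_W_le (g : G) (P : Subgroup G) : cj g (W K P) ≤ W K (cj g P) := by
  rw [cj_le_iff]
  refine (closure_le _).2 fun x ⟨hx, B, hB, h⟩ => mem_cj.2 ?_
  simpa using mem_W (conj_mem_cj hx) (vx_cj hB g) (conj_mem_cj h)

theorem cj_W (g : G) (P : Subgroup G) : cj g (W K P) = W K (cj g P) := by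
  refine le_antisymm (cj_W_le g P) ?_
  have := cj_W_le (K := K) g⁻¹ (cj g P)
  rwa [cj_inv_cj, ← le_cj_iff] at this

theorem W_ab (mc : MC K) (fc : FC K) (hP : IsPGroup 2 P) : Ab (W K P) := by
  have h1 : ∀ x, (x ∈ P ∧ ∃ B, Vx K B ∧ x ∈ B) → W K P ≤ cen1 x := by
    rintro x ⟨hx, B, hB, h⟩
    refine (closure_le _).2 fun y ⟨hy, B', hB', h'⟩ => mem_centralizer_singleton_iff.2 ?_
    by_cases e : B' = B
    · subst e; exact fc _ hB P hP y hy (le_normalizer h') x hx h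
    · exact mc.comm hB' hB e hP h' h hy hx
  intro a ha b hb
  have : W K P ≤ cen1 a :=
    (closure_le _).2 fun y hy => mem_centralizer_singleton_iff.2
      (mem_centralizer_singleton_iff.1 (h1 y hy ha)).symm
  exact (mem_centralizer_singleton_iff.1 (this hb)).symm

theorem Full.two (h : Full K V) : IsPGroup 2 V := by
  obtain ⟨S, hS, rfl⟩ := h
  exact hS.isPGroup.to_le (W_le K S)

theorem Full.ab (mc : MC K) (fc : FC K) (h : Full K V) : Ab V := by
  obtain ⟨S, hS, rfl⟩ := h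
  exact W_ab mc fc hS.isPGroup

theorem Full.cj (h : Full K V) (g : G) : Full K (cj g V) := by
  obtain ⟨S, hS, rfl⟩ := h
  exact ⟨_, hS.cj_of_mem (mem_top g), cj_W g S⟩

theorem Full.card (h : Full K V) (h' : Full K V') : Nat.card V = Nat.card V' := by
  obtain ⟨S, hS, rfl⟩ := h
  obtain ⟨S', hS', rfl⟩ := h'
  obtain ⟨g, -, rfl⟩ := hS.exists_cj_eq hS'
  rw [← cj_W, card_cj]

theorem Full.eq_of_le (h : Full K V) (h' : Full K V') (hl : V ≤ V') : V = V' :=
  eq_of_le_of_card_ge hl (h.card h').ge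

theorem Full.W_eq (h : Full K V) (hP : IsPGroup 2 P) (hl : V ≤ P) : W K P = V := by
  obtain ⟨S', hS', h1⟩ := exists_isSyl_le hP (le_top : P ≤ ⊤)
  have h2 : V ≤ W K P := by
    obtain ⟨S, -, rfl⟩ := h
    exact W_le_W hl
  have h3 : W K P ≤ W K S' := W_le_W ((W_le K P).trans h1)
  exact le_antisymm (h3.trans (h.eq_of_le ⟨S', hS', rfl⟩ (h2.trans h3)).ge) h2

theorem Full.le_nor (h : Full K V) (hP : IsPGroup 2 P) (hl : V ≤ P) : P ≤ nor V := fun g hg => by
  rw [← cj_eq_self_iff, ← h.W_eq hP hl, cj_W, cj_eq_self_of_mem hg]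

theorem Full.conj (h : Full K V) (h' : Full K V') (h1 : V ≤ H) (h2 : V' ≤ H) :
    ∃ c ∈ H, H98.cj c V = V' := by
  obtain ⟨P, hP, l1⟩ := exists_isSyl_le h.two h1
  obtain ⟨P', hP', l2⟩ := exists_isSyl_le h'.two h2
  obtain ⟨c, hc, e⟩ := hP.exists_cj_eq hP'
  exact ⟨c, hc, by rw [← h.W_eq hP.isPGroup l1, cj_W, e, h'.W_eq hP'.isPGroup l2]⟩

theorem Full.eq_of_nor (h : Full K V) (h' : Full K V') (hn : V' ≤ nor V) : V' = V := by
  have h2 := h.two.to_sup_of_normal_left' h'.two hn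
  rw [← h.W_eq h2 le_sup_left, h'.W_eq h2 le_sup_right]

theorem CP_W (K S : Subgroup G) : FE.CP K (W K S) = FE.CP K S := by
  ext B
  refine ⟨fun h => ⟨h.1, fun e => h.2 (le_bot_iff.1 (e ▸ inf_le_inf_right B (W_le K S)))⟩,
    fun h => ⟨h.1, fun e => h.2 (le_bot_iff.1 (e ▸ fun x hx => ⟨mem_W hx.1 h.1 hx.2, hx.2⟩))⟩⟩

theorem Full.mclq (mc : MC K) (h : Full K V) : MClq K (FE.CP K V) := by
  obtain ⟨S, hS, rfl⟩ := h
  rw [CP_W]
  exact ((H67.FeCS.jobCS G K mc).1 S hS).1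

theorem Full.syl (mc : MC K) (h : Full K V) (hB : B ∈ FE.CP K V) : IsSyl 2 (V ⊓ B) B := by
  obtain ⟨S, hS, rfl⟩ := h
  rw [CP_W] at hB
  have h1 := ((H67.FeCS.jobCS G K mc).1 S hS).2.1 B hB
  have : W K S ⊓ B = S ⊓ B :=
    le_antisymm (inf_le_inf_right B (W_le K S)) fun x hx => ⟨mem_W hx.1 hB.1 hx.2, hx.2⟩
  rwa [this]

theorem cj_L_le (g : G) (V : Subgroup G) : cj g (L K V) ≤ L K (cj g V) := by
  rw [cj_le_iff]
  refine sSup_le fun B hB => ?_
  rw [← cj_le_iff]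
  exact le_sSup (H67.FeCS.cj_mem_CP hB g)

theorem cj_L (g : G) (V : Subgroup G) : cj g (L K V) = L K (cj g V) := by
  refine le_antisymm (cj_L_le g V) ?_
  have := cj_L_le (K := K) g⁻¹ (cj g V)
  rwa [cj_inv_cj, ← le_cj_iff] at this

theorem nor_le_nor_L : nor V ≤ nor (L K V) := fun g hg => by
  rw [← cj_eq_self_iff, cj_L, cj_eq_self hg]

theorem Full.le_L (h : Full K V) : V ≤ L K V := by
  obtain ⟨S, hS, rfl⟩ := h
  refine (closure_le _).2 fun x ⟨hx, B, hB, h⟩ => ?_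
  by_cases e : x = 1
  · rw [e]; exact one_mem _
  · exact (le_sSup (mem_CP hB (mem_W hx hB h) h e) : B ≤ L K _) h

theorem Full.syl_L (mc : MC K) (h : Full K V) : IsSyl 2 V (L K V) := by
  have hl := h.le_L
  obtain ⟨S, hS, rfl⟩ := h
  have h1 := ((H67.FeCS.jobCS G K mc).1 S hS).2.2
  have h2 : IsSyl 2 (S ⊓ L K (W K S)) (L K (W K S)) := hS.inf_of_le_normalizer le_top
    ((Full.le_nor ⟨S, hS, rfl⟩ hS.isPGroup (W_le K S)).trans nor_le_nor_L)
  have : S ⊓ L K (W K S) = W K S := by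
    refine le_antisymm ?_ (le_inf (W_le K S) hl)
    rw [L, CP_W]
    exact h1.trans (iSup₂_le fun B hB x hx => mem_W hx.1 hB.1 hx.2)
  rwa [this] at h2

theorem Full.of_syl (mc : MC K) (h : Full K V) (hP : IsSyl 2 P (L K V)) : Full K P ∧ L K P = L K V := by
  obtain ⟨l, hl, rfl⟩ := (h.syl_L mc).exists_cj_eq hP
  exact ⟨h.cj l, by rw [← cj_L, cj_eq_self_of_mem hl]⟩

theorem Full.L_eq (mc : MC K) (h : Full K V) (h' : Full K V') (hn : V' ≤ nor (L K V)) :
    L K V' = L K V := by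
  obtain ⟨P, hP, h1, h2⟩ := exists_inv_syl h'.two hn
  obtain ⟨h3, h4⟩ := h.of_syl mc h2
  rw [h3.eq_of_nor h' (le_normalizer_inf (h1.trans le_normalizer) hn), h4]

theorem Full.mem_nor (mc : MC K) (h : Full K V) (hn : H98.cj g V ≤ nor (L K V)) : g ∈ nor (L K V) := by
  rw [← cj_eq_self_iff, cj_L, h.L_eq mc (h.cj g) hn]

theorem ab_le_cen (h : Ab V) (hl : J ≤ V) : V ≤ cen J := fun v hv =>
  mem_centralizer_iff.2 fun j hj => h j (hl hj) v hv

/-- `I` is maximal. -/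
structure Mx (K I V : Subgroup G) : Prop where
  full : Full K V
  le : I ≤ V
  mx : ∀ J, I < J → J ≤ V → cen J ≤ nor (L K V)

theorem cj_eq_of_cen (hg : g ∈ cen I) : cj g I = I := cj_eq_self (centralizer_le_normalizer _ hg)

theorem Mx.cj (h : Mx K I V) (hg : g ∈ cen I) : Mx K I (cj g V) := by
  refine ⟨h.full.cj g, cj_eq_of_cen hg ▸ cj_mono g h.le, fun J h1 h2 => ?_⟩
  have := h.mx (H98.cj g⁻¹ J) (by
    rw [← cj_eq_of_cen (inv_mem hg)]; exact cj_lt_cj_iff.2 h1) (le_cj_iff.1 h2)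
  have e : nor (H98.cj g (L K V)) = H98.cj g (nor (L K V)) := (cj_normalizer _ _).symm
  rw [← cj_L, e, le_cj_iff, cj_centralizer]
  exact this

theorem Mx.nor_le (mc : MC K) (fc : FC K) (h : Mx K I V) (h1 : I < J) (h2 : J ≤ V) :
    nor J ≤ nor (L K V) := fun g hg =>
  h.full.mem_nor mc ((cj_le_of_le (ab_le_cen (h.full.ab mc fc) h2)
    (normalizer_le_normalizer_centralizer J hg)).trans (h.mx J h1 h2))

theorem Mx.inf_le (mc : MC K) (fc : FC K) (h : Mx K I V) (h' : Full K V') (hI : I ≤ V')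
    (ne : L K V' ≠ L K V) : V' ⊓ L K V ≤ I := by
  by_contra hn
  have lt : I < V' ⊓ L K V := lt_of_le_not_ge (le_inf hI (h.le.trans h.full.le_L)) hn
  obtain ⟨P, hP, h1⟩ := exists_isSyl_le (h'.two.to_le (inf_le_left : V' ⊓ L K V ≤ V')) inf_le_right
  obtain ⟨h3, h4⟩ := h.full.of_syl mc hP
  obtain ⟨c, hc, rfl⟩ := h.full.conj h3 (ab_le_cen (h.full.ab mc fc) h.le)
    (ab_le_cen (h3.ab mc fc) (lt.le.trans h1))
  have := (h.cj hc).mx _ lt h1
  rw [h4] at this
  exact ne (h.full.L_eq mc h' ((ab_le_cen (h'.ab mc fc) inf_le_left).trans this))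

end H85.X1
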