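import Cfsg.Agent.H85.X1B

/-! Chapter X1 (S1308): the clique group is normal. -/

set_option autoImplicit false
set_option linter.unusedSectionVars false

namespace H85.X1

open Cfsg Subgroup MulAction H14 H98 H1.Gold H31.S2 H14.GC H14.FE
open scoped commutatorElement

universe u

variable {G : Type u} [Group G] [Finite G] {K P Q V V' B H J I : Subgroup G} {g x : G}

theorem key (mc : MC K) (fc : FC K) (h' : Full K V') (hB : Vx K B) {s u : G} (hs : s ∈ B) (is : Inv s)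
    (e1 : s * x * s⁻¹ = x * u) (e2 : s * u = u * s) (hx : x ∈ V') (hu : u ∈ V') : x ∈ nor B := by
  have ab := h'.ab mc fc
  set Z : Subgroup G := cen1 x ⊓ cen1 u with hZ
  have hs' : s ∈ nor Z := by
    refine mem_normalizer_of_cj_le fun z hz => ?_
    obtain ⟨h1, h2⟩ := mem_cj.1 hz
    have h1 := mem_centralizer_singleton_iff.1 h1
    have h2 := mem_centralizer_singleton_iff.1 h2
    have h3 : z * u = u * z := by
      calc z * u = s * (s⁻¹ * z * s * u) * s⁻¹ * (s * u⁻¹ * s⁻¹ * u) := by group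
        _ = s * (u * (s⁻¹ * z * s)) * s⁻¹ * (s * u⁻¹ * s⁻¹ * u) := by rw [h2]
        _ = (s * u) * s⁻¹ * z * (u * s)⁻¹⁻¹ * (s * u)⁻¹ * ((s * u) * (u * s)⁻¹)
            * (u * s) * u⁻¹ * s⁻¹ * u * ((u * s)⁻¹ * (u * s)) * ((u * s)⁻¹ * (u * s))
            * (((u * s) * u⁻¹ * s⁻¹ * u)⁻¹ * (s * u⁻¹ * s⁻¹ * u)) := by group
        _ = u * z := by
          have : s * u⁻¹ * s⁻¹ * u = 1 := by
            rw [show s * u⁻¹ * s⁻¹ * u = s * (s * u)⁻¹ * u by group, e2]; group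
          rw [this, e2]; group
    have h4 : z * (x * u) = x * u * z := by
      rw [← e1]
      calc z * (s * x * s⁻¹) = s * (s⁻¹ * z * s * x) * s⁻¹ := by group
        _ = s * x * s⁻¹ * z := by rw [h1]; group
    refine ⟨mem_centralizer_singleton_iff.2 ?_, mem_centralizer_singleton_iff.2 h3⟩
    calc z * x = z * (x * u) * u⁻¹ := by group
      _ = x * (u * z) * u⁻¹ := by rw [h4]; group
      _ = x * z := by rw [← h3]; group
  obtain ⟨P, hP, h1, h2⟩ := exists_inv_syl is.isPGroup (zpowers_le.2 hs')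
  have hV : V' ≤ Z := fun v hv =>
    ⟨mem_centralizer_singleton_iff.2 (ab v hv x hx), mem_centralizer_singleton_iff.2 (ab v hv u hu)⟩
  obtain ⟨c, hc, h3⟩ := h2.exists_cj_le h'.two hV
  have h4 := (h'.cj c).W_eq hP.isPGroup (h3.trans inf_le_left)
  have h5 : s ∈ cj c V' := h4 ▸ mem_W (h1 (mem_zpowers s)) hB hs
  have h6 : x ∈ cj c V' := by
    have := conj_mem_cj (g := c) hx
    rwa [mem_centralizer_singleton_iff.1 hc.1, mul_inv_cancel_right] at this
  exact mc.toMN.cen_le hB hs is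
    (mem_centralizer_singleton_iff.2 ((h'.cj c).ab mc fc x h6 s h5))

theorem exists_four (hP : IsPGroup 2 P) (h : ¬ El P) : ∃ t ∈ P, Inv (t * t) := by
  classical
  obtain ⟨a, ha, a2⟩ : ∃ a ∈ P, a * a ≠ 1 := by
    by_contra e
    push Not at e
    exact h e
  obtain ⟨n, hn⟩ := isPGroup_iff_forall.1 hP a ha
  have ex : ∃ k, a ^ 2 ^ (k + 2) = 1 := ⟨n, by rw [pow_add, pow_mul, hn, one_pow]⟩
  have e : ∀ k, a ^ 2 ^ k * a ^ 2 ^ k = a ^ 2 ^ (k + 1) := fun k => by rw [← pow_add]; congr 1; ring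
  refine ⟨a ^ 2 ^ Nat.find ex, pow_mem ha _, ?_, ?_⟩
  · rw [e]
    rcases h0 : Nat.find ex with _ | k
    · simpa [pow_two] using a2
    · exact Nat.find_min ex (by omega : k < Nat.find ex)
  · rw [e, e]; exact Nat.find_spec ex

theorem mem_nor_of (hI : x ∈ cen I) {u : G} (hu : u ∈ cen I) (h : ⁅x, u⁆ ∈ I) :
    x ∈ nor (I ⊔ zpowers u) := by
  refine mem_normalizer_of_cj_le ?_
  rw [cj_sup, cj_eq_of_cen hI]
  refine sup_le le_sup_left ?_
  rw [cj, MonoidHom.map_zpowers, zpowers_le]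
  have : x * u * x⁻¹ = ⁅x, u⁆ * u := by rw [commutatorElement_def]; group
  change x * u * x⁻¹ ∈ _
  rw [this]
  exact mul_mem (mem_sup_left h) (mem_sup_right (mem_zpowers u))

theorem sq_mem (mc : MC K) (fc : FC K) (h : Mx K I V) (h' : Full K V') (hI : I ≤ V')
    (ne : L K V' ≠ L K V) {δ : G} (hδ : δ ∈ V) (hn : δ ∈ nor V') : δ * δ ∈ I := by
  by_contra hu
  have ab := h.full.ab mc fc
  have ab' := h'.ab mc fc
  have cV : V ≤ cen I := ab_le_cen ab h.le
  have cV' : V' ≤ cen I := ab_le_cen ab' hI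
  have lt : I < I ⊔ zpowers (δ * δ) :=
    lt_of_le_not_ge le_sup_left fun e => hu (e (mem_sup_right (mem_zpowers _)))
  have nJ := h.nor_le mc fc lt (sup_le h.le (zpowers_le.2 (mul_mem hδ hδ)))
  have c1 : ∀ a ∈ V', ∀ b ∈ V', ∀ d ∈ nor V', ⁅a * b, d⁆ = ⁅a, d⁆ * ⁅b, d⁆ := by
    intro a ha b hb d hd
    have := ab' a ha _ (comm_mem_left hb hd)
    calc ⁅a * b, d⁆ = a * ⁅b, d⁆ * a⁻¹ * ⁅a, d⁆ := by simp only [commutatorElement_def]; group
      _ = ⁅b, d⁆ * ⁅a, d⁆ := by rw [this]; group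
      _ = _ := ab' _ (comm_mem_left hb hd) _ (comm_mem_left ha hd)
  have hn2 : δ * δ ∈ nor V' := mul_mem hn hn
  let Y : Subgroup G :=
    { carrier := {w | w ∈ V' ∧ ⁅w, δ * δ⁆ ∈ I}
      one_mem' := ⟨one_mem _, by simp⟩
      mul_mem' := fun {a b} ha hb => ⟨mul_mem ha.1 hb.1, by
        rw [c1 a ha.1 b hb.1 _ hn2]; exact mul_mem ha.2 hb.2⟩
      inv_mem' := fun {a} ha => ⟨inv_mem ha.1, by
        have := c1 a ha.1 _ (inv_mem ha.1) _ hn2
        rw [mul_inv_cancel, commutatorElement_one_left] at this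
        rw [eq_inv_of_mul_eq_one_right this.symm]; exact inv_mem ha.2⟩ }
  have YM : ∀ w ∈ Y, w ∈ nor (L K V) := fun w hw =>
    nJ (mem_nor_of (cV' hw.1) (cV (mul_mem hδ hδ)) hw.2)
  have Yd : ∀ w ∈ Y, ⁅w, δ⁆ ∈ I := fun w hw =>
    h.inf_le mc fc h' hI ne ⟨comm_mem_left hw.1 hn, comm_mem_right (YM w hw) (h.full.le_L hδ)⟩
  have d2 : IsPGroup 2 (zpowers δ) := h.full.two.to_le (zpowers_le.2 hδ)
  by_cases e : V' ≤ Y
  · exact ne (h.full.L_eq mc h' fun w hw => YM w (e hw))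
  have lt' : Y < V' := lt_of_le_not_ge (fun _ hw => hw.1) e
  have IY : I ≤ Y := fun i hi => ⟨hI hi, by
    rw [commutatorElement_eq_one_iff_mul_comm.2 (ab i (h.le hi) _ (mul_mem hδ hδ))]; exact one_mem _⟩
  have nY : V' ⊔ zpowers δ ≤ nor Y := by
    refine sup_le (fun v hv => centralizer_le_normalizer _ (ab_le_cen ab' lt'.le hv))
      (zpowers_le.2 (mem_normalizer_of_cj_le ?_))
    rintro _ ⟨w, hw, rfl⟩
    have : δ * w * δ⁻¹ = w⁻¹⁻¹ * ⁅w⁻¹, δ⁆ := by rw [commutatorElement_def]; group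
    change δ * w * δ⁻¹ ∈ Y
    rw [this]
    exact mul_mem (inv_mem (inv_mem hw)) (IY (Yd _ (inv_mem hw)))
  obtain ⟨w, hw, w1, w2, w3⟩ := step (h'.two.to_sup_of_normal_left' d2 (zpowers_le.2 hn))
    le_sup_left lt' nY (sup_le le_normalizer (zpowers_le.2 hn))
  have w4 := w3 δ (mem_sup_right (mem_zpowers δ))
  refine w1 ⟨hw, ?_⟩
  have e3 : ⁅w, δ * δ⁆ = ⁅w, δ⁆ * ⁅w, δ⁆ * ⁅⁅w, δ⁆⁻¹, δ⁆ := by
    simp only [commutatorElement_def]; group
  rw [e3, ← c1 w hw w hw δ hn]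
  exact mul_mem (Yd _ w2) (Yd _ (inv_mem w4))

theorem bad (mc : MC K) (fc : FC K) (nel : ∀ B, Vx K B → ∀ R, IsSyl 2 R B → ¬ El R) (h : Mx K I V)
    (h' : Full K V') (hI : I ≤ V') (hx : x ∈ V') (xn : x ∈ nor V) (x2 : x * x ∈ V) : x ∈ V := by
  by_contra hxV
  have ab := h.full.ab mc fc
  have ab' := h'.ab mc fc
  have two : IsPGroup 2 (zpowers x) := h'.two.to_le (zpowers_le.2 hx)
  have hP : IsPGroup 2 (V ⊔ zpowers x : Subgroup G) :=
    h.full.two.to_sup_of_normal_left' two (zpowers_le.2 xn)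
  obtain ⟨P, hP1, hP2⟩ := exists_isSyl_le (H := cen I ⊓ cen1 x)
    (h.full.two.to_le (inf_le_left : V ⊓ cen1 x ≤ V)) (inf_le_inf_right _ (ab_le_cen ab h.le))
  obtain ⟨c, hc, h3⟩ := hP1.exists_cj_le h'.two (le_inf (ab_le_cen ab' hI) fun v hv =>
    mem_centralizer_singleton_iff.2 (ab' v hv x hx))
  have f := h'.cj c
  have hI2 : I ≤ cj c V' := cj_eq_of_cen hc.1 ▸ cj_mono c hI
  have hx2 : x ∈ cj c V' := by
    have := conj_mem_cj (g := c) hx
    rwa [mem_centralizer_singleton_iff.1 hc.2, mul_inv_cancel_right] at this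
  have nn : V ⊓ cen1 x ≤ nor (cj c V') := hP2.trans (f.le_nor hP1.isPGroup h3)
  have ne : L K (cj c V') ≠ L K V := fun e =>
    hxV ((h.full.syl_L mc).le_of_le_normalizer' two (zpowers_le.2 (e ▸ f.le_L hx2))
      (zpowers_le.2 xn) (mem_zpowers x))
  obtain ⟨B, hB, xB⟩ : ∃ B ∈ FE.CP K V, x ∉ nor B := by
    by_contra e
    push Not at e
    have l : V ≤ cen1 x := by
      have := h.full.W_eq h.full.two le_rfl
      rw [← this]
      refine (closure_le _).2 fun y ⟨hy, B, hB, yB⟩ => mem_centralizer_singleton_iff.2 ?_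
      by_cases y1 : y = 1
      · simp [y1]
      · exact (fc B hB _ hP x (mem_sup_right (mem_zpowers x)) (e B (mem_CP hB hy yB y1)) y
          (mem_sup_left hy) yB).symm
    exact hxV (f.eq_of_nor h.full ((le_inf le_rfl l).trans nn) ▸ hx2)
  obtain ⟨t, ht, is⟩ := exists_four (h.full.syl mc hB).isPGroup (nel B hB.1 _ (h.full.syl mc hB))
  have t' : x * t * x⁻¹ ∈ V := conj_mem_of_mem_normalizer xn ht.1
  have q1 : x * x * t = t * (x * x) := ab _ x2 _ ht.1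
  have q2 : t * (x * t * x⁻¹) = x * t * x⁻¹ * t := ab _ ht.1 _ t'
  have dc : t * (x * t * x⁻¹) ∈ cen1 x := mem_centralizer_singleton_iff.2 (by
    calc t * (x * t * x⁻¹) * x = t * x * t := by group
      _ = t * (x * x) * (x⁻¹ * t) := by group
      _ = x * (x * t * x⁻¹ * t) := by rw [← q1]; group
      _ = _ := by rw [← q2])
  have hu := sq_mem mc fc h f hI2 ne (mul_mem ht.1 t') (nn ⟨mul_mem ht.1 t', dc⟩)
  refine xB (key mc fc f hB.1 (mul_mem ht.2 ht.2) is ?_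
    (ab _ (mul_mem ht.1 ht.1) _ (h.le hu)) hx2 (hI2 hu))
  have q3 : x * (x * t * x⁻¹) = t * x := by
    calc x * (x * t * x⁻¹) = x * x * t * x⁻¹ := by group
      _ = t * x := by rw [q1]; group
  rw [is.inv_eq]
  generalize x * t * x⁻¹ = r at q2 q3
  have e1 : t * t * x = x * (r * r) := by
    calc t * t * x = t * (x * r) := by rw [q3, mul_assoc]
      _ = x * (r * r) := by rw [← mul_assoc, ← q3, mul_assoc]
  have cm : Commute t r := q2
  have e2 : t * r * (t * r) = r * r * (t * t) := by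
    rw [← pow_two, cm.mul_pow, (cm.pow_pow 2 2).eq, pow_two, pow_two]
  rw [e1, e2, mul_assoc]

theorem core (mc : MC K) (fc : FC K) (nel : ∀ B, Vx K B → ∀ R, IsSyl 2 R B → ¬ El R)
    (h : Full K V) : ⊤ ≤ nor (L K V) := by
  classical
  by_contra hn
  obtain ⟨I, ⟨hI, hI'⟩, mx⟩ := (Set.toFinite {J : Subgroup G | J ≤ V ∧ ¬ cen J ≤ nor (L K V)}).exists_maximal
    ⟨⊥, bot_le, by rwa [cen, centralizer_bot']⟩
  have hM : Mx K I V := ⟨h, hI, fun J h1 h2 => by
    by_contra e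
    exact h1.not_ge (mx ⟨h2, e⟩ h1.le)⟩
  have ab := h.ab mc fc
  obtain ⟨S, hS, hVS⟩ := exists_isSyl_le h.two (ab_le_cen ab hI)
  have sn := h.le_nor hS.isPGroup hVS
  have sc : ∀ x ∈ V, ∀ g ∈ cen I, g * x * g⁻¹ ∈ S → g * x * g⁻¹ ∈ V := by
    intro x hx g hg hm
    have m := hM.cj hg
    have aux : ∀ n : ℕ, ∀ y ∈ cj g V, y ∈ S → y ^ 2 ^ n ∈ V → y ∈ V := by
      intro n
      induction n with
      | zero => intro y _ _ e; simpa using e
      | succ n ih =>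
        intro y h1 h2 e
        refine bad mc fc nel hM m.full m.le h1 (sn h2) (ih _ (mul_mem h1 h1) (mul_mem h2 h2) ?_)
        rwa [← pow_two, ← pow_mul, ← pow_succ']
    obtain ⟨n, e⟩ := isPGroup_iff_forall.1 hS.isPGroup _ hm
    exact aux n _ (conj_mem_cj hx) hm (e ▸ one_mem _)
  refine hI' fun g hg => h.mem_nor mc fun y hy => ?_
  rw [← cj_eq_self_iff, cj, L, sSup_eq_iSup', Subgroup.map_iSup]
  refine iSup_congr fun B => cj_eq_self ?_
  have s := h.syl mc B.2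
  obtain ⟨v, hv, iv⟩ := exists_four s.isPGroup (nel _ B.2.1 _ s)
  exact gold hS hVS ab sc (fun d hd id => mc.toMN.cen_le B.2.1 hd id)
    (syl_four s (mc.four _ B.2.1)) hv iv g hg hy

/-- All vertices normalise each other. -/
theorem all_nor (mc : MC K) (fc : FC K) (nel : ∀ B, Vx K B → ∀ R, IsSyl 2 R B → ¬ El R)
    {B B' : Subgroup G} (hB : Vx K B) (hB' : Vx K B') : B ≤ nor B' := by
  obtain ⟨d, hd, id⟩ := four_exists_inv (mc.four B' hB')
  obtain ⟨S, hS, hl⟩ := exists_isSyl_le id.isPGroup (le_top : _ ≤ (⊤ : Subgroup G))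
  have f : Full K (W K S) := ⟨S, hS, rfl⟩
  have m : B' ∈ FE.CP K (W K S) := mem_CP hB' (mem_W (hl (mem_zpowers d)) hB' hd) hd id.1
  obtain ⟨g, rfl⟩ := hB'.exists_cj hB
  exact (cj_le_of_le (le_sSup m : B' ≤ L K _) (core mc fc nel f (mem_top g))).trans
    (sSup_le fun B1 h1 => (f.mclq mc).1.2 B1 h1 B' m)

end H85.X1
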