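import Cfsg.Agent.H85.X1C
import Cfsg.Agent.H14.NF0
import Cfsg.Agent.H62.FEF3a
import Cfsg.Agent.H77.FeMQ
import Cfsg.Agent.H54.NFAb

/-! Chapter X1 (S1308): an abelian non-cyclic edge group is elementary. -/

set_option autoImplicit false
set_option linter.unusedSectionVars false

namespace H85.X1

open Cfsg Subgroup MulAction H14 H98 H1.Gold H31.S2 H14.GC H14.FE
open scoped commutatorElement

universe u

/-- The setting inside the group `K T`. -/
structure Hy {G : Type u} [Group G] (A K : Subgroup G) : Prop where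
  cm : ∀ x y : G, ⁅x, y⁆ ∈ A
  pw : ∀ x : G, ∃ n : ℕ, x ^ 2 ^ n ∈ A
  ti : ∀ c d : G, Inv d → d ∈ K → c⁻¹ * d * c ∈ K → c ∈ nor K
  ni : NI (K ⊓ A)
  four : Four K
  nel : ∀ R, IsSyl 2 R K → ¬ El R

variable {G : Type u} [Group G] [Finite G] {A K B B' U : Subgroup G} {d : G}

theorem Hy.niB [hA : A.Normal] (h : Hy A K) (hB : Vx K B) : NI (B ⊓ A) := by
  obtain ⟨g, rfl⟩ := hB
  intro d hd i
  exact h.ni (g⁻¹ * d * g) ⟨mem_cj.1 hd.1, hA.conj_mem' _ hd.2 g⟩ (by simpa using i.conj g⁻¹)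

theorem Hy.tiB (h : Hy A K) (hB : Vx K B) (hB' : Vx K B') (ne : B ≠ B') : NI (B ⊓ B') := by
  obtain ⟨a, rfl⟩ := hB
  obtain ⟨b, rfl⟩ := hB'
  intro d hd i
  have h1 := h.ti (a⁻¹ * b) (a⁻¹ * d * a) (by simpa using i.conj a⁻¹) (mem_cj.1 hd.1) (by
    have : (a⁻¹ * b)⁻¹ * (a⁻¹ * d * a) * (a⁻¹ * b) = b⁻¹ * d * b := by group
    rw [this]; exact mem_cj.1 hd.2)
  apply ne
  have : cj a (cj (a⁻¹ * b) K) = cj a K := by rw [cj_eq_self h1]
  rw [← this, cj_cj, mul_inv_cancel_left]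

theorem Hy.cenB (h : Hy A K) (hB : Vx K B) (hd : d ∈ B) (i : Inv d) : cen1 d ≤ nor B := fun c hc => by
  rw [← cj_eq_self_iff]
  by_contra ne
  refine h.tiB (vx_cj hB c) hB ne d ⟨?_, hd⟩ i
  have := conj_mem_cj (g := c) hd
  rwa [mem_centralizer_singleton_iff.1 hc, mul_inv_cancel_right] at this

theorem Hy.nelB (h : Hy A K) (B : Subgroup G) (hB : Vx K B) (R : Subgroup G) (hR : IsSyl 2 R B) :
    ¬ El R := by
  obtain ⟨g, rfl⟩ := hB
  intro e
  have h1 := hR.cj g⁻¹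
  rw [cj_inv_cj] at h1
  refine h.nel _ h1 fun a ha => ?_
  have := e _ (mem_cj.1 ha)
  calc a * a = g⁻¹ * (g⁻¹⁻¹ * a * g⁻¹ * (g⁻¹⁻¹ * a * g⁻¹)) * g := by group
    _ = 1 := by rw [this]; group

theorem Hy.fc [A.Normal] (h : Hy A K) : FC K := fun _ hB _ hP x hx hn y hy hy' =>
  commutatorElement_eq_one_iff_mul_comm.1
    ((h.niB hB).eq_one hP (comm_mem hx hy) ⟨comm_mem_right hn hy', h.cm x y⟩)

theorem Hy.syl [A.Normal] (h : Hy A K) (hB : Vx K B) (hU : IsPGroup 2 U) (hn : U ≤ nor B) :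
    ∃ T, IsSyl 2 T B ∧ ∀ x ∈ U, ∀ y ∈ T, x * y = y * x := by
  obtain ⟨P, hP, hl, hT⟩ := exists_inv_syl hU hn
  exact ⟨_, hT, fun x hx y hy => h.fc B hB P hP.isPGroup x (hl hx) (hn hx) y hy.1 hy.2⟩

theorem Hy.mn [A.Normal] (h : Hy A K) (hB : Vx K B) (hB' : Vx K B') (hd : d ∈ B) (i : Inv d)
    (hn : d ∈ nor B') : B ≤ nor B' := by
  have : Fact (Nat.Prime 2) := ⟨Nat.prime_two⟩
  obtain ⟨T', hT', c'⟩ := h.syl hB' i.isPGroup ((zpowers_le).2 hn)
  have n' : T' ≤ nor B := fun y hy => h.cenB hB hd i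
    (mem_centralizer_singleton_iff.2 (c' d (mem_zpowers d) y hy).symm)
  obtain ⟨T, hT, c⟩ := h.syl hB hT'.isPGroup n'
  have f4 : Four B' := by obtain ⟨g, rfl⟩ := hB'; exact h.four.cj g
  obtain ⟨s, hs, t, ht, is, it, ne, cst⟩ := syl_four hT' f4
  have nT : T ≤ nor B' := fun y hy => h.cenB hB' (hT'.le hs) is
    (mem_centralizer_singleton_iff.2 (c s hs y hy).symm)
  have n0 : T' ≤ nor (B ⊓ A) := le_normalizer_inf n' (by rw [normalizer_eq_top]; exact le_top)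
  have h0 : B ⊓ A ≤ nor B' :=
    le_of_four (inv_iff.1 is) (inv_iff.1 it) cst ne (Nat.coprime_two_right.2 (h.niB hB).odd)
      (n0 hs) (n0 ht) (inf_le_right.trans (h.cenB hB' (hT'.le hs) is))
      (inf_le_right.trans (h.cenB hB' (hT'.le ht) it))
      (inf_le_right.trans (h.cenB hB' (hT'.le (mul_mem hs ht)) (is.mul it ne cst)))
  refine le_of_forall_prime_pow_mem fun q hq _ x hx ⟨k, hk⟩ => ?_
  by_cases e : q = 2
  · subst e
    obtain ⟨c, hc, hl⟩ := hT.exists_cj_le (isPGroup_zpowers hk) ((zpowers_le).2 hx)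
    have h1 : x = ⁅x, c⁆ * (c * x * c⁻¹) := by rw [commutatorElement_def]; group
    rw [h1]
    exact mul_mem (h0 ⟨comm_mem hx hc, h.cm x c⟩) (nT (hl (conj_mem_cj (mem_zpowers x))))
  · obtain ⟨n, hn⟩ := h.pw x
    have h1 : x ∈ zpowers (x ^ 2 ^ n) := mem_zpowers_pow_iff.2
      (Nat.Coprime.coprime_dvd_right (orderOf_dvd_of_pow_eq_one hk)
        (Nat.Coprime.pow _ _ ((Nat.coprime_primes Nat.prime_two hq).2 (Ne.symm e))))
    exact h0 ⟨hx, (zpowers_le).2 hn h1⟩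

theorem Hy.mc [A.Normal] (h : Hy A K) : MC K := by
  have mn : MN K :=
    { four := fun B ⟨g, e⟩ => e ▸ h.four.cj g
      ti := fun B B' => h.tiB
      mn := fun B B' hB hB' d hd i hn => h.mn hB hB' hd i hn
      ne := fun B hB R hR => by
        have := h.nelB B hB R hR
        simp only [El, not_forall] at this
        obtain ⟨a, ha, h1⟩ := this
        exact ⟨a, ha, Or.inl h1⟩ }
  exact f3_of mn (H62.FE.jobF3a G K mn)

theorem Hy.cen [A.Normal] (h : Hy A K) (hA : IsQuasisimple A) : ⁅K, A⁆ = ⊥ := by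
  have key : ∀ M : Subgroup G, A ≤ nor M → K ≤ M → ⁅M ⊓ A, A⁆ = ⊥ → ⁅K, A⁆ = ⊥ := fun M n l e =>
    H14.commutator_eq_bot_of_perfect (quasi_sub_perfect hA) (le_bot_iff.1 (e ▸ commutator_mono
      (le_inf ((commutator_mono l le_rfl).trans (commutator_le_left' n)) (commutator_le_right K A)) le_rfl))
  have h1 : K ≤ ⨅ g : G, nor (cj g K) :=
    le_iInf fun g => all_nor h.mc h.fc h.nelB (vx_self K) ⟨g, rfl⟩
  have h2 : A ≤ nor (⨅ g : G, nor (cj g K)) := fun a _ => mem_normalizer_of_cj_le (le_iInf fun g => by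
    rw [cj_le_iff, cj_normalizer, cj_cj]
    exact iInf_le (fun g : G => nor (cj g K)) _)
  rcases quasi_sub_normalized hA h2 with h3 | h3
  · have h4 : A ≤ nor K := by
      have := h3.trans (iInf_le _ 1)
      rwa [cj_one] at this
    rcases quasi_sub_normalized hA h4 with h5 | h5
    · obtain ⟨d, hd, i⟩ := exists_inv_of_even (H51.CT.two_dvd_quasi hA)
      exact (h.ni d ⟨h5 hd, hd⟩ i).elim
    · exact key K h4 le_rfl h5
  · exact key _ h2 h1 h3

theorem te_el {Q : Subgroup G} (te : IsTightlyEmbedded Q) (g c d : G) (i : Inv d) (h1 : d ∈ cj g Q)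
    (h2 : c⁻¹ * d * c ∈ cj g Q) : c ∈ nor (cj g Q) := by
  have h3 : g⁻¹ * c * g ∈ nor Q := by
    by_contra hn
    refine ni_of_odd (te.2 _ hn) (g⁻¹ * d * g) ⟨mem_cj.1 h1, mem_cj.2 ?_⟩ (by simpa using i.conj g⁻¹)
    have : (g⁻¹ * c * g)⁻¹ * (g⁻¹ * d * g) * (g⁻¹ * c * g) = g⁻¹ * (c⁻¹ * d * c) * g := by group
    rw [this]
    exact mem_cj.1 h2
  have := mem_cj.2 h3
  rwa [cj_normalizer] at this

theorem ni_K {g : G} {T : Subgroup G} (h : H14.NF.NE K g T) : NI (cj g (cen K) ⊓ K) := by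
  intro d hd i
  obtain ⟨R, hR⟩ := H54.NF.nr_of_ne h
  have h1 : cen K ≤ nor (cj g (cen K)) := fun c hc => H77.FeMQ.cen1_le h.std.2.1 g hd.1 i
    (mem_centralizer_singleton_iff.2 (mem_centralizer_iff.1 hc d hd.2).symm)
  refine hR.lt fun r hr => mem_centralizer_iff.2 fun t ht => (commutatorElement_eq_one_iff_mul_comm.1 ?_).symm
  have h2 := comm_mem_left hr (hR.norR ht)
  exact (ni_of_odd (h.std.2.1.2 g h.out)).eq_one hR.sylR.isPGroup h2
    ⟨hR.sylR.le h2, comm_mem_right (h1 (hR.sylR.le hr)) (h.syl.le ht).1⟩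

theorem ch : H14.NF.ChX1.{u} := by
  intro G _ _ K g T h ab four
  by_contra nel
  have : Fact (Nat.Prime 2) := ⟨Nat.prime_two⟩
  have nK : T ≤ nor K := (h.syl.le.trans inf_le_right).trans h.std.2.2.2.ge
  have nX : K ⊔ T ≤ nor K := sup_le le_normalizer nK
  have hn : (K.subgroupOf (K ⊔ T)).Normal := normal_subgroupOf_of_le_normalizer nX
  have dec : ∀ x : ↥(K ⊔ T), ∃ t : ↥(K ⊔ T), (t : G) ∈ T ∧
      (QuotientGroup.mk' (K.subgroupOf (K ⊔ T))) x = QuotientGroup.mk' (K.subgroupOf (K ⊔ T)) t := by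
    intro x
    obtain ⟨k, hk, t, ht, e⟩ := (mem_sup_right_norm nK).1 x.2
    refine ⟨⟨t, mem_sup_right ht⟩, ht, ?_⟩
    have : x = ⟨k, mem_sup_left hk⟩ * ⟨t, mem_sup_right ht⟩ := Subtype.ext e
    rw [this, map_mul, (QuotientGroup.eq_one_iff (N := K.subgroupOf (K ⊔ T)) ⟨k, mem_sup_left hk⟩).2 hk |>
      (show QuotientGroup.mk' (K.subgroupOf (K ⊔ T)) ⟨k, mem_sup_left hk⟩ = 1 from ·), one_mul]
  have hT : IsSyl 2 (T.subgroupOf (K ⊔ T)) ((cj g (cen K)).subgroupOf (K ⊔ T)) := by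
    have h1 : IsSyl 2 T (cj g (cen K) ⊓ (K ⊔ T)) :=
      h.syl.of_le (le_inf (h.syl.le.trans inf_le_left) le_sup_right)
        (inf_le_inf_left _ (nX.trans h.std.2.2.2.le))
    have := h1.subgroupOf inf_le_right
    rwa [inf_subgroupOf_right] at this
  have hy : Hy (K.subgroupOf (K ⊔ T)) ((cj g (cen K)).subgroupOf (K ⊔ T)) :=
    { cm := fun x y => by
        obtain ⟨t, ht, e⟩ := dec x
        obtain ⟨t', ht', e'⟩ := dec y
        have : ⁅t, t'⁆ = 1 := commutatorElement_eq_one_iff_mul_comm.2 (Subtype.ext (ab _ ht _ ht'))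
        rw [← QuotientGroup.ker_mk' (K.subgroupOf (K ⊔ T)), MonoidHom.mem_ker, map_commutatorElement, e, e',
          ← map_commutatorElement, this, map_one]
      pw := fun x => by
        obtain ⟨t, ht, e⟩ := dec x
        obtain ⟨n, hn⟩ := h.syl.isPGroup ⟨t, ht⟩
        have h0 : (t : G) ^ 2 ^ n = 1 := congrArg Subtype.val hn
        have : t ^ 2 ^ n = 1 := Subtype.ext h0
        refine ⟨n, ?_⟩
        rw [← QuotientGroup.ker_mk' (K.subgroupOf (K ⊔ T)), MonoidHom.mem_ker, map_pow, e, ← map_pow, this,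
          map_one]
      ti := fun c d i h1 h2 => by
        have h3 := te_el h.std.2.1 g c d (i.map (K ⊔ T).subtype (fun e => i.1 (Subtype.ext e))) h1 h2
        exact mem_normalizer_iff.2 fun x => mem_normalizer_iff.1 h3 x
      ni := fun d hd i => ni_K h d hd (i.map (K ⊔ T).subtype (fun e => i.1 (Subtype.ext e)))
      four := by
        obtain ⟨s, hs, t, ht, is, it, ne, c⟩ := four
        exact ⟨⟨s, mem_sup_right hs⟩, (h.syl.le hs).1, ⟨t, mem_sup_right ht⟩, (h.syl.le ht).1,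
          ⟨fun e => is.1 (congrArg Subtype.val e), Subtype.ext is.2⟩,
          ⟨fun e => it.1 (congrArg Subtype.val e), Subtype.ext it.2⟩,
          fun e => ne (congrArg Subtype.val e), Subtype.ext c⟩
      nel := fun R hR e => nel fun t ht => by
        obtain ⟨c, -, rfl⟩ := hT.exists_cj_eq hR
        have h1 := e _ (conj_mem_cj (g := c) (show (⟨t, mem_sup_right ht⟩ : ↥(K ⊔ T)) ∈ T.subgroupOf (K ⊔ T) from ht))
        have h2 : (⟨t, mem_sup_right ht⟩ : ↥(K ⊔ T)) * ⟨t, mem_sup_right ht⟩ = 1 := by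
          generalize (⟨t, mem_sup_right ht⟩ : ↥(K ⊔ T)) = a at h1
          calc a * a = c⁻¹ * (c * a * c⁻¹ * (c * a * c⁻¹)) * c := by group
            _ = 1 := by rw [h1]; group
        exact congrArg Subtype.val h2 }
  have hc := hy.cen ((quasi_subgroupOf_iff le_sup_left).2 h.std.1)
  obtain ⟨d, hd, i⟩ := four_exists_inv four
  refine ni_of_odd (h.std.2.1.2 g h.out) d ⟨mem_centralizer_iff.2 fun k hk => ?_, (h.syl.le hd).1⟩ i
  have h1 : ⁅(⟨d, mem_sup_right hd⟩ : ↥(K ⊔ T)), (⟨k, mem_sup_left hk⟩ : ↥(K ⊔ T))⁆ ∈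
      ⁅(cj g (cen K)).subgroupOf (K ⊔ T), K.subgroupOf (K ⊔ T)⁆ :=
    commutator_mem_commutator (h.syl.le hd).1 hk
  rw [hc, mem_bot, commutatorElement_eq_one_iff_mul_comm] at h1
  exact (congrArg Subtype.val h1).symm

end H85.X1
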